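import Cfsg.Agent.Base.Imports

/-! On-demand lemmas of Prelude and Mathlib definitions, produced once here so that no other file holds a copy. -/

set_option linter.all false

namespace CL.BaseAux

theorem r1_0 : True := by
  have := @_root_.Cfsg.wordsOfWeight.eq_1.{0}
  have := @_root_.Cfsg.zspan.eq_1.{0}
  have := @_root_.Cfsg.zspanOn.eq_1.{0}
  have := @_root_.Cfsg.BNPair.B.eq_1.{0}
  have := @_root_.Cfsg.BNPair.Irreducible.eq_1.{0}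
  have := @_root_.Cfsg.BNPair.IsSplit.eq_1.{0}
  have := @_root_.Cfsg.BNPair.N.eq_1.{0}
  have := @_root_.Cfsg.BNPair.S.eq_1.{0}
  have := @_root_.Cfsg.BNPair.mk.congr_simp.{0}
  have := @_root_.Cfsg.BNPair.parabolic.eq_1.{0}
  have := @_root_.Cfsg.BNPair.rank.eq_1.{0}
  have := @_root_.Cfsg.DadeHypothesis.mk.congr_simp.{0}
  have := @_root_.Cfsg.IsCoherenceSystem.mk.congr_simp.{0,0}
  have := @_root_.Cfsg.IsCyclicTIFamily.mk.congr_simp.{0}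
  have := @_root_.Cfsg.IsRankOneSetup.mk.congr_simp.{0,0}
  have := @_root_.Cfsg.IsSigmaDecomposition.mk.congr_simp.{0}
  have := @_root_.Cfsg.IsTypePWith.mk.congr_simp.{0}
  have := @_root_.Cfsg.Lie.E6.eq_1.{0}
  have := @_root_.Cfsg.Lie.E6univ.eq_1.{0}
  have := @_root_.Cfsg.Lie.I27.eq_1
  have := @_root_.Cfsg.Lie.Iso2E6.eq_1.{0}
  have := @_root_.Cfsg.Lie.Iso2F4.eq_1.{0}
  have := @_root_.Cfsg.Lie.Iso3D4.eq_1.{0}
  have := @_root_.Cfsg.Lie.IsoChevE6.eq_1.{0}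
  have := @_root_.Cfsg.Lie.IsoChevG2.eq_1.{0}
  have := @_root_.Cfsg.Lie.IsoE6.eq_1.{0}
  have := @_root_.Cfsg.Lie.IsoE7.eq_1.{0}
  have := @_root_.Cfsg.Lie.IsoE8.eq_1.{0}
  have := @_root_.Cfsg.Lie.IsoF4.eq_1.{0}
  have := @_root_.Cfsg.Lie.IsoRee.eq_1.{0}
  trivial

theorem r1_1 : True := by
  have := @_root_.Cfsg.Lie.IsoSuzuki.eq_1.{0}
  have := @_root_.Cfsg.Lie.IsoTits.eq_1.{0}
  have := @_root_.Cfsg.Lie.Sp4.eq_1.{0}
  have := @_root_.Cfsg.Lie.Sz.eq_1.{0}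
  have := @_root_.Cfsg.Lie.TitsGroup.eq_1
  have := @_root_.Cfsg.Lie.altForm4.eq_1.{0}
  have := @_root_.Cfsg.Lie.b2ClassWord.eq_1.{0}
  have := @_root_.Cfsg.Lie.chevB2.eq_1
  have := @_root_.Cfsg.Lie.chevB2CartanSR.eq_1
  have := @_root_.Cfsg.Lie.chevB2Chain.eq_1
  have := @_root_.Cfsg.Lie.chevB2Chain0.eq_1
  have := @_root_.Cfsg.Lie.chevB2Chain1.eq_1
  have := @_root_.Cfsg.Lie.chevB2Chain2.eq_1
  have := @_root_.Cfsg.Lie.chevB2Chain3.eq_1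
  have := @_root_.Cfsg.Lie.chevB2Chain4.eq_1
  have := @_root_.Cfsg.Lie.chevB2Chain5.eq_1
  have := @_root_.Cfsg.Lie.chevB2Chain6.eq_1
  have := @_root_.Cfsg.Lie.chevB2Chain7.eq_1
  have := @_root_.Cfsg.Lie.chevB2Coroot.eq_1
  have := @_root_.Cfsg.Lie.chevB2NegIdx.eq_1
  have := @_root_.Cfsg.Lie.chevB2SimpleIdx.eq_1
  have := @_root_.Cfsg.Lie.chevD4.eq_1
  have := @_root_.Cfsg.Lie.chevD4CartanSR.eq_1
  have := @_root_.Cfsg.Lie.chevD4Chain.eq_1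
  have := @_root_.Cfsg.Lie.chevD4Chain0.eq_1
  have := @_root_.Cfsg.Lie.chevD4Chain1.eq_1
  have := @_root_.Cfsg.Lie.chevD4Chain10.eq_1
  have := @_root_.Cfsg.Lie.chevD4Chain11.eq_1
  have := @_root_.Cfsg.Lie.chevD4Chain12.eq_1
  have := @_root_.Cfsg.Lie.chevD4Chain13.eq_1
  trivial

theorem r1_2 : True := by
  have := @_root_.Cfsg.Lie.chevD4Chain14.eq_1
  have := @_root_.Cfsg.Lie.chevD4Chain15.eq_1
  have := @_root_.Cfsg.Lie.chevD4Chain16.eq_1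
  have := @_root_.Cfsg.Lie.chevD4Chain17.eq_1
  have := @_root_.Cfsg.Lie.chevD4Chain18.eq_1
  have := @_root_.Cfsg.Lie.chevD4Chain19.eq_1
  have := @_root_.Cfsg.Lie.chevD4Chain2.eq_1
  have := @_root_.Cfsg.Lie.chevD4Chain20.eq_1
  have := @_root_.Cfsg.Lie.chevD4Chain21.eq_1
  have := @_root_.Cfsg.Lie.chevD4Chain22.eq_1
  have := @_root_.Cfsg.Lie.chevD4Chain23.eq_1
  have := @_root_.Cfsg.Lie.chevD4Chain3.eq_1
  have := @_root_.Cfsg.Lie.chevD4Chain4.eq_1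
  have := @_root_.Cfsg.Lie.chevD4Chain5.eq_1
  have := @_root_.Cfsg.Lie.chevD4Chain6.eq_1
  have := @_root_.Cfsg.Lie.chevD4Chain7.eq_1
  have := @_root_.Cfsg.Lie.chevD4Chain8.eq_1
  have := @_root_.Cfsg.Lie.chevD4Chain9.eq_1
  have := @_root_.Cfsg.Lie.chevD4Coroot.eq_1
  have := @_root_.Cfsg.Lie.chevD4NegIdx.eq_1
  have := @_root_.Cfsg.Lie.chevD4SimpleIdx.eq_1
  have := @_root_.Cfsg.Lie.chevE6.eq_1
  have := @_root_.Cfsg.Lie.chevE6CartanSR.eq_1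
  have := @_root_.Cfsg.Lie.chevE6Chain.eq_1
  have := @_root_.Cfsg.Lie.chevE6Chain0.eq_1
  have := @_root_.Cfsg.Lie.chevE6Chain1.eq_1
  have := @_root_.Cfsg.Lie.chevE6Chain10.eq_1
  have := @_root_.Cfsg.Lie.chevE6Chain11.eq_1
  have := @_root_.Cfsg.Lie.chevE6Chain12.eq_1
  have := @_root_.Cfsg.Lie.chevE6Chain13.eq_1
  trivial

theorem r1_3 : True := by
  have := @_root_.Cfsg.Lie.chevE6Chain14.eq_1
  have := @_root_.Cfsg.Lie.chevE6Chain15.eq_1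
  have := @_root_.Cfsg.Lie.chevE6Chain16.eq_1
  have := @_root_.Cfsg.Lie.chevE6Chain17.eq_1
  have := @_root_.Cfsg.Lie.chevE6Chain18.eq_1
  have := @_root_.Cfsg.Lie.chevE6Chain19.eq_1
  have := @_root_.Cfsg.Lie.chevE6Chain2.eq_1
  have := @_root_.Cfsg.Lie.chevE6Chain20.eq_1
  have := @_root_.Cfsg.Lie.chevE6Chain21.eq_1
  have := @_root_.Cfsg.Lie.chevE6Chain22.eq_1
  have := @_root_.Cfsg.Lie.chevE6Chain23.eq_1
  have := @_root_.Cfsg.Lie.chevE6Chain24.eq_1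
  have := @_root_.Cfsg.Lie.chevE6Chain25.eq_1
  have := @_root_.Cfsg.Lie.chevE6Chain26.eq_1
  have := @_root_.Cfsg.Lie.chevE6Chain27.eq_1
  have := @_root_.Cfsg.Lie.chevE6Chain28.eq_1
  have := @_root_.Cfsg.Lie.chevE6Chain29.eq_1
  have := @_root_.Cfsg.Lie.chevE6Chain3.eq_1
  have := @_root_.Cfsg.Lie.chevE6Chain30.eq_1
  have := @_root_.Cfsg.Lie.chevE6Chain31.eq_1
  have := @_root_.Cfsg.Lie.chevE6Chain32.eq_1
  have := @_root_.Cfsg.Lie.chevE6Chain33.eq_1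
  have := @_root_.Cfsg.Lie.chevE6Chain34.eq_1
  have := @_root_.Cfsg.Lie.chevE6Chain35.eq_1
  have := @_root_.Cfsg.Lie.chevE6Chain36.eq_1
  have := @_root_.Cfsg.Lie.chevE6Chain37.eq_1
  have := @_root_.Cfsg.Lie.chevE6Chain38.eq_1
  have := @_root_.Cfsg.Lie.chevE6Chain39.eq_1
  have := @_root_.Cfsg.Lie.chevE6Chain4.eq_1
  have := @_root_.Cfsg.Lie.chevE6Chain40.eq_1
  trivial

theorem r1_4 : True := by
  have := @_root_.Cfsg.Lie.chevE6Chain41.eq_1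
  have := @_root_.Cfsg.Lie.chevE6Chain42.eq_1
  have := @_root_.Cfsg.Lie.chevE6Chain43.eq_1
  have := @_root_.Cfsg.Lie.chevE6Chain44.eq_1
  have := @_root_.Cfsg.Lie.chevE6Chain45.eq_1
  have := @_root_.Cfsg.Lie.chevE6Chain46.eq_1
  have := @_root_.Cfsg.Lie.chevE6Chain47.eq_1
  have := @_root_.Cfsg.Lie.chevE6Chain48.eq_1
  have := @_root_.Cfsg.Lie.chevE6Chain49.eq_1
  have := @_root_.Cfsg.Lie.chevE6Chain5.eq_1
  have := @_root_.Cfsg.Lie.chevE6Chain50.eq_1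
  have := @_root_.Cfsg.Lie.chevE6Chain51.eq_1
  have := @_root_.Cfsg.Lie.chevE6Chain52.eq_1
  have := @_root_.Cfsg.Lie.chevE6Chain53.eq_1
  have := @_root_.Cfsg.Lie.chevE6Chain54.eq_1
  have := @_root_.Cfsg.Lie.chevE6Chain55.eq_1
  have := @_root_.Cfsg.Lie.chevE6Chain56.eq_1
  have := @_root_.Cfsg.Lie.chevE6Chain57.eq_1
  have := @_root_.Cfsg.Lie.chevE6Chain58.eq_1
  have := @_root_.Cfsg.Lie.chevE6Chain59.eq_1
  have := @_root_.Cfsg.Lie.chevE6Chain6.eq_1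
  have := @_root_.Cfsg.Lie.chevE6Chain60.eq_1
  have := @_root_.Cfsg.Lie.chevE6Chain61.eq_1
  have := @_root_.Cfsg.Lie.chevE6Chain62.eq_1
  have := @_root_.Cfsg.Lie.chevE6Chain63.eq_1
  have := @_root_.Cfsg.Lie.chevE6Chain64.eq_1
  have := @_root_.Cfsg.Lie.chevE6Chain65.eq_1
  have := @_root_.Cfsg.Lie.chevE6Chain66.eq_1
  have := @_root_.Cfsg.Lie.chevE6Chain67.eq_1
  have := @_root_.Cfsg.Lie.chevE6Chain68.eq_1
  trivial

theorem r1_5 : True := by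
  have := @_root_.Cfsg.Lie.chevE6Chain69.eq_1
  have := @_root_.Cfsg.Lie.chevE6Chain7.eq_1
  have := @_root_.Cfsg.Lie.chevE6Chain70.eq_1
  have := @_root_.Cfsg.Lie.chevE6Chain71.eq_1
  have := @_root_.Cfsg.Lie.chevE6Chain8.eq_1
  have := @_root_.Cfsg.Lie.chevE6Chain9.eq_1
  have := @_root_.Cfsg.Lie.chevE6Coroot.eq_1
  have := @_root_.Cfsg.Lie.chevE6NegIdx.eq_1
  have := @_root_.Cfsg.Lie.chevE6SimpleIdx.eq_1
  have := @_root_.Cfsg.Lie.chevE7.eq_1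
  have := @_root_.Cfsg.Lie.chevE7CartanSR.eq_1
  have := @_root_.Cfsg.Lie.chevE7Chain.eq_1
  have := @_root_.Cfsg.Lie.chevE7Chain0.eq_1
  have := @_root_.Cfsg.Lie.chevE7Chain1.eq_1
  have := @_root_.Cfsg.Lie.chevE7Chain10.eq_1
  have := @_root_.Cfsg.Lie.chevE7Chain100.eq_1
  have := @_root_.Cfsg.Lie.chevE7Chain101.eq_1
  have := @_root_.Cfsg.Lie.chevE7Chain102.eq_1
  have := @_root_.Cfsg.Lie.chevE7Chain103.eq_1
  have := @_root_.Cfsg.Lie.chevE7Chain104.eq_1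
  have := @_root_.Cfsg.Lie.chevE7Chain105.eq_1
  have := @_root_.Cfsg.Lie.chevE7Chain106.eq_1
  have := @_root_.Cfsg.Lie.chevE7Chain107.eq_1
  have := @_root_.Cfsg.Lie.chevE7Chain108.eq_1
  have := @_root_.Cfsg.Lie.chevE7Chain109.eq_1
  have := @_root_.Cfsg.Lie.chevE7Chain11.eq_1
  have := @_root_.Cfsg.Lie.chevE7Chain110.eq_1
  have := @_root_.Cfsg.Lie.chevE7Chain111.eq_1
  have := @_root_.Cfsg.Lie.chevE7Chain112.eq_1
  have := @_root_.Cfsg.Lie.chevE7Chain113.eq_1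
  trivial

theorem r1_6 : True := by
  have := @_root_.Cfsg.Lie.chevE7Chain114.eq_1
  have := @_root_.Cfsg.Lie.chevE7Chain115.eq_1
  have := @_root_.Cfsg.Lie.chevE7Chain116.eq_1
  have := @_root_.Cfsg.Lie.chevE7Chain117.eq_1
  have := @_root_.Cfsg.Lie.chevE7Chain118.eq_1
  have := @_root_.Cfsg.Lie.chevE7Chain119.eq_1
  have := @_root_.Cfsg.Lie.chevE7Chain12.eq_1
  have := @_root_.Cfsg.Lie.chevE7Chain120.eq_1
  have := @_root_.Cfsg.Lie.chevE7Chain121.eq_1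
  have := @_root_.Cfsg.Lie.chevE7Chain122.eq_1
  have := @_root_.Cfsg.Lie.chevE7Chain123.eq_1
  have := @_root_.Cfsg.Lie.chevE7Chain124.eq_1
  have := @_root_.Cfsg.Lie.chevE7Chain125.eq_1
  have := @_root_.Cfsg.Lie.chevE7Chain13.eq_1
  have := @_root_.Cfsg.Lie.chevE7Chain14.eq_1
  have := @_root_.Cfsg.Lie.chevE7Chain15.eq_1
  have := @_root_.Cfsg.Lie.chevE7Chain16.eq_1
  have := @_root_.Cfsg.Lie.chevE7Chain17.eq_1
  have := @_root_.Cfsg.Lie.chevE7Chain18.eq_1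
  have := @_root_.Cfsg.Lie.chevE7Chain19.eq_1
  have := @_root_.Cfsg.Lie.chevE7Chain2.eq_1
  have := @_root_.Cfsg.Lie.chevE7Chain20.eq_1
  have := @_root_.Cfsg.Lie.chevE7Chain21.eq_1
  have := @_root_.Cfsg.Lie.chevE7Chain22.eq_1
  have := @_root_.Cfsg.Lie.chevE7Chain23.eq_1
  have := @_root_.Cfsg.Lie.chevE7Chain24.eq_1
  have := @_root_.Cfsg.Lie.chevE7Chain25.eq_1
  have := @_root_.Cfsg.Lie.chevE7Chain26.eq_1
  have := @_root_.Cfsg.Lie.chevE7Chain27.eq_1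
  have := @_root_.Cfsg.Lie.chevE7Chain28.eq_1
  trivial

theorem r1_7 : True := by
  have := @_root_.Cfsg.Lie.chevE7Chain29.eq_1
  have := @_root_.Cfsg.Lie.chevE7Chain3.eq_1
  have := @_root_.Cfsg.Lie.chevE7Chain30.eq_1
  have := @_root_.Cfsg.Lie.chevE7Chain31.eq_1
  have := @_root_.Cfsg.Lie.chevE7Chain32.eq_1
  have := @_root_.Cfsg.Lie.chevE7Chain33.eq_1
  have := @_root_.Cfsg.Lie.chevE7Chain34.eq_1
  have := @_root_.Cfsg.Lie.chevE7Chain35.eq_1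
  have := @_root_.Cfsg.Lie.chevE7Chain36.eq_1
  have := @_root_.Cfsg.Lie.chevE7Chain37.eq_1
  have := @_root_.Cfsg.Lie.chevE7Chain38.eq_1
  have := @_root_.Cfsg.Lie.chevE7Chain39.eq_1
  have := @_root_.Cfsg.Lie.chevE7Chain4.eq_1
  have := @_root_.Cfsg.Lie.chevE7Chain40.eq_1
  have := @_root_.Cfsg.Lie.chevE7Chain41.eq_1
  have := @_root_.Cfsg.Lie.chevE7Chain42.eq_1
  have := @_root_.Cfsg.Lie.chevE7Chain43.eq_1
  have := @_root_.Cfsg.Lie.chevE7Chain44.eq_1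
  have := @_root_.Cfsg.Lie.chevE7Chain45.eq_1
  have := @_root_.Cfsg.Lie.chevE7Chain46.eq_1
  have := @_root_.Cfsg.Lie.chevE7Chain47.eq_1
  have := @_root_.Cfsg.Lie.chevE7Chain48.eq_1
  have := @_root_.Cfsg.Lie.chevE7Chain49.eq_1
  have := @_root_.Cfsg.Lie.chevE7Chain5.eq_1
  have := @_root_.Cfsg.Lie.chevE7Chain50.eq_1
  have := @_root_.Cfsg.Lie.chevE7Chain51.eq_1
  have := @_root_.Cfsg.Lie.chevE7Chain52.eq_1
  have := @_root_.Cfsg.Lie.chevE7Chain53.eq_1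
  have := @_root_.Cfsg.Lie.chevE7Chain54.eq_1
  have := @_root_.Cfsg.Lie.chevE7Chain55.eq_1
  trivial

theorem r1_8 : True := by
  have := @_root_.Cfsg.Lie.chevE7Chain56.eq_1
  have := @_root_.Cfsg.Lie.chevE7Chain57.eq_1
  have := @_root_.Cfsg.Lie.chevE7Chain58.eq_1
  have := @_root_.Cfsg.Lie.chevE7Chain59.eq_1
  have := @_root_.Cfsg.Lie.chevE7Chain6.eq_1
  have := @_root_.Cfsg.Lie.chevE7Chain60.eq_1
  have := @_root_.Cfsg.Lie.chevE7Chain61.eq_1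
  have := @_root_.Cfsg.Lie.chevE7Chain62.eq_1
  have := @_root_.Cfsg.Lie.chevE7Chain63.eq_1
  have := @_root_.Cfsg.Lie.chevE7Chain64.eq_1
  have := @_root_.Cfsg.Lie.chevE7Chain65.eq_1
  have := @_root_.Cfsg.Lie.chevE7Chain66.eq_1
  have := @_root_.Cfsg.Lie.chevE7Chain67.eq_1
  have := @_root_.Cfsg.Lie.chevE7Chain68.eq_1
  have := @_root_.Cfsg.Lie.chevE7Chain69.eq_1
  have := @_root_.Cfsg.Lie.chevE7Chain7.eq_1
  have := @_root_.Cfsg.Lie.chevE7Chain70.eq_1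
  have := @_root_.Cfsg.Lie.chevE7Chain71.eq_1
  have := @_root_.Cfsg.Lie.chevE7Chain72.eq_1
  have := @_root_.Cfsg.Lie.chevE7Chain73.eq_1
  have := @_root_.Cfsg.Lie.chevE7Chain74.eq_1
  have := @_root_.Cfsg.Lie.chevE7Chain75.eq_1
  have := @_root_.Cfsg.Lie.chevE7Chain76.eq_1
  have := @_root_.Cfsg.Lie.chevE7Chain77.eq_1
  have := @_root_.Cfsg.Lie.chevE7Chain78.eq_1
  have := @_root_.Cfsg.Lie.chevE7Chain79.eq_1
  have := @_root_.Cfsg.Lie.chevE7Chain8.eq_1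
  have := @_root_.Cfsg.Lie.chevE7Chain80.eq_1
  have := @_root_.Cfsg.Lie.chevE7Chain81.eq_1
  have := @_root_.Cfsg.Lie.chevE7Chain82.eq_1
  trivial

theorem r1_9 : True := by
  have := @_root_.Cfsg.Lie.chevE7Chain83.eq_1
  have := @_root_.Cfsg.Lie.chevE7Chain84.eq_1
  have := @_root_.Cfsg.Lie.chevE7Chain85.eq_1
  have := @_root_.Cfsg.Lie.chevE7Chain86.eq_1
  have := @_root_.Cfsg.Lie.chevE7Chain87.eq_1
  have := @_root_.Cfsg.Lie.chevE7Chain88.eq_1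
  have := @_root_.Cfsg.Lie.chevE7Chain89.eq_1
  have := @_root_.Cfsg.Lie.chevE7Chain9.eq_1
  have := @_root_.Cfsg.Lie.chevE7Chain90.eq_1
  have := @_root_.Cfsg.Lie.chevE7Chain91.eq_1
  have := @_root_.Cfsg.Lie.chevE7Chain92.eq_1
  have := @_root_.Cfsg.Lie.chevE7Chain93.eq_1
  have := @_root_.Cfsg.Lie.chevE7Chain94.eq_1
  have := @_root_.Cfsg.Lie.chevE7Chain95.eq_1
  have := @_root_.Cfsg.Lie.chevE7Chain96.eq_1
  have := @_root_.Cfsg.Lie.chevE7Chain97.eq_1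
  have := @_root_.Cfsg.Lie.chevE7Chain98.eq_1
  have := @_root_.Cfsg.Lie.chevE7Chain99.eq_1
  have := @_root_.Cfsg.Lie.chevE7Coroot.eq_1
  have := @_root_.Cfsg.Lie.chevE7NegIdx.eq_1
  have := @_root_.Cfsg.Lie.chevE7SimpleIdx.eq_1
  have := @_root_.Cfsg.Lie.chevE8.eq_1
  have := @_root_.Cfsg.Lie.chevE8CartanSR.eq_1
  have := @_root_.Cfsg.Lie.chevE8Chain.eq_1
  have := @_root_.Cfsg.Lie.chevE8Chain0.eq_1
  have := @_root_.Cfsg.Lie.chevE8Chain1.eq_1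
  have := @_root_.Cfsg.Lie.chevE8Chain10.eq_1
  have := @_root_.Cfsg.Lie.chevE8Chain100.eq_1
  have := @_root_.Cfsg.Lie.chevE8Chain101.eq_1
  have := @_root_.Cfsg.Lie.chevE8Chain102.eq_1
  trivial

theorem r1_10 : True := by
  have := @_root_.Cfsg.Lie.chevE8Chain103.eq_1
  have := @_root_.Cfsg.Lie.chevE8Chain104.eq_1
  have := @_root_.Cfsg.Lie.chevE8Chain105.eq_1
  have := @_root_.Cfsg.Lie.chevE8Chain106.eq_1
  have := @_root_.Cfsg.Lie.chevE8Chain107.eq_1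
  have := @_root_.Cfsg.Lie.chevE8Chain108.eq_1
  have := @_root_.Cfsg.Lie.chevE8Chain109.eq_1
  have := @_root_.Cfsg.Lie.chevE8Chain11.eq_1
  have := @_root_.Cfsg.Lie.chevE8Chain110.eq_1
  have := @_root_.Cfsg.Lie.chevE8Chain111.eq_1
  have := @_root_.Cfsg.Lie.chevE8Chain112.eq_1
  have := @_root_.Cfsg.Lie.chevE8Chain113.eq_1
  have := @_root_.Cfsg.Lie.chevE8Chain114.eq_1
  have := @_root_.Cfsg.Lie.chevE8Chain115.eq_1
  have := @_root_.Cfsg.Lie.chevE8Chain116.eq_1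
  have := @_root_.Cfsg.Lie.chevE8Chain117.eq_1
  have := @_root_.Cfsg.Lie.chevE8Chain118.eq_1
  have := @_root_.Cfsg.Lie.chevE8Chain119.eq_1
  have := @_root_.Cfsg.Lie.chevE8Chain12.eq_1
  have := @_root_.Cfsg.Lie.chevE8Chain120.eq_1
  have := @_root_.Cfsg.Lie.chevE8Chain121.eq_1
  have := @_root_.Cfsg.Lie.chevE8Chain122.eq_1
  have := @_root_.Cfsg.Lie.chevE8Chain123.eq_1
  have := @_root_.Cfsg.Lie.chevE8Chain124.eq_1
  have := @_root_.Cfsg.Lie.chevE8Chain125.eq_1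
  have := @_root_.Cfsg.Lie.chevE8Chain126.eq_1
  have := @_root_.Cfsg.Lie.chevE8Chain127.eq_1
  have := @_root_.Cfsg.Lie.chevE8Chain128.eq_1
  have := @_root_.Cfsg.Lie.chevE8Chain129.eq_1
  have := @_root_.Cfsg.Lie.chevE8Chain13.eq_1
  trivial

theorem r1_11 : True := by
  have := @_root_.Cfsg.Lie.chevE8Chain130.eq_1
  have := @_root_.Cfsg.Lie.chevE8Chain131.eq_1
  have := @_root_.Cfsg.Lie.chevE8Chain132.eq_1
  have := @_root_.Cfsg.Lie.chevE8Chain133.eq_1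
  have := @_root_.Cfsg.Lie.chevE8Chain134.eq_1
  have := @_root_.Cfsg.Lie.chevE8Chain135.eq_1
  have := @_root_.Cfsg.Lie.chevE8Chain136.eq_1
  have := @_root_.Cfsg.Lie.chevE8Chain137.eq_1
  have := @_root_.Cfsg.Lie.chevE8Chain138.eq_1
  have := @_root_.Cfsg.Lie.chevE8Chain139.eq_1
  have := @_root_.Cfsg.Lie.chevE8Chain14.eq_1
  have := @_root_.Cfsg.Lie.chevE8Chain140.eq_1
  have := @_root_.Cfsg.Lie.chevE8Chain141.eq_1
  have := @_root_.Cfsg.Lie.chevE8Chain142.eq_1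
  have := @_root_.Cfsg.Lie.chevE8Chain143.eq_1
  have := @_root_.Cfsg.Lie.chevE8Chain144.eq_1
  have := @_root_.Cfsg.Lie.chevE8Chain145.eq_1
  have := @_root_.Cfsg.Lie.chevE8Chain146.eq_1
  have := @_root_.Cfsg.Lie.chevE8Chain147.eq_1
  have := @_root_.Cfsg.Lie.chevE8Chain148.eq_1
  have := @_root_.Cfsg.Lie.chevE8Chain149.eq_1
  have := @_root_.Cfsg.Lie.chevE8Chain15.eq_1
  have := @_root_.Cfsg.Lie.chevE8Chain150.eq_1
  have := @_root_.Cfsg.Lie.chevE8Chain151.eq_1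
  have := @_root_.Cfsg.Lie.chevE8Chain152.eq_1
  have := @_root_.Cfsg.Lie.chevE8Chain153.eq_1
  have := @_root_.Cfsg.Lie.chevE8Chain154.eq_1
  have := @_root_.Cfsg.Lie.chevE8Chain155.eq_1
  have := @_root_.Cfsg.Lie.chevE8Chain156.eq_1
  have := @_root_.Cfsg.Lie.chevE8Chain157.eq_1
  trivial

theorem r1_12 : True := by
  have := @_root_.Cfsg.Lie.chevE8Chain158.eq_1
  have := @_root_.Cfsg.Lie.chevE8Chain159.eq_1
  have := @_root_.Cfsg.Lie.chevE8Chain16.eq_1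
  have := @_root_.Cfsg.Lie.chevE8Chain160.eq_1
  have := @_root_.Cfsg.Lie.chevE8Chain161.eq_1
  have := @_root_.Cfsg.Lie.chevE8Chain162.eq_1
  have := @_root_.Cfsg.Lie.chevE8Chain163.eq_1
  have := @_root_.Cfsg.Lie.chevE8Chain164.eq_1
  have := @_root_.Cfsg.Lie.chevE8Chain165.eq_1
  have := @_root_.Cfsg.Lie.chevE8Chain166.eq_1
  have := @_root_.Cfsg.Lie.chevE8Chain167.eq_1
  have := @_root_.Cfsg.Lie.chevE8Chain168.eq_1
  have := @_root_.Cfsg.Lie.chevE8Chain169.eq_1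
  have := @_root_.Cfsg.Lie.chevE8Chain17.eq_1
  have := @_root_.Cfsg.Lie.chevE8Chain170.eq_1
  have := @_root_.Cfsg.Lie.chevE8Chain171.eq_1
  have := @_root_.Cfsg.Lie.chevE8Chain172.eq_1
  have := @_root_.Cfsg.Lie.chevE8Chain173.eq_1
  have := @_root_.Cfsg.Lie.chevE8Chain174.eq_1
  have := @_root_.Cfsg.Lie.chevE8Chain175.eq_1
  have := @_root_.Cfsg.Lie.chevE8Chain176.eq_1
  have := @_root_.Cfsg.Lie.chevE8Chain177.eq_1
  have := @_root_.Cfsg.Lie.chevE8Chain178.eq_1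
  have := @_root_.Cfsg.Lie.chevE8Chain179.eq_1
  have := @_root_.Cfsg.Lie.chevE8Chain18.eq_1
  have := @_root_.Cfsg.Lie.chevE8Chain180.eq_1
  have := @_root_.Cfsg.Lie.chevE8Chain181.eq_1
  have := @_root_.Cfsg.Lie.chevE8Chain182.eq_1
  have := @_root_.Cfsg.Lie.chevE8Chain183.eq_1
  have := @_root_.Cfsg.Lie.chevE8Chain184.eq_1
  trivial

theorem r1_13 : True := by
  have := @_root_.Cfsg.Lie.chevE8Chain185.eq_1
  have := @_root_.Cfsg.Lie.chevE8Chain186.eq_1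
  have := @_root_.Cfsg.Lie.chevE8Chain187.eq_1
  have := @_root_.Cfsg.Lie.chevE8Chain188.eq_1
  have := @_root_.Cfsg.Lie.chevE8Chain189.eq_1
  have := @_root_.Cfsg.Lie.chevE8Chain19.eq_1
  have := @_root_.Cfsg.Lie.chevE8Chain190.eq_1
  have := @_root_.Cfsg.Lie.chevE8Chain191.eq_1
  have := @_root_.Cfsg.Lie.chevE8Chain192.eq_1
  have := @_root_.Cfsg.Lie.chevE8Chain193.eq_1
  have := @_root_.Cfsg.Lie.chevE8Chain194.eq_1
  have := @_root_.Cfsg.Lie.chevE8Chain195.eq_1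
  have := @_root_.Cfsg.Lie.chevE8Chain196.eq_1
  have := @_root_.Cfsg.Lie.chevE8Chain197.eq_1
  have := @_root_.Cfsg.Lie.chevE8Chain198.eq_1
  have := @_root_.Cfsg.Lie.chevE8Chain199.eq_1
  have := @_root_.Cfsg.Lie.chevE8Chain2.eq_1
  have := @_root_.Cfsg.Lie.chevE8Chain20.eq_1
  have := @_root_.Cfsg.Lie.chevE8Chain200.eq_1
  have := @_root_.Cfsg.Lie.chevE8Chain201.eq_1
  have := @_root_.Cfsg.Lie.chevE8Chain202.eq_1
  have := @_root_.Cfsg.Lie.chevE8Chain203.eq_1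
  have := @_root_.Cfsg.Lie.chevE8Chain204.eq_1
  have := @_root_.Cfsg.Lie.chevE8Chain205.eq_1
  have := @_root_.Cfsg.Lie.chevE8Chain206.eq_1
  have := @_root_.Cfsg.Lie.chevE8Chain207.eq_1
  have := @_root_.Cfsg.Lie.chevE8Chain208.eq_1
  have := @_root_.Cfsg.Lie.chevE8Chain209.eq_1
  have := @_root_.Cfsg.Lie.chevE8Chain21.eq_1
  have := @_root_.Cfsg.Lie.chevE8Chain210.eq_1
  trivial

theorem r1_14 : True := by
  have := @_root_.Cfsg.Lie.chevE8Chain211.eq_1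
  have := @_root_.Cfsg.Lie.chevE8Chain212.eq_1
  have := @_root_.Cfsg.Lie.chevE8Chain213.eq_1
  have := @_root_.Cfsg.Lie.chevE8Chain214.eq_1
  have := @_root_.Cfsg.Lie.chevE8Chain215.eq_1
  have := @_root_.Cfsg.Lie.chevE8Chain216.eq_1
  have := @_root_.Cfsg.Lie.chevE8Chain217.eq_1
  have := @_root_.Cfsg.Lie.chevE8Chain218.eq_1
  have := @_root_.Cfsg.Lie.chevE8Chain219.eq_1
  have := @_root_.Cfsg.Lie.chevE8Chain22.eq_1
  have := @_root_.Cfsg.Lie.chevE8Chain220.eq_1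
  have := @_root_.Cfsg.Lie.chevE8Chain221.eq_1
  have := @_root_.Cfsg.Lie.chevE8Chain222.eq_1
  have := @_root_.Cfsg.Lie.chevE8Chain223.eq_1
  have := @_root_.Cfsg.Lie.chevE8Chain224.eq_1
  have := @_root_.Cfsg.Lie.chevE8Chain225.eq_1
  have := @_root_.Cfsg.Lie.chevE8Chain226.eq_1
  have := @_root_.Cfsg.Lie.chevE8Chain227.eq_1
  have := @_root_.Cfsg.Lie.chevE8Chain228.eq_1
  have := @_root_.Cfsg.Lie.chevE8Chain229.eq_1
  have := @_root_.Cfsg.Lie.chevE8Chain23.eq_1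
  have := @_root_.Cfsg.Lie.chevE8Chain230.eq_1
  have := @_root_.Cfsg.Lie.chevE8Chain231.eq_1
  have := @_root_.Cfsg.Lie.chevE8Chain232.eq_1
  have := @_root_.Cfsg.Lie.chevE8Chain233.eq_1
  have := @_root_.Cfsg.Lie.chevE8Chain234.eq_1
  have := @_root_.Cfsg.Lie.chevE8Chain235.eq_1
  have := @_root_.Cfsg.Lie.chevE8Chain236.eq_1
  have := @_root_.Cfsg.Lie.chevE8Chain237.eq_1
  have := @_root_.Cfsg.Lie.chevE8Chain238.eq_1
  trivial

theorem r1_15 : True := by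
  have := @_root_.Cfsg.Lie.chevE8Chain239.eq_1
  have := @_root_.Cfsg.Lie.chevE8Chain24.eq_1
  have := @_root_.Cfsg.Lie.chevE8Chain25.eq_1
  have := @_root_.Cfsg.Lie.chevE8Chain26.eq_1
  have := @_root_.Cfsg.Lie.chevE8Chain27.eq_1
  have := @_root_.Cfsg.Lie.chevE8Chain28.eq_1
  have := @_root_.Cfsg.Lie.chevE8Chain29.eq_1
  have := @_root_.Cfsg.Lie.chevE8Chain3.eq_1
  have := @_root_.Cfsg.Lie.chevE8Chain30.eq_1
  have := @_root_.Cfsg.Lie.chevE8Chain31.eq_1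
  trivial

end CL.BaseAux
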