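import Cfsg.Agent.Base.Imports

/-! On-demand lemmas of Prelude and Mathlib definitions, produced once here so that no other file holds a copy. -/

set_option linter.all false

namespace CL.BaseAux

theorem r10_0 : True := by
  have := @_root_.TensorProduct.lift.equiv.eq_1.{0,0,0,0,0}
  have := @_root_.TensorProduct.equivOfCompatibleSMul.congr_simp.{0,0,0,0,0}
  have := @_root_.TensorProduct.curry.eq_1.{0,0,0,0,0}
  have := @_root_.TensorProduct.mapOfCompatibleSMul'.eq_1.{0,0,0,0,0}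
  have := @_root_.TensorProduct.mapOfCompatibleSMul'.congr_simp.{0,0,0,0,0}
  have := @_root_.LinearEquiv.rTensor.eq_1.{0,0,0,0}
  have := @_root_.LinearEquiv.lTensor.eq_1.{0,0,0,0}
  have := @_root_.TensorProduct.map₂.eq_1.{0,0,0,0,0,0,0,0,0}
  have := @_root_.LinearMap.lTensorHom.eq_1.{0,0,0,0}
  have := @_root_.TensorProduct.lTensorHomToHomLTensor.eq_1.{0,0,0,0,0}
  have := @_root_.TensorProduct.homTensorHomMap.eq_1.{0,0,0,0,0,0}
  have := @_root_.LinearMap.rTensorHom.eq_1.{0,0,0,0}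
  have := @_root_.TensorProduct.map.eq_1.{0,0,0,0,0,0}
  have := @_root_.TensorProduct.rTensorHomToHomRTensor.eq_1.{0,0,0,0,0}
  have := @_root_.TensorProduct.mapBilinear.eq_1.{0,0,0,0,0,0}
  have := @_root_.LinearMap.mul''.eq_1.{0,0}
  have := @_root_.Algebra.lmul.eq_1.{0,0}
  have := @_root_.LinearMap.mul.eq_1.{0,0}
  have := @_root_.NonUnitalAlgHom.lmul.eq_1.{0,0}
  have := @_root_.NonUnitalAlgHom.lmul.congr_simp.{0,0}
  have := @_root_.Submodule.pointwiseSetDistribMulAction.eq_1.{0,0}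
  have := @_root_.Submodule.pointwiseSetDistribMulAction.congr_simp.{0,0}
  have := @_root_.Submodule.pointwiseSetMulAction.eq_1.{0,0}
  have := @_root_.Submodule.pointwiseSetMulAction.congr_simp.{0,0}
  have := @_root_.AddSubmonoid.one.eq_1.{0}
  have := @_root_.AddSubmonoid.smul.eq_1.{0,0}
  have := @_root_.AddSubmonoid.mul.eq_1.{0}
  have := @_root_.AddSubmonoid.semigroup.eq_1.{0}
  have := @_root_.AddSubmonoid.monoid.eq_1.{0}
  have := @_root_.AddSubmonoid.hasDistribNeg.eq_1.{0}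
  trivial

theorem r10_1 : True := by
  have := @_root_.AddSubmonoid.mulOneClass.eq_1.{0}
  have := @_root_.SetSemiring.down.eq_1.{0}
  have := @_root_.SetSemiring.imageHom.eq_1.{0,0}
  have := @_root_.SetSemiring.eq_1.{0}
  have := @_root_.Set.up.eq_1.{0}
  have := @_root_.Submodule.equivOpposite.eq_1.{0,0}
  have := @_root_.Submodule.mapHom.eq_1.{0,0,0}
  have := @_root_.Submodule.spanSingleton.eq_1.{0,0}
  have := @_root_.Submodule.hasDistribPointwiseNeg.eq_1.{0,0}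
  have := @_root_.Submodule.pointwiseMulSemiringAction.eq_1.{0,0,0}
  have := @_root_.Submodule.pointwiseMulSemiringAction.congr_simp.{0,0,0}
  have := @_root_.Submodule.span.ringHom.eq_1.{0,0}
  have := @_root_.Submodule.mapAlgHom.eq_1.{0,0,0}
  have := @_root_.Ideal.radicalInfTopHom.eq_1.{0}
  have := @_root_.Ideal.finsuppTotal.eq_1.{0,0,0}
  have := @_root_.Submodule.mapAlgEquiv.eq_1.{0,0,0}
  have := @_root_.Ideal.piOrderIso.eq_1.{0,0}
  have := @_root_.Ideal.piOrderIso.congr_simp.{0,0}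
  have := @_root_.Ideal.relIsoOfSurjective.eq_1.{0,0,0}
  have := @_root_.Ideal.relIsoOfSurjective.congr_simp.{0,0,0}
  have := @_root_.Algebra.idealMap.eq_1.{0,0}
  have := @_root_.Ideal.mapHom.eq_1.{0,0,0}
  have := @_root_.Ideal.mapHom.congr_simp.{0,0,0}
  have := @_root_.Ideal.comap.eq_1.{0,0,0}
  have := @_root_.Ideal.orderEmbeddingOfSurjective.eq_1.{0,0,0}
  have := @_root_.Ideal.giMapComap.eq_1.{0,0,0}
  have := @_root_.Ideal.giMapComap.congr_simp.{0,0,0}
  have := @_root_.RingEquiv.idealComapOrderIso.eq_1.{0,0}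
  have := @_root_.Ideal.relIsoOfBijective.eq_1.{0,0,0}
  have := @_root_.Module.annihilator.eq_1.{0,0}
  trivial

theorem r10_2 : True := by
  have := @_root_.RingHom.liftOfSurjective.eq_1.{0,0,0}
  have := @_root_.RingHom.liftOfRightInverse.eq_1.{0,0,0}
  have := @_root_.Ideal.idealProdEquiv.eq_1.{0,0}
  have := @_root_.Submonoid.isPrimal.eq_1.{0}
  have := @_root_.Submonoid.isPrimal.congr_simp.{0}
  have := @_root_.RankCondition.mk.congr_simp.{0}
  have := @_root_.InvariantBasisNumber.mk.congr_simp.{0}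
  have := @_root_.StrongRankCondition.mk.congr_simp.{0}
  have := @_root_.Module.Basis.unique.eq_1.{0,0}
  have := @_root_.Module.Basis.unique.congr_simp.{0,0}
  have := @_root_.Module.Basis.indexEquiv.eq_1.{0,0,0,0}
  have := @_root_.Submodule.inductionOnRank.eq_1.{0,0,0,0}
  have := @_root_.Submodule.inductionOnRank.congr_simp.{0,0,0,0}
  have := @_root_.Algebra.IsQuadraticExtension.mk.congr_simp.{0,0}
  have := @_root_.Set.matrix.eq_1.{0,0,0}
  have := @_root_.Matrix.ofAddEquiv.eq_1.{0,0,0}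
  have := @_root_.Matrix.subDownRight.eq_1.{0}
  have := @_root_.Matrix.subUp.eq_1.{0}
  have := @_root_.Matrix.subRight.eq_1.{0}
  have := @_root_.Matrix.subLeft.eq_1.{0}
  have := @_root_.Matrix.subUpRight.eq_1.{0}
  have := @_root_.Matrix.reindex.eq_1.{0,0,0,0,0}
  have := @_root_.Matrix.eq_1.{0,0,0}
  have := @_root_.Matrix.subDownLeft.eq_1.{0}
  have := @_root_.Matrix.subDown.eq_1.{0}
  have := @_root_.Matrix.subUpLeft.eq_1.{0}
  have := @_root_.IsStablyFiniteRing.mk.congr_simp.{0}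
  have := @_root_.Matrix.mulVec.addMonoidHomLeft.eq_1.{0,0,0}
  have := @_root_.Matrix.addMonoidHomMulRight.eq_1.{0,0,0,0}
  have := @_root_.Matrix.addMonoidHomMulLeft.eq_1.{0,0,0,0}
  trivial

theorem r10_3 : True := by
  have := @_root_.Matrix.ofLinearEquiv.eq_1.{0,0,0,0}
  have := @_root_.Matrix.scalarAlgHom.eq_1.{0,0,0}
  have := @_root_.Equiv.mapMatrix.eq_1.{0,0,0,0}
  have := @_root_.AddSubgroup.matrix.eq_1.{0,0,0}
  have := @_root_.AddSubmonoid.matrix.eq_1.{0,0,0}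
  have := @_root_.Matrix.diagonalRingHom.eq_1.{0,0}
  have := @_root_.Submodule.matrix.eq_1.{0,0,0,0}
  have := @_root_.Matrix.transposeAlgEquiv.eq_1.{0,0,0}
  have := @_root_.Matrix.entryAddMonoidHom.eq_1.{0,0,0}
  have := @_root_.LinearEquiv.mapMatrix.eq_1.{0,0,0,0,0,0}
  have := @_root_.Matrix.diagonalAddMonoidHom.eq_1.{0,0}
  have := @_root_.Subring.matrix.eq_1.{0,0}
  have := @_root_.Matrix.piEquiv.eq_1.{0,0,0,0}
  have := @_root_.Matrix.transposeAddEquiv.eq_1.{0,0,0}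
  have := @_root_.Matrix.diagLinearMap.eq_1.{0,0,0}
  have := @_root_.Matrix.piRingEquiv.eq_1.{0,0,0}
  have := @_root_.Matrix.diagAddMonoidHom.eq_1.{0,0}
  have := @_root_.AddEquiv.mapMatrix.eq_1.{0,0,0,0}
  have := @_root_.RingHom.mapMatrix.eq_1.{0,0,0}
  have := @_root_.AlgEquiv.mapMatrix.eq_1.{0,0,0,0}
  have := @_root_.RingEquiv.mopMatrix.eq_1.{0,0}
  have := @_root_.Matrix.transposeLinearEquiv.eq_1.{0,0,0,0}
  have := @_root_.LinearMap.mapMatrix.eq_1.{0,0,0,0,0,0}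
  have := @_root_.Matrix.diagonalAlgHom.eq_1.{0,0,0}
  have := @_root_.AlgEquiv.mopMatrix.eq_1.{0,0,0}
  have := @_root_.RingEquiv.mapMatrix.eq_1.{0,0,0}
  have := @_root_.AlgHom.mapMatrix.eq_1.{0,0,0,0}
  have := @_root_.Matrix.piAddEquiv.eq_1.{0,0,0,0}
  have := @_root_.Matrix.piLinearEquiv.eq_1.{0,0,0,0,0}
  have := @_root_.Matrix.entryAddHom.eq_1.{0,0,0}
  trivial

theorem r10_4 : True := by
  have := @_root_.LinearMap.mapMatrixLinear.eq_1.{0,0,0,0,0,0,0}
  have := @_root_.Matrix.piAlgEquiv.eq_1.{0,0,0,0}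
  have := @_root_.Subsemiring.matrix.eq_1.{0,0}
  have := @_root_.Matrix.entryLinearMap.eq_1.{0,0,0,0}
  have := @_root_.Matrix.transposeRingEquiv.eq_1.{0,0}
  have := @_root_.Matrix.diagonalLinearMap.eq_1.{0,0,0}
  have := @_root_.AddMonoidHom.mapMatrix.eq_1.{0,0,0,0}
  have := @_root_.Matrix.singleAddMonoidHom.eq_1.{0,0,0}
  have := @_root_.Matrix.singleLinearMap.eq_1.{0,0,0,0}
  have := @_root_.Sym.equivNatSumOfFintype.eq_1.{0}
  have := @_root_.Multiset.toFinsupp.eq_1.{0}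
  have := @_root_.Sym.equivNatSum.eq_1.{0}
  have := @_root_.Finsupp.toMultiset.eq_1.{0}
  have := @_root_.Finsupp.orderIsoMultiset.eq_1.{0}
  have := @_root_.LinearEquiv.ofFinrankEq.eq_1.{0,0,0}
  have := @_root_.LinearEquiv.ofRankEq.eq_1.{0,0}
  have := @_root_.LinearEquiv.ofRankEq.congr_simp.{0,0}
  have := @_root_.LinearEquiv.smul_id_of_finrank_eq_one.congr_simp.{0,0}
  have := @_root_.Module.finBasis.eq_1.{0,0}
  have := @_root_.Module.basisUnique.eq_1.{0,0,0}
  have := @_root_.Module.finBasisOfFinrankEq.eq_1.{0,0}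
  have := @_root_.LinearEquiv.ofLiftRankEq.eq_1.{0,0,0}
  have := @_root_.LinearEquiv.ofLiftRankEq.congr_simp.{0,0,0}
  have := @_root_.Set.iUnionLift.eq_1.{0,0,0}
  have := @_root_.Set.liftCover.eq_1.{0,0,0}
  have := @_root_.Submodule.toNonUnitalSubalgebra.eq_1.{0,0}
  have := @_root_.Submodule.toNonUnitalSubalgebra.congr_simp.{0,0}
  have := @_root_.NonUnitalSubalgebra.toSubmodule'.eq_1.{0,0}
  have := @_root_.NonUnitalSubalgebra.comap.eq_1.{0,0,0,0}
  have := @_root_.NonUnitalSubalgebra.comap.congr_simp.{0,0,0,0}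
  trivial

theorem r10_5 : True := by
  have := @_root_.NonUnitalSubalgebra.iSupLift.eq_1.{0,0,0,0}
  have := @_root_.NonUnitalAlgHom.range.eq_1.{0,0,0,0}
  have := @_root_.nonUnitalSubalgebraOfNonUnitalSubring.eq_1.{0}
  have := @_root_.NonUnitalSubalgebra.copy.eq_1.{0,0}
  have := @_root_.NonUnitalSubalgebra.copy.congr_simp.{0,0}
  have := @_root_.NonUnitalSubalgebra.toSubmoduleEquiv.eq_1.{0,0}
  have := @_root_.NonUnitalSubalgebraClass.subtype.eq_1.{0,0,0}
  have := @_root_.NonUnitalSubalgebra.toSubmodule.eq_1.{0,0}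
  have := @_root_.NonUnitalSubalgebra.toNonUnitalSubring'.eq_1.{0,0}
  have := @_root_.NonUnitalSubalgebra.toNonUnitalSubring.eq_1.{0,0}
  have := @_root_.NonUnitalSubalgebra.toNonUnitalSubsemiring.eq_1.{0,0}
  have := @_root_.NonUnitalSubalgebra.prod.eq_1.{0,0,0}
  have := @_root_.NonUnitalAlgebra.adjoin.eq_1.{0,0}
  have := @_root_.NonUnitalSubalgebra.toNonUnitalSubsemiring'.eq_1.{0,0}
  have := @_root_.NonUnitalAlgHom.codRestrict.eq_1.{0,0,0,0}
  have := @_root_.NonUnitalAlgHom.codRestrict.congr_simp.{0,0,0,0}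
  have := @_root_.NonUnitalAlgebra.adjoinNonUnitalCommSemiringOfComm.eq_1.{0,0}
  have := @_root_.NonUnitalAlgebra.adjoinNonUnitalCommSemiringOfComm.congr_simp.{0,0}
  have := @_root_.NonUnitalSubalgebra.mk.congr_simp.{0,0}
  have := @_root_.NonUnitalAlgebra.toTop.eq_1.{0,0}
  have := @_root_.nonUnitalSubalgebraOfNonUnitalSubsemiring.eq_1.{0}
  have := @_root_.NonUnitalSubalgebra.map.eq_1.{0,0,0,0}
  have := @_root_.NonUnitalSubalgebra.center.eq_1.{0,0}
  have := @_root_.NonUnitalSubalgebra.center.congr_simp.{0,0}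
  have := @_root_.NonUnitalSubalgebra.inclusion.eq_1.{0,0}
  have := @_root_.NonUnitalAlgebra.adjoinNonUnitalCommRingOfComm.eq_1.{0,0}
  have := @_root_.NonUnitalAlgebra.adjoinNonUnitalCommRingOfComm.congr_simp.{0,0}
  have := @_root_.NonUnitalAlgebra.gi.eq_1.{0,0}
  have := @_root_.NonUnitalSubalgebra.centralizer.eq_1.{0,0}
  have := @_root_.NonUnitalSubalgebra.ofClass.eq_1.{0,0,0}
  trivial

theorem r10_6 : True := by
  have := @_root_.NonUnitalSubalgebra.ofClass.congr_simp.{0,0,0}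
  have := @_root_.NonUnitalAlgHom.rangeRestrict.eq_1.{0,0,0,0}
  have := @_root_.NonUnitalAlgHom.equalizer.eq_1.{0,0,0,0}
  have := @_root_.Subalgebra.toAddSubmonoid.eq_1.{0,0}
  have := @_root_.AlgHom.range.eq_1.{0,0,0}
  have := @_root_.AlgEquiv.ofLeftInverse.eq_1.{0,0,0}
  have := @_root_.AlgEquiv.ofLeftInverse.congr_simp.{0,0,0}
  have := @_root_.Subalgebra.copy.eq_1.{0,0}
  have := @_root_.AlgEquiv.ofInjectiveField.eq_1.{0,0,0}
  have := @_root_.Subalgebra.toSubring.eq_1.{0,0}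
  have := @_root_.subalgebraOfSubring.eq_1.{0}
  have := @_root_.Submodule.toSubalgebra.eq_1.{0,0}
  have := @_root_.NonUnitalSubalgebra.toSubalgebra.eq_1.{0,0}
  have := @_root_.NonUnitalSubalgebra.toSubalgebra.congr_simp.{0,0}
  have := @_root_.Subalgebra.toNonUnitalSubalgebra.eq_1.{0,0}
  have := @_root_.AlgHom.subalgebraMap.eq_1.{0,0,0}
  have := @_root_.AlgHom.equalizer.eq_1.{0,0,0}
  have := @_root_.Subalgebra.toSubmoduleEquiv.eq_1.{0,0}
  have := @_root_.Subalgebra.toSubmodule.eq_1.{0,0}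
  have := @_root_.subalgebraOfSubsemiring.eq_1.{0}
  have := @_root_.AlgHom.codRestrict.eq_1.{0,0,0}
  have := @_root_.AlgHom.rangeRestrict.eq_1.{0,0,0}
  have := @_root_.AlgEquiv.ofInjective.eq_1.{0,0,0}
  have := @_root_.Subalgebra.ofClass.eq_1.{0,0,0}
  have := @_root_.Subalgebra.ofClass.congr_simp.{0,0,0}
  have := @_root_.Subalgebra.centralizer.eq_1.{0,0}
  have := @_root_.Subalgebra.map.eq_1.{0,0,0}
  have := @_root_.Subalgebra.center.eq_1.{0,0}
  have := @_root_.Subalgebra.equivMapOfInjective.eq_1.{0,0,0}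
  have := @_root_.Subalgebra.equivMapOfInjective.congr_simp.{0,0,0}
  trivial

theorem r10_7 : True := by
  have := @_root_.Subalgebra.inclusion.eq_1.{0,0}
  have := @_root_.Subalgebra.toSubsemiring.eq_1.{0,0}
  have := @_root_.Subalgebra.comap.eq_1.{0,0,0}
  have := @_root_.AlgEquiv.subalgebraMap.eq_1.{0,0,0}
  have := @_root_.Subalgebra.equivOfEq.eq_1.{0,0}
  have := @_root_.Subalgebra.saturation.eq_1.{0,0}
  have := @_root_.Algebra.botEquiv.eq_1.{0,0}
  have := @_root_.Algebra.botEquiv.congr_simp.{0,0}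
  have := @_root_.Algebra.adjoinCommRingOfComm.eq_1.{0,0}
  have := @_root_.Algebra.adjoinCommRingOfComm.congr_simp.{0,0}
  have := @_root_.Algebra.subalgebra_adjoin.eq_1
  have := @_root_.Subalgebra.toNonUnitalSubalgebraOrderEmbedding.eq_1.{0,0}
  have := @_root_.Algebra.toTop.eq_1.{0,0}
  have := @_root_.Algebra.botEquivOfInjective.eq_1.{0,0}
  have := @_root_.Algebra.botEquivOfInjective.congr_simp.{0,0}
  have := @_root_.Algebra.gi.eq_1.{0,0}
  have := @_root_.Subalgebra.topEquiv.eq_1.{0,0}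
  have := @_root_.Subsemiring.closureEquivAdjoinNat.eq_1.{0}
  have := @_root_.Algebra.adjoinCommSemiringOfComm.eq_1.{0,0}
  have := @_root_.Algebra.adjoinCommSemiringOfComm.congr_simp.{0,0}
  have := @_root_.Subring.closureEquivAdjoinInt.eq_1.{0}
  have := @_root_.Subalgebra.ofRestrictScalars.congr_simp.{0,0,0,0}
  have := @_root_.Subalgebra.restrictScalars.eq_1.{0,0,0}
  have := @_root_.DirectSum.IsInternal.eq_1.{0,0,0}
  have := @_root_.DirectSum.addEquivProdDirectSum.eq_1.{0,0}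
  have := @_root_.DirectSum.addEquivProd.eq_1.{0,0}
  have := @_root_.DirectSum.equivCongrLeft.eq_1.{0,0,0}
  have := @_root_.DirectSum.sigmaUncurry.eq_1.{0,0,0}
  have := @_root_.DirectSum.coeFnAddMonoidHom.eq_1.{0,0}
  have := @_root_.DirectSum.map.eq_1.{0,0,0}
  trivial

theorem r10_8 : True := by
  have := @_root_.DirectSum.sigmaCurry.eq_1.{0,0,0}
  have := @_root_.DirectSum.setToSet.eq_1.{0,0}
  have := @_root_.DirectSum.setToSet.congr_simp.{0,0}
  have := @_root_.DirectSum.sigmaCurryEquiv.eq_1.{0,0,0}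
  have := @_root_.DirectSum.mk.eq_1.{0,0}
  have := @_root_.DirectSum.id.eq_1.{0,0}
  have := @_root_.DirectSum.sigmaFiberAddEquiv.eq_1.{0,0}
  have := @_root_.DirectSum.lmap.eq_1.{0,0,0,0}
  have := @_root_.DirectSum.lsetToSet.eq_1.{0,0,0}
  have := @_root_.DirectSum.lsetToSet.congr_simp.{0,0,0}
  have := @_root_.DirectSum.linearEquivFunOnFintype.eq_1.{0,0,0}
  have := @_root_.DirectSum.congrLinearEquiv.eq_1.{0,0,0,0}
  have := @_root_.DirectSum.sigmaLcurry.eq_1.{0,0,0,0}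
  have := @_root_.DirectSum.coeFnLinearMap.eq_1.{0,0,0}
  have := @_root_.DirectSum.lequivCongrLeft.eq_1.{0,0,0,0}
  have := @_root_.DirectSum.congrAddEquiv.eq_1.{0,0,0}
  have := @_root_.DirectSum.sigmaLcurryEquiv.eq_1.{0,0,0,0}
  have := @_root_.DirectSum.lequivProdDirectSum.eq_1.{0,0,0}
  have := @_root_.DirectSum.sigmaLuncurry.eq_1.{0,0,0,0}
  have := @_root_.DirectSum.lid.eq_1.{0,0,0}
  have := @_root_.DirectSum.lmk.eq_1.{0,0,0}
  have := @_root_.finsuppLEquivDirectSum.eq_1.{0,0,0}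
  have := @_root_.TensorProduct.leftComm.eq_1.{0,0,0,0}
  have := @_root_.TensorProduct.lid.eq_1.{0,0}
  have := @_root_.TensorProduct.lidOfCompatibleSMul.eq_1.{0,0,0}
  have := @_root_.TensorProduct.lidOfCompatibleSMul.congr_simp.{0,0,0}
  have := @_root_.TensorProduct.assoc.eq_1.{0,0,0,0}
  have := @_root_.TensorProduct.rid.eq_1.{0,0}
  have := @_root_.TensorProduct.tensorTensorTensorAssoc.eq_1.{0,0,0,0,0}
  have := @_root_.TensorProduct.rightComm.eq_1.{0,0,0,0}
  trivial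

theorem r10_9 : True := by
  have := @_root_.TensorProduct.AlgebraTensorModule.rid.eq_1.{0,0,0}
  have := @_root_.TensorProduct.AlgebraTensorModule.rTensor.eq_1.{0,0,0,0,0}
  have := @_root_.TensorProduct.AlgebraTensorModule.lTensor.eq_1.{0,0,0,0,0}
  have := @_root_.Submodule.toBaseChange.eq_1.{0,0,0}
  have := @_root_.LinearMap.baseChangeHom.eq_1.{0,0,0,0}
  have := @_root_.TensorProduct.AlgebraTensorModule.rightComm.eq_1.{0,0,0,0,0,0}
  have := @_root_.TensorProduct.AlgebraTensorModule.congr.eq_1.{0,0,0,0,0,0}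
  have := @_root_.TensorProduct.AlgebraTensorModule.lift.eq_1.{0,0,0,0,0}
  have := @_root_.Module.End.baseChangeHom.eq_1.{0,0,0}
  have := @_root_.TensorProduct.AlgebraTensorModule.cancelBaseChange.eq_1.{0,0,0,0,0}
  have := @_root_.TensorProduct.AlgebraTensorModule.lift.equiv.eq_1.{0,0,0,0,0,0}
  have := @_root_.TensorProduct.AlgebraTensorModule.assoc.eq_1.{0,0,0,0,0,0}
  have := @_root_.TensorProduct.AlgebraTensorModule.curry.eq_1.{0,0,0,0,0}
  have := @_root_.TensorProduct.AlgebraTensorModule.mk.eq_1.{0,0,0,0}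
  have := @_root_.TensorProduct.AlgebraTensorModule.uncurry.eq_1.{0,0,0,0,0,0}
  have := @_root_.TensorProduct.AlgebraTensorModule.mapBilinear.eq_1.{0,0,0,0,0,0,0}
  have := @_root_.TensorProduct.AlgebraTensorModule.homTensorHomMap.eq_1.{0,0,0,0,0,0,0}
  have := @_root_.TensorProduct.AlgebraTensorModule.leftComm.eq_1.{0,0,0,0,0}
  have := @_root_.TensorProduct.AlgebraTensorModule.map.eq_1.{0,0,0,0,0,0}
  have := @_root_.TensorProduct.AlgebraTensorModule.uliftEquiv.eq_1.{0,0,0,0,0,0,0,0}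
  have := @_root_.TensorProduct.AlgebraTensorModule.lcurry.eq_1.{0,0,0,0,0,0}
  have := @_root_.TensorProduct.AlgebraTensorModule.distribBaseChange.eq_1.{0,0,0,0}
  have := @_root_.TensorProduct.directSumRight'.eq_1.{0,0,0,0,0}
  have := @_root_.TensorProduct.finsuppLeft'.eq_1.{0,0,0,0,0}
  have := @_root_.TensorProduct.finsuppScalarRight'.eq_1.{0,0,0,0}
  have := @_root_.Module.Projective.mk.congr_simp.{0,0}
  have := @_root_.Matrix.compAddEquiv.eq_1.{0,0,0,0,0}
  have := @_root_.Matrix.compAlgEquiv.eq_1.{0,0,0,0}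
  have := @_root_.Matrix.compLinearEquiv.eq_1.{0,0,0,0,0,0}
  have := @_root_.Matrix.compRingEquiv.eq_1.{0,0,0}
  trivial

theorem r10_10 : True := by
  have := @_root_.starMulOfComm.eq_1.{0}
  have := @_root_.InvolutiveStar.mk.congr_simp.{0}
  have := @_root_.starRingEquiv.eq_1.{0}
  have := @_root_.Function.Injective.involutiveStar.eq_1.{0,0}
  have := @_root_.Function.Injective.involutiveStar.congr_simp.{0,0}
  have := @_root_.starMulAut.eq_1.{0}
  have := @_root_.Function.Injective.starMul.eq_1.{0,0}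
  have := @_root_.Function.Injective.starMul.congr_simp.{0,0}
  have := @_root_.Function.Injective.starAddMonoid.eq_1.{0,0}
  have := @_root_.Function.Injective.starAddMonoid.congr_simp.{0,0}
  have := @_root_.TrivialStar.mk.congr_simp.{0}
  have := @_root_.starRingAut.eq_1.{0}
  have := @_root_.StarAddMonoid.mk.congr_simp.{0}
  have := @_root_.starAddEquiv.eq_1.{0}
  have := @_root_.starRingEnd.eq_1.{0}
  have := @_root_.StarMemClass.mk.congr_simp.{0,0}
  have := @_root_.Function.Injective.starRing.eq_1.{0,0}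
  have := @_root_.Function.Injective.starRing.congr_simp.{0,0}
  have := @_root_.StarModule.mk.congr_simp.{0,0}
  have := @_root_.starMulEquiv.eq_1.{0}
  have := @_root_.Equiv.Perm.star.eq_1.{0}
  have := @_root_.StarRing.mk.congr_simp.{0}
  have := @_root_.StarHomClass.mk.congr_simp.{0,0,0}
  have := @_root_.StarMul.mk.congr_simp.{0}
  have := @_root_.starRingOfComm.eq_1.{0}
  have := @_root_.IsStarNormal.mk.congr_simp.{0}
  have := @_root_.skewAdjoint.eq_1.{0}
  have := @_root_.selfAdjoint.eq_1.{0}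
  have := @_root_.starLinearEquiv.eq_1.{0,0}
  have := @_root_.selfAdjointPart.eq_1.{0,0}
  trivial

theorem r10_11 : True := by
  have := @_root_.skewAdjointPart.eq_1.{0,0}
  have := @_root_.skewAdjoint.submodule.eq_1.{0,0}
  have := @_root_.skewAdjoint.submodule.congr_simp.{0,0}
  have := @_root_.StarModule.decomposeProdAdjoint.eq_1.{0,0}
  have := @_root_.NonUnitalStarRingHomClass.mk.congr_simp.{0,0,0}
  have := @_root_.NonUnitalStarRingHom.comp.eq_1.{0,0,0}
  have := @_root_.StarRingEquivClass.mk.congr_simp.{0,0,0}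
  have := @_root_.NonUnitalStarRingHom.toNonUnitalRingHom.eq_1.{0,0}
  have := @_root_.StarRingEquiv.symm.eq_1.{0,0}
  have := @_root_.StarRingEquiv.trans.eq_1.{0,0,0}
  have := @_root_.NonUnitalStarRingHomClass.toNonUnitalStarRingHom.eq_1.{0,0,0}
  have := @_root_.NonUnitalStarRingHomClass.toNonUnitalStarRingHom.congr_simp.{0,0,0}
  have := @_root_.NonUnitalStarRingHom.mk.congr_simp.{0,0}
  have := @_root_.NonUnitalStarRingHom.id.eq_1.{0}
  have := @_root_.StarRingEquiv.ofBijective.eq_1.{0,0,0}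
  have := @_root_.StarRingEquiv.ofBijective.congr_simp.{0,0,0}
  have := @_root_.NonUnitalStarRingHom.copy.eq_1.{0,0}
  have := @_root_.NonUnitalStarRingHom.copy.congr_simp.{0,0}
  have := @_root_.StarRingEquivClass.toStarRingEquiv.eq_1.{0,0,0}
  have := @_root_.NonUnitalStarRingHomClass.congr_simp.{0,0,0}
  have := @_root_.StarRingEquiv.toRingEquiv.eq_1.{0,0}
  have := @_root_.StarRingEquiv.refl.eq_1.{0}
  have := @_root_.StarRingEquiv.ofStarRingHom.eq_1.{0,0,0,0}
  have := @_root_.StarRingEquiv.ofStarRingHom.congr_simp.{0,0,0,0}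
  have := @_root_.StarAlgHom.fst.eq_1.{0,0,0}
  have := @_root_.StarAlgEquiv.symm.eq_1.{0,0,0}
  have := @_root_.StarAlgHom.prod.eq_1.{0,0,0,0}
  have := @_root_.StarAlgEquiv.toStarRingEquiv.eq_1.{0,0,0}
  have := @_root_.StarAlgHom.toNonUnitalStarAlgHom.eq_1.{0,0,0}
  have := @_root_.StarAlgHom.comp.eq_1.{0,0,0,0}
  trivial

theorem r10_12 : True := by
  have := @_root_.NonUnitalStarAlgHom.id.eq_1.{0,0}
  have := @_root_.NonUnitalStarAlgHom.restrictScalars.eq_1.{0,0,0,0}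
  have := @_root_.NonUnitalStarAlgHom.prod.eq_1.{0,0,0,0}
  have := @_root_.StarAlgEquiv.trans.eq_1.{0,0,0,0}
  have := @_root_.NonUnitalStarAlgHom.inr.eq_1.{0,0,0}
  have := @_root_.StarAlgHom.toAlgHom.eq_1.{0,0,0}
  have := @_root_.StarAlgEquiv.toNonUnitalStarAlgHom.eq_1.{0,0,0}
  have := @_root_.StarAlgEquiv.arrowCongr.eq_1.{0,0,0,0,0}
  have := @_root_.Pi.evalNonUnitalStarAlgHom.eq_1.{0,0,0}
  have := @_root_.StarAlgEquivClass.toStarAlgEquiv.eq_1.{0,0,0,0}
  have := @_root_.NonUnitalStarAlgHomClass.toNonUnitalStarAlgHom.eq_1.{0,0,0,0}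
  have := @_root_.StarAlgEquiv.ofNonUnitalStarAlgHom.eq_1.{0,0,0}
  have := @_root_.StarAlgEquiv.ofNonUnitalStarAlgHom.congr_simp.{0,0,0}
  have := @_root_.NonUnitalStarAlgHom.snd.eq_1.{0,0,0}
  have := @_root_.StarAlgEquiv.toAlgEquiv.eq_1.{0,0,0}
  have := @_root_.Pi.evalStarAlgHom.eq_1.{0,0,0}
  have := @_root_.StarAlgEquiv.ofStarAlgHom.eq_1.{0,0,0}
  have := @_root_.StarAlgEquiv.ofStarAlgHom.congr_simp.{0,0,0}
  have := @_root_.StarAlgHom.ofId.eq_1.{0,0}
  have := @_root_.NonUnitalAlgEquivClass.mk.congr_simp.{0,0,0,0}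
  have := @_root_.StarAlgHom.prodEquiv.eq_1.{0,0,0,0}
  have := @_root_.StarAlgEquiv.refl.eq_1.{0,0}
  have := @_root_.NonUnitalStarAlgHom.copy.eq_1.{0,0,0}
  have := @_root_.NonUnitalStarAlgHom.copy.congr_simp.{0,0,0}
  have := @_root_.StarAlgEquiv.toStarAlgHom.eq_1.{0,0,0}
  have := @_root_.StarAlgEquiv.arrowCongr'.eq_1.{0,0,0,0,0}
  have := @_root_.StarAlgHom.snd.eq_1.{0,0,0}
  have := @_root_.NonUnitalStarAlgHom.fst.eq_1.{0,0,0}
  have := @_root_.NonUnitalStarAlgHom.toNonUnitalAlgHom.eq_1.{0,0,0}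
  have := @_root_.NonUnitalStarAlgHom.inl.eq_1.{0,0,0}
  trivial

theorem r10_13 : True := by
  have := @_root_.NonUnitalStarAlgHom.prodEquiv.eq_1.{0,0,0,0}
  have := @_root_.StarAlgHom.copy.eq_1.{0,0,0}
  have := @_root_.StarAlgHom.copy.congr_simp.{0,0,0}
  have := @_root_.NonUnitalStarAlgHom.comp.eq_1.{0,0,0,0}
  have := @_root_.StarAlgEquiv.ofAlgEquiv.eq_1.{0,0,0}
  have := @_root_.StarAlgEquiv.ofAlgEquiv.congr_simp.{0,0,0}
  have := @_root_.StarAlgEquiv.ofBijective.eq_1.{0,0,0,0}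
  have := @_root_.StarAlgEquiv.ofBijective.congr_simp.{0,0,0,0}
  have := @_root_.StarAlgHom.id.eq_1.{0,0}
  have := @_root_.StarAlgHomClass.toStarAlgHom.eq_1.{0,0,0,0}
  have := @_root_.Matrix.conjTransposeLinearEquiv.eq_1.{0,0,0,0}
  have := @_root_.Matrix.conjTransposeLinearEquiv.congr_simp.{0,0,0,0}
  have := @_root_.Matrix.conjTransposeAlgEquiv.eq_1.{0,0,0}
  have := @_root_.Matrix.conjTransposeAlgEquiv.congr_simp.{0,0,0}
  have := @_root_.Matrix.conjTransposeAddEquiv.eq_1.{0,0,0}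
  have := @_root_.Matrix.conjTransposeRingEquiv.eq_1.{0,0}
  have := @_root_.Matrix.blockDiagonalAddMonoidHom.eq_1.{0,0,0,0}
  have := @_root_.Matrix.toBlock.eq_1.{0,0,0}
  have := @_root_.Matrix.blockDiagonalRingHom.eq_1.{0,0,0}
  have := @_root_.Matrix.blockDiag'AddMonoidHom.eq_1.{0,0,0,0}
  have := @_root_.Matrix.blockDiagonal'RingHom.eq_1.{0,0,0}
  have := @_root_.Matrix.blockDiagAddMonoidHom.eq_1.{0,0,0,0}
  have := @_root_.Matrix.blockDiagonal'AddMonoidHom.eq_1.{0,0,0,0}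
  have := @_root_.Matrix.toBlocks₁₁.eq_1.{0,0,0,0,0}
  have := @_root_.Matrix.toSquareBlock.eq_1.{0,0,0}
  have := @_root_.Matrix.blockDiag'.eq_1.{0,0,0,0}
  have := @_root_.Matrix.blockDiag.eq_1.{0,0,0,0}
  have := @_root_.Matrix.toSquareBlockProp.eq_1.{0,0}
  have := @_root_.Module.Basis.mkFinCons.eq_1.{0,0}
  have := @_root_.Module.Basis.mkFinCons.congr_simp.{0,0}
  trivial

theorem r10_14 : True := by
  have := @_root_.Module.Basis.mkFinConsOfLE.eq_1.{0,0}
  have := @_root_.Module.Basis.mkFinConsOfLE.congr_simp.{0,0}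
  have := @_root_.Module.Basis.mkFinSnocOfLE.eq_1.{0,0}
  have := @_root_.Module.Basis.mkFinSnocOfLE.congr_simp.{0,0}
  have := @_root_.Module.Basis.mkFinSnoc.eq_1.{0,0}
  have := @_root_.Module.Basis.mkFinSnoc.congr_simp.{0,0}
  have := @_root_.Module.Basis.groupSMul.eq_1.{0,0,0,0}
  have := @_root_.Module.Basis.groupSMul.congr_simp.{0,0,0,0}
  have := @_root_.Module.Basis.isUnitSMul.eq_1.{0,0,0}
  have := @_root_.Matrix.updateCol.eq_1.{0,0,0}
  have := @_root_.Matrix.matrixNotationRx0.eq_1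
  have := @_root_.Matrix.matrixNotation0xC.eq_1
  have := @_root_.Matrix.matrixNotation.eq_1
  have := @_root_.Matrix.mkLiteralQ.eq_1
  have := @_root_.matrixRingEquivEndVecMulOpposite.eq_1.{0,0}
  have := @_root_.matrixAlgEquivEndVecMulOpposite.eq_1.{0,0,0}
  have := @_root_.dotProductBilin.eq_1.{0,0,0,0}
  have := @_root_.dotProductBilin.congr_simp.{0,0,0,0}
  have := @_root_.Module.Basis.end.eq_1.{0,0,0}
  have := @_root_.Matrix.mulVecLin.eq_1.{0,0,0}
  have := @_root_.Matrix.mulVecBilin.eq_1.{0,0,0,0,0}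
  have := @_root_.algEquivMatrix.eq_1.{0,0,0}
  have := @_root_.Matrix.toLin'.eq_1.{0,0,0}
  have := @_root_.Matrix.toLinearMapRight'.eq_1.{0,0,0}
  have := @_root_.Algebra.leftMulMatrix.eq_1.{0,0,0}
  have := @_root_.Matrix.toLinearEquivRight'OfInv.eq_1.{0,0,0}
  have := @_root_.Matrix.toLinearEquivRight'OfInv.congr_simp.{0,0,0}
  have := @_root_.Matrix.toLinAlgEquiv.eq_1.{0,0,0}
  have := @_root_.LinearMap.toMatrixRight'.eq_1.{0,0,0}
  have := @_root_.Matrix.vecMulBilin.eq_1.{0,0,0,0,0}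
  trivial

theorem r10_15 : True := by
  have := @_root_.Matrix.toLin'OfInv.eq_1.{0,0,0}
  have := @_root_.Matrix.toLin'OfInv.congr_simp.{0,0,0}
  have := @_root_.vecMulVecBilin.eq_1.{0,0,0,0,0}
  have := @_root_.vecMulVecBilin.congr_simp.{0,0,0,0,0}
  have := @_root_.Matrix.vecMulLinear.eq_1.{0,0,0}
  have := @_root_.endVecAlgEquivMatrixEnd.eq_1.{0,0,0,0}
  have := @_root_.Matrix.toLinOfInv.eq_1.{0,0,0,0,0}
  have := @_root_.Matrix.toLinOfInv.congr_simp.{0,0,0,0,0}
  have := @_root_.Matrix.toLin.eq_1.{0,0,0,0,0}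
  have := @_root_.algEquivMatrix'.eq_1.{0,0}
  trivial

end CL.BaseAux
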