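import Cfsg.Agent.Base.Imports

/-! On-demand lemmas of Prelude and Mathlib definitions, produced once here so that no other file holds a copy. -/

set_option linter.all false

namespace CL.BaseAux

theorem r11_0 : True := by
  have := @_root_.Module.Basis.SmithNormalForm.bN.eq_1.{0,0,0}
  have := @_root_.Module.Basis.SmithNormalForm.mk.congr_simp.{0,0,0}
  have := @_root_.Ideal.smithCoeffs.eq_1.{0,0,0}
  have := @_root_.Ideal.smithNormalForm.eq_1.{0,0,0}
  have := @_root_.Ideal.smithNormalForm.congr_simp.{0,0,0}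
  have := @_root_.Module.Basis.SmithNormalForm.f.eq_1.{0,0,0}
  have := @_root_.Submodule.basisOfPidOfLE.eq_1.{0,0,0}
  have := @_root_.Submodule.basisOfPidOfLE.congr_simp.{0,0,0}
  have := @_root_.Submodule.basisOfPid.eq_1.{0,0,0}
  have := @_root_.Submodule.basisOfPid.congr_simp.{0,0,0}
  have := @_root_.Module.basisOfFiniteTypeTorsionFree'.eq_1.{0,0}
  have := @_root_.Module.basisOfFiniteTypeTorsionFree'.congr_simp.{0,0}
  have := @_root_.Submodule.smithNormalFormOfLE.eq_1.{0,0,0}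
  have := @_root_.Submodule.smithNormalFormOfLE.congr_simp.{0,0,0}
  have := @_root_.Submodule.basisOfPidOfLESpan.eq_1.{0,0,0}
  have := @_root_.Submodule.basisOfPidOfLESpan.congr_simp.{0,0,0}
  have := @_root_.Module.Basis.SmithNormalForm.a.eq_1.{0,0,0}
  have := @_root_.Submodule.smithNormalFormCoeffs.eq_1.{0,0,0}
  have := @_root_.Module.basisOfFiniteTypeTorsionFree.eq_1.{0,0,0}
  have := @_root_.Module.basisOfFiniteTypeTorsionFree.congr_simp.{0,0,0}
  have := @_root_.Ideal.selfBasis.eq_1.{0,0,0}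
  have := @_root_.Submodule.smithNormalFormTopBasis.eq_1.{0,0,0}
  have := @_root_.Submodule.smithNormalForm.eq_1.{0,0,0}
  have := @_root_.Submodule.smithNormalForm.congr_simp.{0,0,0}
  have := @_root_.Module.Basis.SmithNormalForm.bM.eq_1.{0,0,0}
  have := @_root_.Submodule.smithNormalFormOfRankEq.eq_1.{0,0,0}
  have := @_root_.Submodule.smithNormalFormOfRankEq.congr_simp.{0,0,0}
  have := @_root_.Ideal.ringBasis.eq_1.{0,0,0}
  have := @_root_.Submodule.smithNormalFormBotBasis.eq_1.{0,0,0}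
  have := @_root_.Subring.toSubfield.eq_1.{0}
  trivial

theorem r11_1 : True := by
  have := @_root_.Subring.toSubfield.congr_simp.{0}
  have := @_root_.Subfield.subtype.eq_1.{0}
  have := @_root_.SubfieldClass.mk.congr_simp.{0,0}
  have := @_root_.Subfield.toAddSubgroup.eq_1.{0}
  have := @_root_.Subfield.copy.eq_1.{0}
  have := @_root_.Subfield.copy.congr_simp.{0}
  have := @_root_.Subfield.toSubring.eq_1.{0}
  have := @_root_.Field.FG.mk.congr_simp.{0}
  have := @_root_.Subfield.inclusion.eq_1.{0}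
  have := @_root_.Subfield.inclusion.congr_simp.{0}
  have := @_root_.Subfield.gi.eq_1.{0}
  have := @_root_.Subfield.map.eq_1.{0,0}
  have := @_root_.Subfield.topEquiv.eq_1.{0}
  have := @_root_.Subfield.closure.eq_1.{0}
  have := @_root_.RingEquiv.subfieldCongr.eq_1.{0}
  have := @_root_.RingEquiv.subfieldCongr.congr_simp.{0}
  have := @_root_.RingHom.fieldRange.eq_1.{0,0}
  have := @_root_.RingHom.rangeRestrictFieldEquiv.eq_1.{0,0}
  have := @_root_.RingHom.rangeRestrictField.eq_1.{0,0}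
  have := @_root_.Subfield.comap.eq_1.{0,0}
  have := @_root_.RingHom.eqLocusField.eq_1.{0,0}
  have := @_root_.Submonoid.LocalizationMap.lift₀.eq_1.{0,0,0}
  have := @_root_.RestrictScalars.eq_1.{0,0,0}
  have := @_root_.Module.restrictScalars.eq_1.{0,0,0}
  have := @_root_.RestrictScalars.addEquiv.eq_1.{0,0,0}
  have := @_root_.RestrictScalars.ringEquiv.eq_1.{0,0,0}
  have := @_root_.Algebra.restrictScalars.eq_1.{0,0,0}
  have := @_root_.RestrictScalars.moduleOrig.eq_1.{0,0,0}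
  have := @_root_.Subalgebra.prod.eq_1.{0,0,0}
  have := @_root_.Algebra.IsEpi.mk.congr_simp.{0,0}
  trivial

theorem r11_2 : True := by
  have := @_root_.TensorProduct.lid'.eq_1.{0,0,0}
  have := @_root_.RingHom.equivRatAlgHom.eq_1.{0,0}
  have := @_root_.RingHom.toRatAlgHom.eq_1.{0,0}
  have := @_root_.RingEquiv.toRatAlgEquiv.eq_1.{0,0}
  have := @_root_.RingEquiv.equivRatAlgEquiv.eq_1.{0,0}
  have := @_root_.Equiv.nonAssocRing.eq_1.{0,0}
  have := @_root_.Equiv.nonUnitalCommRing.eq_1.{0,0}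
  have := @_root_.Equiv.nonUnitalSemiring.eq_1.{0,0}
  have := @_root_.Equiv.nonUnitalRing.eq_1.{0,0}
  have := @_root_.Equiv.nonAssocSemiring.eq_1.{0,0}
  have := @_root_.Equiv.commSemiring.eq_1.{0,0}
  have := @_root_.Equiv.addGroupWithOne.eq_1.{0,0}
  have := @_root_.Equiv.commRing.eq_1.{0,0}
  have := @_root_.Equiv.addMonoidWithOne.eq_1.{0,0}
  have := @_root_.Equiv.nonUnitalNonAssocSemiring.eq_1.{0,0}
  have := @_root_.Equiv.semiring.eq_1.{0,0}
  have := @_root_.Equiv.nonUnitalCommSemiring.eq_1.{0,0}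
  have := @_root_.Equiv.ringEquiv.eq_1.{0,0}
  have := @_root_.Equiv.ring.eq_1.{0,0}
  have := @_root_.Equiv.nonUnitalNonAssocRing.eq_1.{0,0}
  have := @_root_.Equiv.algEquiv.eq_1.{0,0,0}
  have := @_root_.Equiv.algebra.eq_1.{0,0,0}
  have := @_root_.Shrink.algEquiv.eq_1.{0,0,0}
  have := @_root_.Set.star.eq_1.{0}
  have := @_root_.IsUnit.subInvSMul.eq_1.{0,0}
  have := @_root_.IsUnit.subInvSMul.congr_simp.{0,0}
  have := @_root_.IsStarProjection.mk.congr_simp.{0}
  have := @_root_.NonUnitalStarSubalgebra.copy.eq_1.{0,0}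
  have := @_root_.NonUnitalStarSubalgebra.copy.congr_simp.{0,0}
  have := @_root_.NonUnitalStarSubalgebra.toNonUnitalSubalgebra'.eq_1.{0,0}
  trivial

theorem r11_3 : True := by
  have := @_root_.StarAlgEquiv.ofInjective'.eq_1.{0,0,0,0}
  have := @_root_.StarAlgEquiv.ofInjective'.congr_simp.{0,0,0,0}
  have := @_root_.NonUnitalStarSubalgebra.toNonUnitalSubalgebra.eq_1.{0,0}
  have := @_root_.NonUnitalStarAlgHom.equalizer.eq_1.{0,0,0,0}
  have := @_root_.NonUnitalStarAlgHom.equalizer.congr_simp.{0,0,0,0}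
  have := @_root_.NonUnitalStarSubalgebra.toNonUnitalSubring.eq_1.{0,0}
  have := @_root_.NonUnitalStarSubalgebra.ofClass.eq_1.{0,0,0}
  have := @_root_.NonUnitalStarAlgHom.codRestrict.eq_1.{0,0,0,0}
  have := @_root_.NonUnitalStarSubalgebra.centralizer.eq_1.{0,0}
  have := @_root_.NonUnitalStarAlgHom.range.eq_1.{0,0,0,0}
  have := @_root_.NonUnitalStarAlgebra.adjoin.eq_1.{0,0}
  have := @_root_.NonUnitalStarSubalgebra.iSupLift.eq_1.{0,0,0,0}
  have := @_root_.NonUnitalStarSubalgebraClass.subtype.eq_1.{0,0,0}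
  have := @_root_.NonUnitalStarAlgebra.adjoinNonUnitalCommSemiringOfComm.eq_1.{0,0}
  have := @_root_.NonUnitalStarAlgebra.adjoinNonUnitalCommSemiringOfComm.congr_simp.{0,0}
  have := @_root_.NonUnitalStarSubalgebra.inclusion.eq_1.{0,0}
  have := @_root_.NonUnitalStarSubalgebra.comap.eq_1.{0,0,0,0}
  have := @_root_.NonUnitalStarSubalgebra.comap.congr_simp.{0,0,0,0}
  have := @_root_.NonUnitalStarSubalgebra.mk.congr_simp.{0,0}
  have := @_root_.NonUnitalSubalgebra.starClosure.eq_1.{0,0}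
  have := @_root_.NonUnitalSubalgebra.starClosure.congr_simp.{0,0}
  have := @_root_.NonUnitalStarAlgHom.rangeRestrict.eq_1.{0,0,0,0}
  have := @_root_.StarAlgEquiv.ofLeftInverse'.eq_1.{0,0,0,0}
  have := @_root_.StarAlgEquiv.ofLeftInverse'.congr_simp.{0,0,0,0}
  have := @_root_.NonUnitalStarSubalgebra.prod.eq_1.{0,0,0}
  have := @_root_.NonUnitalStarSubalgebra.map.eq_1.{0,0,0,0}
  have := @_root_.NonUnitalStarSubalgebra.center.eq_1.{0,0}
  have := @_root_.NonUnitalStarSubalgebra.center.congr_simp.{0,0}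
  have := @_root_.NonUnitalSubalgebra.toNonUnitalStarSubalgebra.eq_1.{0,0}
  have := @_root_.NonUnitalSubalgebra.toNonUnitalStarSubalgebra.congr_simp.{0,0}
  trivial

theorem r11_4 : True := by
  have := @_root_.NonUnitalStarAlgebra.toTop.eq_1.{0,0}
  have := @_root_.NonUnitalStarAlgebra.gi.eq_1.{0,0}
  have := @_root_.NonUnitalStarAlgebra.adjoinNonUnitalCommRingOfComm.eq_1.{0,0}
  have := @_root_.NonUnitalStarAlgebra.adjoinNonUnitalCommRingOfComm.congr_simp.{0,0}
  have := @_root_.Unitization.addEquiv.eq_1.{0,0}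
  have := @_root_.Unitization.inrNonUnitalStarAlgHom.eq_1.{0,0}
  have := @_root_.Unitization.toProd.eq_1.{0,0}
  have := @_root_.Unitization.fstHom.eq_1.{0,0}
  have := @_root_.Unitization.inrHom.eq_1.{0,0,0}
  have := @_root_.Unitization.linearEquiv.eq_1.{0,0,0}
  have := @_root_.Unitization.starMap.eq_1.{0,0,0}
  have := @_root_.Unitization.sndHom.eq_1.{0,0,0}
  have := @_root_.Unitization.inlRingHom.eq_1.{0,0}
  have := @_root_.Unitization.lift.eq_1.{0,0,0}
  have := @_root_.Unitization.inrNonUnitalAlgHom.eq_1.{0,0}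
  have := @_root_.Unitization.inl.eq_1.{0,0}
  have := @_root_.Unitization.equiv.eq_1.{0,0}
  have := @_root_.Unitization.inr.eq_1.{0,0}
  have := @_root_.Unitization.inrRangeEquiv.eq_1.{0,0}
  have := @_root_.Unitization.starLift.eq_1.{0,0,0}
  have := @_root_.NonUnitalAlgHom.toAlgHom.eq_1.{0,0,0}
  have := @_root_.NonnegSpectrumClass.mk.congr_simp.{0,0}
  have := @_root_.Unitization.unitsFstOne.eq_1.{0,0}
  have := @_root_.Unitization.unitsFstOne_mulEquiv_quasiregular.eq_1.{0,0}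
  have := @_root_.PreQuasiregular.equiv.eq_1.{0}
  have := @_root_.QuasispectrumRestricts.mk.congr_simp.{0,0,0}
  have := @_root_.PreQuasiregular.val.eq_1.{0}
  have := @_root_.PreQuasiregular.toProd.eq_1.{0,0}
  have := @_root_.PreQuasiregular.toPi.eq_1.{0,0}
  have := @_root_.IsStrictlyPositive.eq_1.{0}
  trivial

theorem r11_5 : True := by
  have := @_root_.Subalgebra.iSupLift.eq_1.{0,0,0,0}
  have := @_root_.finDimVectorspaceEquiv.eq_1.{0,0}
  have := @_root_.finDimVectorspaceEquiv.congr_simp.{0,0}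
  have := @_root_.Module.Basis.fintypeIndexOfRankLtAleph0.eq_1.{0,0,0}
  have := @_root_.Module.Basis.fintypeIndexOfRankLtAleph0.congr_simp.{0,0,0}
  have := @_root_.iSupIndep.fintypeNeBotOfFiniteDimensional.eq_1.{0,0,0}
  have := @_root_.iSupIndep.fintypeNeBotOfFiniteDimensional.congr_simp.{0,0,0}
  have := @_root_.LinearPMap.toFun.eq_1.{0,0,0,0}
  have := @_root_.Submodule.valFromGraph.eq_1.{0,0,0}
  have := @_root_.Submodule.valFromGraph.congr_simp.{0,0,0}
  have := @_root_.LinearMap.toPMap.eq_1.{0,0,0,0}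
  have := @_root_.Submodule.toLinearPMap.eq_1.{0,0,0}
  have := @_root_.LinearPMap.domRestrict.eq_1.{0,0,0,0}
  have := @_root_.LinearPMap.codRestrict.eq_1.{0,0,0,0}
  have := @_root_.LinearPMap.codRestrict.congr_simp.{0,0,0,0}
  have := @_root_.LinearPMap.snd.eq_1.{0,0,0}
  have := @_root_.LinearMap.compPMap.eq_1.{0,0,0,0,0,0}
  have := @_root_.LinearMap.compPMap.congr_simp.{0,0,0,0,0,0}
  have := @_root_.LinearPMap.mkSpanSingleton'.eq_1.{0,0,0,0}
  have := @_root_.LinearPMap.mkSpanSingleton'.congr_simp.{0,0,0,0}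
  have := @_root_.LinearPMap.eqLocus.eq_1.{0,0,0,0}
  have := @_root_.LinearPMap.domain.eq_1.{0,0,0,0}
  have := @_root_.LinearPMap.toFun'.eq_1.{0,0,0,0}
  have := @_root_.LinearPMap.mkSpanSingleton.eq_1.{0,0,0,0}
  have := @_root_.LinearPMap.supSpanSingleton.eq_1.{0,0,0,0}
  have := @_root_.LinearPMap.comp.eq_1.{0,0,0,0,0,0}
  have := @_root_.LinearPMap.comp.congr_simp.{0,0,0,0,0,0}
  have := @_root_.LinearPMap.sSup.eq_1.{0,0,0,0}
  have := @_root_.LinearPMap.coprod.eq_1.{0,0,0,0,0}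
  have := @_root_.LinearPMap.sup.eq_1.{0,0,0,0}
  trivial

theorem r11_6 : True := by
  have := @_root_.LinearPMap.fst.eq_1.{0,0,0}
  have := @_root_.Module.Basis.sumExtendIndex.eq_1.{0,0,0}
  have := @_root_.Module.Basis.sumExtendIndex.congr_simp.{0,0,0}
  have := @_root_.Module.Basis.extendLe.eq_1.{0,0}
  have := @_root_.Module.Basis.extendLe.congr_simp.{0,0}
  have := @_root_.Module.Basis.ofSpan.eq_1.{0,0}
  have := @_root_.Module.Basis.ofSpan.congr_simp.{0,0}
  have := @_root_.Module.Basis.ofVectorSpaceIndex.eq_1.{0,0}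
  have := @_root_.Module.Basis.ofVectorSpace.eq_1.{0,0}
  have := @_root_.Module.Basis.sumExtend.eq_1.{0,0,0}
  have := @_root_.FiniteDimensional.fintypeBasisIndex.eq_1.{0,0,0}
  have := @_root_.FiniteDimensional.fintypeBasisIndex.congr_simp.{0,0,0}
  have := @_root_.divisionRingOfFiniteDimensional.eq_1.{0,0}
  have := @_root_.divisionRingOfFiniteDimensional.congr_simp.{0,0}
  have := @_root_.fieldOfFiniteDimensional.eq_1.{0,0}
  have := @_root_.fieldOfFiniteDimensional.congr_simp.{0,0}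
  have := @_root_.LinearEquiv.ofInjectiveEndo.eq_1.{0,0}
  have := @_root_.LinearEquiv.ofInjectiveEndo.congr_simp.{0,0}
  have := @_root_.LinearEquiv.ofInjectiveOfFinrankEq.eq_1.{0,0,0}
  have := @_root_.LinearEquiv.ofInjectiveOfFinrankEq.congr_simp.{0,0,0}
  have := @_root_.basisOfFinrankZero.eq_1.{0,0,0}
  have := @_root_.basisOfFinrankZero.congr_simp.{0,0,0}
  have := @_root_.Basis.ofRankEqZero.eq_1.{0,0,0}
  have := @_root_.Basis.ofRankEqZero.congr_simp.{0,0,0}
  have := @_root_.AddMonoidAlgebra.mapAlgAut.eq_1.{0,0,0}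
  have := @_root_.AddMonoidAlgebra.liftNCAlgHom.eq_1.{0,0,0,0}
  have := @_root_.AddMonoidAlgebra.uniqueAlgEquiv.congr_simp.{0,0,0}
  have := @_root_.AddMonoidAlgebra.toMultiplicativeAlgEquiv.eq_1.{0,0,0}
  have := @_root_.MonoidAlgebra.liftMagma.eq_1.{0,0,0}
  have := @_root_.MonoidAlgebra.liftMagma.congr_simp.{0,0,0}
  trivial

theorem r11_7 : True := by
  have := @_root_.MonoidAlgebra.toAdditiveAlgEquiv.eq_1.{0,0,0}
  have := @_root_.MonoidAlgebra.liftNCAlgHom.eq_1.{0,0,0,0}
  have := @_root_.MonoidAlgebra.equivariantOfLinearOfComm.eq_1.{0,0,0,0}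
  have := @_root_.MonoidAlgebra.equivariantOfLinearOfComm.congr_simp.{0,0,0,0}
  have := @_root_.MonoidAlgebra.mapRangeAlgAut.eq_1.{0,0,0}
  have := @_root_.MonoidAlgebra.mapRangeAlgHom.eq_1.{0,0,0,0}
  have := @_root_.AddMonoidAlgebra.liftMagma.eq_1.{0,0,0}
  have := @_root_.AddMonoidAlgebra.liftMagma.congr_simp.{0,0,0}
  have := @_root_.AddMonoidAlgebra.domCongrAut.eq_1.{0,0,0}
  have := @_root_.MonoidAlgebra.lift.eq_1.{0,0,0}
  have := @_root_.MonoidAlgebra.domCongrAut.eq_1.{0,0,0}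
  have := @_root_.AddMonoidAlgebra.lift.eq_1.{0,0,0}
  have := @_root_.MonoidAlgebra.mapRangeAlgEquiv.eq_1.{0,0,0,0}
  have := @_root_.MonoidAlgebra.GroupSMul.linearMap.eq_1.{0,0,0}
  have := @_root_.MonoidAlgebra.GroupSMul.linearMap.congr_simp.{0,0,0}
  have := @_root_.Polynomial.evalRingHom.eq_1.{0}
  have := @_root_.Polynomial.eval₂AddMonoidHom.eq_1.{0,0}
  have := @_root_.Polynomial.eval₂RingHom.eq_1.{0,0}
  have := @_root_.Polynomial.eval₂RingHom'.eq_1.{0,0}
  have := @_root_.Polynomial.eval₂RingHom'.congr_simp.{0,0}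
  have := @_root_.Polynomial.mapRingHom.eq_1.{0,0}
  have := @_root_.Polynomial.compRingHom.eq_1.{0}
  have := @_root_.Nat.decidablePrime'.eq_1
  have := @_root_.Nat.Prime.eq_1
  have := @_root_.Nat.Primes.eq_1
  have := @_root_.CharP.mk.congr_simp.{0}
  have := @_root_.ExpChar.zero.congr_simp.{0}
  have := @_root_.ringChar.eq_1.{0}
  have := @_root_.ExpChar.prime.congr_simp.{0}
  have := @_root_.Polynomial.constantCoeff.eq_1.{0}
  trivial

theorem r11_8 : True := by
  have := @_root_.Polynomial.lsum.eq_1.{0,0,0}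
  have := @_root_.Polynomial.lcoeff.eq_1.{0}
  have := @_root_.AddMonoidAlgebra.infDegree.eq_1.{0,0,0}
  have := @_root_.Polynomial.leadingCoeffHom.eq_1.{0}
  have := @_root_.Polynomial.degreeMonoidHom.eq_1.{0}
  have := @_root_.Polynomial.degreeMonoidHom.congr_simp.{0}
  have := @_root_.Polynomial.piEquiv.eq_1.{0,0}
  have := @_root_.Polynomial.piEquiv.congr_simp.{0,0}
  have := @_root_.Polynomial.mapEquiv.eq_1.{0,0}
  have := @_root_.Polynomial.eval₂AlgHom.eq_1.{0,0,0}
  have := @_root_.Polynomial.toFinsuppIsoAlg.eq_1.{0}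
  have := @_root_.Polynomial.mapAlgHom.eq_1.{0,0,0}
  have := @_root_.Polynomial.algEquivCMulXAddC.eq_1.{0}
  have := @_root_.Polynomial.aevalTower.eq_1.{0,0,0}
  have := @_root_.Polynomial.CAlgHom.eq_1.{0,0}
  have := @_root_.Polynomial.algEquivOfCompEqX.eq_1.{0}
  have := @_root_.Polynomial.algEquivAevalNegX.eq_1.{0}
  have := @_root_.Polynomial.mapAlg.eq_1.{0,0}
  have := @_root_.Polynomial.mapAlgEquiv.eq_1.{0,0,0}
  have := @_root_.Finsupp.Lex.eq_1.{0,0}
  have := @_root_.Finsupp.cons.eq_1.{0}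
  have := @_root_.finTwoArrowEquiv'.eq_1.{0}
  have := @_root_.Polynomial.TrailingMonic.eq_1.{0}
  have := @_root_.Polynomial.MonicDegreeEq.mk.eq_1.{0}
  have := @_root_.Polynomial.MonicDegreeEq.mk.congr_simp.{0}
  have := @_root_.Polynomial.MonicDegreeEq.eq_1.{0}
  have := @_root_.FixedPoints.addSubgroup.eq_1.{0,0}
  have := @_root_.FixedPoints.addSubmonoid.eq_1.{0,0}
  have := @_root_.FixedPoints.subring.eq_1.{0,0}
  have := @_root_.FixedPoints.subalgebra.eq_1.{0,0,0}
  trivial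

theorem r11_9 : True := by
  have := @_root_.FixedPoints.subalgebra.congr_simp.{0,0,0}
  have := @_root_.FixedPoints.subsemiring.eq_1.{0,0}
  have := @_root_.RingEquiv.piFinTwo.eq_1.{0}
  have := @_root_.DoubleQuot.quotQuotEquivQuotOfLE.eq_1.{0}
  have := @_root_.Ideal.Quotient.liftₐ.eq_1.{0,0,0}
  have := @_root_.Ideal.quotientEquivAlgOfEq.eq_1.{0,0}
  have := @_root_.DoubleQuot.quotQuotEquivComm.eq_1.{0}
  have := @_root_.Ideal.quotientMapₐ.eq_1.{0,0,0}
  have := @_root_.DoubleQuot.quotQuotEquivCommₐ.eq_1.{0,0}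
  have := @_root_.DoubleQuot.quotQuotEquivQuotSup.eq_1.{0}
  have := @_root_.Ideal.Quotient.algebraQuotientOfLEComap.eq_1.{0,0}
  have := @_root_.Ideal.Quotient.algebraQuotientOfLEComap.congr_simp.{0,0}
  have := @_root_.AlgEquiv.quotientBot.eq_1.{0,0}
  have := @_root_.DoubleQuot.liftSupQuotQuotMkₐ.eq_1.{0,0}
  have := @_root_.RingHom.quotientKerEquivOfRightInverse.eq_1.{0,0}
  have := @_root_.Ideal.quotientKerAlgEquivOfSurjective.eq_1.{0,0,0}
  have := @_root_.RingHom.quotientKerEquivRange.eq_1.{0,0}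
  have := @_root_.Ideal.quotientInfEquivQuotientProd.eq_1.{0}
  have := @_root_.Ideal.quotientInfEquivQuotientProd.congr_simp.{0}
  have := @_root_.Ideal.Quotient.mkₐ.eq_1.{0,0}
  have := @_root_.DoubleQuot.quotQuotToQuotSupₐ.eq_1.{0,0}
  have := @_root_.Ideal.quotientEquivAlg.eq_1.{0,0,0}
  have := @_root_.RingHom.quotientKerEquivRangeS.eq_1.{0,0}
  have := @_root_.Ideal.quotientKerEquivRange.eq_1.{0,0,0}
  have := @_root_.Ideal.quotientEquiv.eq_1.{0,0}
  have := @_root_.DoubleQuot.quotQuotEquivQuotSupₐ.eq_1.{0,0}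
  have := @_root_.Ideal.kerLiftAlg.eq_1.{0,0,0}
  have := @_root_.RingHom.kerLift.eq_1.{0,0}
  have := @_root_.Ideal.powQuotPowSuccLinearEquivMapMkPowSuccPow.eq_1.{0}
  have := @_root_.DoubleQuot.quotQuotToQuotSup.eq_1.{0}
  trivial

theorem r11_10 : True := by
  have := @_root_.DoubleQuot.quotLeftToQuotSupₐ.eq_1.{0,0}
  have := @_root_.DoubleQuot.quotQuotEquivQuotOfLEₐ.eq_1.{0,0}
  have := @_root_.DoubleQuot.liftSupQuotQuotMk.eq_1.{0}
  have := @_root_.Ideal.powQuotPowSuccEquivMapMkPowSuccPow.eq_1.{0}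
  have := @_root_.Ideal.quotientKerAlgEquivOfRightInverse.eq_1.{0,0,0}
  have := @_root_.Ideal.quotientKerAlgEquivOfRightInverse.congr_simp.{0,0,0}
  have := @_root_.Ideal.quotientInfRingEquivPiQuotient.eq_1.{0,0}
  have := @_root_.AlgHom.liftOfSurjective.eq_1.{0,0,0,0}
  have := @_root_.Ideal.quotientMulEquivQuotientProd.eq_1.{0}
  have := @_root_.DoubleQuot.quotQuotMkₐ.eq_1.{0,0}
  have := @_root_.Ideal.Quotient.factorₐ.eq_1.{0,0}
  have := @_root_.RingEquiv.quotientBot.eq_1.{0}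
  have := @_root_.Subalgebra.matrix.eq_1.{0,0,0}
  have := @_root_.Subsemiring.addEquivOp.eq_1.{0}
  have := @_root_.Subsemiring.unop.eq_1.{0}
  have := @_root_.Subsemiring.op.eq_1.{0}
  have := @_root_.Subsemiring.opEquiv.eq_1.{0}
  have := @_root_.Subsemiring.ringEquivOpMop.eq_1.{0}
  have := @_root_.Subsemiring.mopRingEquivOp.eq_1.{0}
  have := @_root_.Subring.unop.eq_1.{0}
  have := @_root_.Subring.mopRingEquivOp.eq_1.{0}
  have := @_root_.Subring.ringEquivOpMop.eq_1.{0}
  have := @_root_.Subring.opEquiv.eq_1.{0}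
  have := @_root_.Subring.addEquivOp.eq_1.{0}
  have := @_root_.Subring.op.eq_1.{0}
  have := @_root_.Subalgebra.unop.eq_1.{0,0}
  have := @_root_.Subalgebra.op.eq_1.{0,0}
  have := @_root_.Subalgebra.mopAlgEquivOp.eq_1.{0,0}
  have := @_root_.Subalgebra.linearEquivOp.eq_1.{0,0}
  have := @_root_.Subalgebra.algEquivOpMop.eq_1.{0,0}
  trivial

theorem r11_11 : True := by
  have := @_root_.Subalgebra.opEquiv.eq_1.{0,0}
  have := @_root_.Subsemiring.nonneg.eq_1.{0}
  have := @_root_.Subalgebra.pi.eq_1.{0,0,0}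
  have := @_root_.Subsemiring.pointwiseMulAction.eq_1.{0,0}
  have := @_root_.Subring.pointwiseMulAction.eq_1.{0,0}
  have := @_root_.Subalgebra.pointwiseMulAction.eq_1.{0,0,0}
  have := @_root_.Subalgebra.pointwiseMulAction.congr_simp.{0,0,0}
  have := @_root_.StarSubalgebra.comap.eq_1.{0,0,0}
  have := @_root_.StarAlgebra.gi.eq_1.{0,0}
  have := @_root_.StarSubalgebra.subtype.eq_1.{0,0}
  have := @_root_.StarSubalgebra.ofClass.eq_1.{0,0,0}
  have := @_root_.StarSubalgebra.centralizer.eq_1.{0,0}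
  have := @_root_.StarAlgebra.adjoinCommRingOfComm.eq_1.{0,0}
  have := @_root_.StarAlgebra.adjoinCommRingOfComm.congr_simp.{0,0}
  have := @_root_.StarAlgebra.adjoinCommSemiringOfComm.eq_1.{0,0}
  have := @_root_.StarAlgebra.adjoinCommSemiringOfComm.congr_simp.{0,0}
  have := @_root_.StarSubalgebra.inclusion.eq_1.{0,0}
  have := @_root_.StarAlgebra.adjoin.eq_1.{0,0}
  have := @_root_.StarAlgHom.equalizer.eq_1.{0,0,0,0}
  have := @_root_.StarAlgHom.equalizer.congr_simp.{0,0,0,0}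
  have := @_root_.StarSubalgebra.mk.congr_simp.{0,0}
  have := @_root_.StarAlgHom.restrictScalars.eq_1.{0,0,0,0}
  have := @_root_.StarAlgHom.rangeRestrict.eq_1.{0,0,0}
  have := @_root_.StarSubalgebra.toSubalgebra.eq_1.{0,0}
  have := @_root_.StarSubalgebra.copy.eq_1.{0,0}
  have := @_root_.StarSubalgebra.copy.congr_simp.{0,0}
  have := @_root_.Subalgebra.starClosure.eq_1.{0,0}
  have := @_root_.StarAlgHom.codRestrict.eq_1.{0,0,0}
  have := @_root_.StarAlgHom.range.eq_1.{0,0,0}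
  have := @_root_.StarAlgEquiv.restrictScalars.eq_1.{0,0,0,0}
  trivial

theorem r11_12 : True := by
  have := @_root_.StarAlgEquiv.restrictScalars.congr_simp.{0,0,0,0}
  have := @_root_.NonUnitalStarSubalgebra.toStarSubalgebra.eq_1.{0,0}
  have := @_root_.NonUnitalStarSubalgebra.toStarSubalgebra.congr_simp.{0,0}
  have := @_root_.StarSubalgebra.toNonUnitalStarSubalgebra.eq_1.{0,0}
  have := @_root_.StarSubalgebra.map.eq_1.{0,0,0}
  have := @_root_.StarAlgEquiv.ofInjective.eq_1.{0,0,0}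
  have := @_root_.StarAlgEquiv.ofInjective.congr_simp.{0,0,0}
  have := @_root_.NonUnitalSubalgebra.unitizationAlgEquiv.eq_1.{0,0,0}
  have := @_root_.NonUnitalSubalgebra.unitizationAlgEquiv.congr_simp.{0,0,0}
  have := @_root_.NonUnitalStarSubalgebra.unitizationStarAlgEquiv.eq_1.{0,0,0}
  have := @_root_.NonUnitalStarSubalgebra.unitizationStarAlgEquiv.congr_simp.{0,0,0}
  have := @_root_.Multiset.lists.eq_1.{0}
  have := @_root_.Cycle.ofList.eq_1.{0}
  have := @_root_.Cycle.Nodup.eq_1.{0}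
  have := @_root_.Cycle.eq_1.{0}
  have := @_root_.Cycle.map.eq_1.{0,0}
  have := @_root_.Cycle.Chain.eq_1.{0}
  have := @_root_.Cycle.reverse.eq_1.{0}
  have := @_root_.Cycle.toFinset.eq_1.{0}
  have := @_root_.Cycle.Mem.eq_1.{0}
  have := @_root_.Cycle.prev.eq_1.{0}
  have := @_root_.Cycle.length.eq_1.{0}
  have := @_root_.Cycle.decidableNontrivialCoe.eq_1.{0}
  have := @_root_.Cycle.toMultiset.eq_1.{0}
  have := @_root_.Cycle.next.eq_1.{0}
  have := @_root_.AddAction.stabilizerEquivStabilizerOfOrbitRel.congr_simp.{0,0}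
  have := @_root_.MulAction.stabilizerEquivStabilizerOfOrbitRel.congr_simp.{0,0}
  have := @_root_.MulAction.equivSubgroupOrbitsQuotientGroup.congr_simp.{0,0}
  have := @_root_.AddAction.selfEquivSigmaOrbitsQuotientStabilizer'.congr_simp.{0,0}
  have := @_root_.AddAction.equivAddSubgroupOrbitsQuotientAddGroup.congr_simp.{0,0}
  trivial

theorem r11_13 : True := by
  have := @_root_.Subgroup.quotientCenterEmbedding.eq_1.{0}
  have := @_root_.Subgroup.quotientCenterEmbedding.congr_simp.{0}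
  have := @_root_.MulAction.QuotientAction.mk.congr_simp.{0,0}
  have := @_root_.MulAction.selfEquivSigmaOrbitsQuotientStabilizer'.congr_simp.{0,0}
  have := @_root_.Subgroup.quotientCentralizerEmbedding.eq_1.{0}
  have := @_root_.MulAction.selfEquivOrbitsQuotientProd'.congr_simp.{0,0}
  have := @_root_.AddAction.selfEquivOrbitsQuotientProd.congr_simp.{0,0}
  have := @_root_.MulActionHom.toQuotient.eq_1.{0}
  have := @_root_.AddAction.selfEquivOrbitsQuotientProd'.congr_simp.{0,0}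
  have := @_root_.MulAction.selfEquivOrbitsQuotientProd.congr_simp.{0,0}
  have := @_root_.AddAction.QuotientAction.mk.congr_simp.{0,0}
  have := @_root_.AddSubgroup.IsFiniteRelIndex.mk.congr_simp.{0}
  have := @_root_.Subgroup.fintypeOfIndexNeZero.congr_simp.{0}
  have := @_root_.Subgroup.fintypeQuotientOfFiniteIndex.congr_simp.{0}
  have := @_root_.AddSubgroup.FiniteIndex.mk.congr_simp.{0}
  have := @_root_.Subgroup.IsFiniteRelIndex.mk.congr_simp.{0}
  have := @_root_.AddSubgroup.fintypeQuotientOfFiniteIndex.congr_simp.{0}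
  have := @_root_.Subgroup.FiniteIndex.mk.congr_simp.{0}
  have := @_root_.AddSubgroup.fintypeOfIndexNeZero.congr_simp.{0}
  have := @_root_.IsOfFinAddOrder.addGroupMultiples.congr_simp.{0}
  have := @_root_.LeftCancelMonoid.groupOfFinite.congr_simp.{0}
  have := @_root_.smulCardAddSubgroup.congr_simp.{0}
  have := @_root_.finEquivPowers.congr_simp.{0}
  have := @_root_.addSubgroupOfIdempotent.congr_simp.{0}
  have := @_root_.subgroupOfIdempotent.congr_simp.{0}
  have := @_root_.multiplesEquivMultiples.congr_simp.{0}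
  have := @_root_.nsmulCoprime.congr_simp.{0}
  have := @_root_.zmultiplesEquivZMultiples.congr_simp.{0}
  have := @_root_.IsOfFinOrder.groupPowers.congr_simp.{0}
  have := @_root_.submonoidOfIdempotent.congr_simp.{0}
  trivial

theorem r11_14 : True := by
  have := @_root_.AddLeftCancelMonoid.addGroupOfFinite.congr_simp.{0}
  have := @_root_.powCardSubgroup.congr_simp.{0}
  have := @_root_.finEquivZMultiples.congr_simp.{0}
  have := @_root_.powersEquivPowers.congr_simp.{0}
  have := @_root_.powCoprime.congr_simp.{0}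
  have := @_root_.IsOfFinAddOrder.addUnit.congr_simp.{0}
  have := @_root_.addSubmonoidOfIdempotent.congr_simp.{0}
  have := @_root_.RightCancelMonoid.groupOfFinite.congr_simp.{0}
  have := @_root_.AddRightCancelMonoid.addGroupOfFinite.congr_simp.{0}
  have := @_root_.finEquivMultiples.congr_simp.{0}
  have := @_root_.ZMod.finEquiv.eq_def
  have := @_root_.ZMod.finEquiv.eq_1
  have := @_root_.ZMod.lift.eq_1.{0}
  have := @_root_.ZMod.ringEquivCongr.eq_1
  have := @_root_.ZMod.chineseRemainder.eq_1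
  have := @_root_.ZMod.ringEquiv.eq_1.{0}
  have := @_root_.ZMod.ringEquiv.congr_simp.{0}
  have := @_root_.ZMod.unitsEquivCoprime.eq_1
  have := @_root_.ZMod.unitsEquivCoprime.congr_simp
  have := @_root_.Nat.residueClassesEquiv.congr_simp
  have := @_root_.ZMod.val.eq_def
  have := @_root_.ZMod.unitOfCoprime.eq_1
  have := @_root_.ZMod.cast.eq_def.{0}
  have := @_root_.ZMod.ringEquivOfPrime.eq_1.{0}
  have := @_root_.ZMod.inv.eq_def
  have := @_root_.ZMod.inv.eq_1
  have := @_root_.ZMod.algebra'.eq_1.{0}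
  have := @_root_.ZMod.algebra'.congr_simp.{0}
  have := @_root_.ZMod.algebra.eq_1.{0}
  have := @_root_.ZMod.algebra.congr_simp.{0}
  trivial

theorem r11_15 : True := by
  have := @_root_.ZMod.algebraOfModule.eq_1.{0}
  have := @_root_.Nat.digits.eq_def
  have := @_root_.List.consFixedLengthDigits.eq_1
  have := @_root_.List.fixedLengthDigits.eq_1
  have := @_root_.Nat.digitsAppend.eq_1
  have := @_root_.Nat.maxPowDiv.eq_1
  have := @_root_.Nat.factorizationEquiv.eq_1
  have := @_root_.iterateFrobenius.eq_1.{0}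
  have := @_root_.LinearMap.iterateFrobenius.eq_1.{0,0}
  have := @_root_.LinearMap.iterateFrobenius.congr_simp.{0,0}
  trivial

end CL.BaseAux
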