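import Cfsg.Agent.Base.Imports

/-! On-demand lemmas of Prelude and Mathlib definitions, produced once here so that no other file holds a copy. -/

set_option linter.all false

namespace CL.BaseAux

theorem r12_0 : True := by
  have := @_root_.LinearMap.frobenius.eq_1.{0,0}
  have := @_root_.LinearMap.frobenius.congr_simp.{0,0}
  have := @_root_.Polynomial.derivative.eq_1.{0}
  have := @_root_.Polynomial.derivativeFinsupp.eq_1.{0}
  have := @_root_.AddMonoidAlgebra.divOfHom.eq_1.{0,0}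
  have := @_root_.AddMonoidAlgebra.divOfHom.congr_simp.{0,0}
  have := @_root_.AddMonoidAlgebra.divOf.eq_1.{0,0}
  have := @_root_.AddMonoidAlgebra.modOf.eq_1.{0,0}
  have := @_root_.Polynomial.recOnHorner.eq_1.{0,0}
  have := @_root_.Polynomial.divX.eq_1.{0}
  have := @_root_.Polynomial.decidableDvdMonic.eq_1.{0}
  have := @_root_.Polynomial.decidableDvdMonic.congr_simp.{0}
  have := @_root_.Polynomial.modByMonicHom.eq_1.{0}
  have := @_root_.Polynomial.leval.eq_1.{0}
  have := @_root_.Finsupp.NonTorsionWeight.mk.congr_simp.{0,0,0}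
  have := @_root_.TensorProduct.directLimitLeft.eq_1.{0,0,0,0}
  have := @_root_.TensorProduct.fromDirectLimit.eq_1.{0,0,0,0}
  have := @_root_.lTensor.equiv.eq_1.{0,0,0,0,0}
  have := @_root_.lTensor.equiv.congr_simp.{0,0,0,0,0}
  have := @_root_.rTensor.inverse.congr_simp.{0,0,0,0,0}
  have := @_root_.lTensor.inverse_of_rightInverse.eq_1.{0,0,0,0,0}
  have := @_root_.rTensor.equiv.eq_1.{0,0,0,0,0}
  have := @_root_.rTensor.equiv.congr_simp.{0,0,0,0,0}
  have := @_root_.lTensor.inverse.congr_simp.{0,0,0,0,0}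
  have := @_root_.lTensor.linearEquiv_of_rightInverse.eq_1.{0,0,0,0,0}
  have := @_root_.lTensor.linearEquiv_of_rightInverse.congr_simp.{0,0,0,0,0}
  have := @_root_.rTensor.inverse_of_rightInverse.eq_1.{0,0,0,0,0}
  have := @_root_.rTensor.linearEquiv_of_rightInverse.eq_1.{0,0,0,0,0}
  have := @_root_.rTensor.linearEquiv_of_rightInverse.congr_simp.{0,0,0,0,0}
  have := @_root_.BigOperators.bigexpect.eq_1
  trivial

theorem r12_1 : True := by
  have := @_root_.Sym2.lift₂.eq_1.{0,0,0}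
  have := @_root_.Sym2.lift.eq_1.{0,0}
  have := @_root_.Sym2.equivMultiset.eq_1.{0}
  have := @_root_.Sym2.Mem.other'.eq_1.{0}
  have := @_root_.Sym2.toRelOrderEmbedding.eq_1.{0}
  have := @_root_.Sym2.rec.eq_1.{0,0}
  have := @_root_.Sym2.rec.congr_simp.{0,0}
  have := @_root_.Equiv.sigmaFiberFromRel.eq_1.{0,0}
  have := @_root_.Equiv.sigmaFiberFromRel.congr_simp.{0,0}
  have := @_root_.Sym2.diagElemEquiv.eq_1.{0}
  have := @_root_.Sym2.eq_1.{0}
  have := @_root_.Sym2.Rel.setoid.eq_1.{0}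
  have := @_root_.Sym2.IsDiag.eq_1.{0}
  have := @_root_.Sym2.Mem.eq_1.{0}
  have := @_root_.Sym2.equivSym.eq_1.{0}
  have := @_root_.Sym2.hrec.eq_1.{0,0}
  have := @_root_.Sym2.hrec.congr_simp.{0,0}
  have := @_root_.Sym2.Mem.other.eq_1.{0}
  have := @_root_.Sym2.ToRel.eq_1.{0}
  have := @_root_.Sym2.sym2EquivSym'.eq_1.{0}
  have := @_root_.Sym2.attachWith.eq_1.{0}
  have := @_root_.Sym2.attachWith.congr_simp.{0}
  have := @_root_.Equiv.sigmaQuotFromRel.eq_1.{0,0}
  have := @_root_.Set.sym2.eq_1.{0}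
  have := @_root_.Equiv.sigmaQuotientFromRel.eq_1.{0,0}
  have := @_root_.Sym2.recOnSubsingleton.eq_1.{0,0}
  have := @_root_.Sym2.recOnSubsingleton.congr_simp.{0,0}
  have := @_root_.Sym2.fromRelOrderIso.eq_1.{0}
  have := @_root_.Function.Embedding.sym2Map.eq_1.{0,0}
  have := @_root_.Sym2.fromRel.eq_1.{0}
  trivial

theorem r12_2 : True := by
  have := @_root_.Sym2.fromRelNdrec.eq_1.{0,0}
  have := @_root_.Sym2.diagSet.eq_1.{0}
  have := @_root_.Sym2.fromRelOrderEmbedding.eq_1.{0}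
  have := @_root_.Sym2.pmap.eq_1.{0,0}
  have := @_root_.Sym2.pmap.congr_simp.{0,0}
  have := @_root_.Sym2.map.eq_1.{0,0}
  have := @_root_.Sym2.diagElem.eq_1.{0}
  have := @_root_.Sym2.mkEmbedding.eq_1.{0}
  have := @_root_.Multiset.sym2.eq_1.{0}
  have := @_root_.Finset.symInsertEquiv.eq_1.{0}
  have := @_root_.Finset.sym.eq_def.{0}
  have := @_root_.Finset.sym.eq_1.{0}
  have := @_root_.Finset.sym2.eq_1.{0}
  have := @_root_.Sym2.sortEquiv.eq_1.{0}
  have := @_root_.Sym2.sup.eq_1.{0}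
  have := @_root_.Sym2.inf.eq_1.{0}
  have := @_root_.Finset.vsub.eq_1.{0,0}
  have := @_root_.Finset.Nat.sigmaAntidiagonalTupleEquivTuple.eq_1
  have := @_root_.Multiset.Nat.antidiagonalTuple.eq_1
  have := @_root_.Finset.Nat.antidiagonalTuple.eq_1
  have := @_root_.Equiv.Perm.IsSwap.eq_1.{0}
  have := @_root_.Fintype.chooseX.eq_1.{0}
  have := @_root_.Fintype.chooseX.congr_simp.{0}
  have := @_root_.Fintype.bijInv.eq_1.{0,0}
  have := @_root_.Function.Injective.invOfMemRange.eq_1.{0,0}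
  have := @_root_.Fintype.choose.eq_1.{0}
  have := @_root_.Fintype.choose.congr_simp.{0}
  have := @_root_.Equiv.setDiffEquiv.eq_1.{0}
  have := @_root_.Equiv.setDiffEquiv.congr_simp.{0}
  have := @_root_.Equiv.toCompl.eq_1.{0}
  trivial

theorem r12_3 : True := by
  have := @_root_.Equiv.extendSubtype.eq_1.{0}
  have := @_root_.Equiv.Perm.subtypePermOfFintype.eq_1.{0}
  have := @_root_.Equiv.Perm.subtypePermOfFintype.congr_simp.{0}
  have := @_root_.List.formPerm.eq_1.{0}
  have := @_root_.fintypePerm.eq_1.{0}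
  have := @_root_.permsOfFinset.eq_1.{0}
  have := @_root_.Equiv.Perm.truncSwapFactors.eq_1.{0}
  have := @_root_.Equiv.Perm.modSwap.eq_1.{0}
  have := @_root_.Equiv.Perm.swapFactors.eq_1.{0}
  have := @_root_.Equiv.Perm.sign.eq_1.{0}
  have := @_root_.Equiv.Perm.SameCycle.setoid.eq_1.{0}
  have := @_root_.Equiv.Perm.IsCycle.zpowersEquivSupport.eq_1.{0}
  have := @_root_.Equiv.Perm.subtypePerm_of_support_le.eq_1.{0}
  have := @_root_.Equiv.Perm.subtypePerm_of_support_le.congr_simp.{0}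
  have := @_root_.Subgroup.noncommPiCoprod.congr_simp.{0,0}
  have := @_root_.AddSubgroup.noncommPiCoprod.congr_simp.{0,0}
  have := @_root_.AddMonoidHom.noncommPiCoprod.congr_simp.{0,0,0}
  have := @_root_.Equiv.Perm.cycleFactors.eq_1.{0}
  have := @_root_.Equiv.Perm.truncCycleFactors.eq_1.{0}
  have := @_root_.Equiv.Perm.cycleOf.eq_1.{0}
  have := @_root_.Equiv.Perm.partition.eq_1.{0}
  have := @_root_.Equiv.Perm.VectorsProdEqOne.vectorEquiv.eq_1.{0}
  have := @_root_.Equiv.Perm.VectorsProdEqOne.rotate.eq_1.{0}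
  have := @_root_.Equiv.Perm.vectorsProdEqOne.eq_1.{0}
  have := @_root_.Equiv.Perm.VectorsProdEqOne.equivVector.eq_def.{0}
  have := @_root_.Equiv.Perm.VectorsProdEqOne.equivVector.eq_1.{0}
  have := @_root_.Equiv.Perm.decomposeOption.eq_1.{0}
  have := @_root_.FunLike.negZeroClass.congr_simp.{0,0,0}
  have := @_root_.FunLike.subtractionCommMonoid.congr_simp.{0,0,0}
  have := @_root_.FunLike.addGroup.congr_simp.{0,0,0}
  trivial

theorem r12_4 : True := by
  have := @_root_.FunLike.commSemigroup.congr_simp.{0,0,0}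
  have := @_root_.FunLike.involutiveInv.congr_simp.{0,0,0}
  have := @_root_.FunLike.subtractionMonoid.congr_simp.{0,0,0}
  have := @_root_.FunLike.semigroup.congr_simp.{0,0,0}
  have := @_root_.FunLike.divisionCommMonoid.congr_simp.{0,0,0}
  have := @_root_.FunLike.leftCancelSemigroup.congr_simp.{0,0,0}
  have := @_root_.FunLike.divisionMonoid.congr_simp.{0,0,0}
  have := @_root_.FunLike.coeMonoidHom.congr_simp.{0,0,0}
  have := @_root_.FunLike.addCancelCommMonoid.congr_simp.{0,0,0}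
  have := @_root_.FunLike.addLeftCancelSemigroup.congr_simp.{0,0,0}
  have := @_root_.FunLike.monoid.congr_simp.{0,0,0}
  have := @_root_.FunLike.addZeroClass.congr_simp.{0,0,0}
  have := @_root_.FunLike.addCommGroup.congr_simp.{0,0,0}
  have := @_root_.FunLike.subNegMonoid.congr_simp.{0,0,0}
  have := @_root_.FunLike.addCommSemigroup.congr_simp.{0,0,0}
  have := @_root_.FunLike.subNegZeroMonoid.congr_simp.{0,0,0}
  have := @_root_.FunLike.invOneClass.congr_simp.{0,0,0}
  have := @_root_.FunLike.coeAddHom.congr_simp.{0,0,0}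
  have := @_root_.FunLike.cancelCommMonoid.congr_simp.{0,0,0}
  have := @_root_.FunLike.group.congr_simp.{0,0,0}
  have := @_root_.FunLike.addLeftCancelMonoid.congr_simp.{0,0,0}
  have := @_root_.FunLike.rightCancelSemigroup.congr_simp.{0,0,0}
  have := @_root_.FunLike.addRightCancelMonoid.congr_simp.{0,0,0}
  have := @_root_.FunLike.addCancelMonoid.congr_simp.{0,0,0}
  have := @_root_.FunLike.addCommMonoid.congr_simp.{0,0,0}
  have := @_root_.FunLike.rightCancelMonoid.congr_simp.{0,0,0}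
  have := @_root_.FunLike.commMonoid.congr_simp.{0,0,0}
  have := @_root_.FunLike.commGroup.congr_simp.{0,0,0}
  have := @_root_.FunLike.addRightCancelSemigroup.congr_simp.{0,0,0}
  have := @_root_.FunLike.addMonoid.congr_simp.{0,0,0}
  trivial

theorem r12_5 : True := by
  have := @_root_.FunLike.involutiveNeg.congr_simp.{0,0,0}
  have := @_root_.FunLike.divInvOneMonoid.congr_simp.{0,0,0}
  have := @_root_.FunLike.coeMulHom.congr_simp.{0,0,0}
  have := @_root_.FunLike.mulOneClass.congr_simp.{0,0,0}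
  have := @_root_.FunLike.addSemigroup.congr_simp.{0,0,0}
  have := @_root_.FunLike.leftCancelMonoid.congr_simp.{0,0,0}
  have := @_root_.FunLike.cancelMonoid.congr_simp.{0,0,0}
  have := @_root_.FunLike.divInvMonoid.congr_simp.{0,0,0}
  have := @_root_.FunLike.addAction.congr_simp.{0,0,0,0}
  have := @_root_.FunLike.mulAction.congr_simp.{0,0,0,0}
  have := @_root_.FunLike.distribSMul.eq_1.{0,0,0,0}
  have := @_root_.FunLike.distribSMul.congr_simp.{0,0,0,0}
  have := @_root_.FunLike.distribMulAction.eq_1.{0,0,0,0}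
  have := @_root_.FunLike.distribMulAction.congr_simp.{0,0,0,0}
  have := @_root_.FunLike.module.eq_1.{0,0,0,0}
  have := @_root_.FunLike.module.congr_simp.{0,0,0,0}
  have := @_root_.MultilinearMap.ofSubsingletonₗ.eq_1.{0,0,0,0,0}
  have := @_root_.MultilinearMap.ofSubsingletonₗ.congr_simp.{0,0,0,0,0}
  have := @_root_.MultilinearMap.toLinearMap.eq_1.{0,0,0,0}
  have := @_root_.MultilinearMap.constLinearEquivOfIsEmpty.eq_1.{0,0,0,0,0}
  have := @_root_.MultilinearMap.constLinearEquivOfIsEmpty.congr_simp.{0,0,0,0,0}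
  have := @_root_.MultilinearMap.piLinearMap.eq_1.{0,0,0,0,0}
  have := @_root_.MultilinearMap.mkPiAlgebraFin.eq_1.{0,0}
  have := @_root_.MultilinearMap.domDomCongrLinearEquiv.eq_1.{0,0,0,0,0,0}
  have := @_root_.MultilinearMap.mkPiAlgebra.eq_1.{0,0,0}
  have := @_root_.LinearEquiv.multilinearMapCongrRight.eq_1.{0,0,0,0,0,0}
  have := @_root_.MultilinearMap.range.eq_1.{0,0,0,0}
  have := @_root_.MultilinearMap.range.congr_simp.{0,0,0,0}
  have := @_root_.MultilinearMap.compLinearMap.eq_1.{0,0,0,0,0}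
  have := @_root_.MultilinearMap.ofSubsingleton.eq_1.{0,0,0,0}
  trivial

theorem r12_6 : True := by
  have := @_root_.MultilinearMap.compLinearMapMultilinear.eq_1.{0,0,0,0,0}
  have := @_root_.MultilinearMap.constOfIsEmpty.eq_1.{0,0,0,0}
  have := @_root_.MultilinearMap.restrictScalars.eq_1.{0,0,0,0,0}
  have := @_root_.MultilinearMap.restrictScalars.congr_simp.{0,0,0,0,0}
  have := @_root_.MultilinearMap.coeAddMonoidHom.eq_1.{0,0,0}
  have := @_root_.MultilinearMap.coeAddMonoidHom.congr_simp.{0,0,0}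
  have := @_root_.MultilinearMap.map.eq_1.{0,0,0,0}
  have := @_root_.MultilinearMap.map.congr_simp.{0,0,0,0}
  have := @_root_.MultilinearMap.domDomCongrEquiv.eq_1.{0,0,0,0,0}
  have := @_root_.MultilinearMap.compMultilinearMap.eq_1.{0,0,0,0,0,0}
  have := @_root_.LinearEquiv.multilinearMapCongrLeft.eq_1.{0,0,0,0,0}
  have := @_root_.MultilinearMap.restr.eq_1.{0,0,0}
  have := @_root_.MultilinearMap.restr.congr_simp.{0,0,0}
  have := @_root_.MultilinearMap.linearDeriv.eq_1.{0,0,0,0}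
  have := @_root_.MultilinearMap.domDomRestrict.eq_1.{0,0,0,0}
  have := @_root_.MultilinearMap.pi.eq_1.{0,0,0,0,0}
  have := @_root_.MultilinearMap.compLinearMapₗ.eq_1.{0,0,0,0,0}
  have := @_root_.MultilinearMap.smulRight.eq_1.{0,0,0,0}
  have := @_root_.MultilinearMap.codRestrict.eq_1.{0,0,0,0}
  have := @_root_.LinearMap.compMultilinearMapₗ.eq_1.{0,0,0,0,0,0}
  have := @_root_.MultilinearMap.prod.eq_1.{0,0,0,0,0}
  have := @_root_.MultilinearMap.iteratedFDeriv.eq_1.{0,0,0,0}
  have := @_root_.MultilinearMap.mk'.eq_1.{0,0,0,0}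
  have := @_root_.MultilinearMap.mkPiRing.eq_1.{0,0,0}
  have := @_root_.MultilinearMap.toFun.eq_1.{0,0,0,0}
  have := @_root_.MultilinearMap.freeDFinsuppEquiv.eq_1.{0,0,0,0}
  have := @_root_.MultilinearMap.dfinsuppFamily.eq_1.{0,0,0,0,0}
  have := @_root_.MultilinearMap.dfinsuppFamilyₗ.eq_1.{0,0,0,0,0}
  have := @_root_.MultilinearMap.freeFinsuppEquiv.eq_1.{0,0,0,0}
  have := @_root_.LinearEquiv.alternatingMapCongrRight.eq_1.{0,0,0,0,0}
  trivial

theorem r12_7 : True := by
  have := @_root_.AlternatingMap.codRestrict.eq_1.{0,0,0,0}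
  have := @_root_.AlternatingMap.codRestrict.congr_simp.{0,0,0,0}
  have := @_root_.AlternatingMap.smulRight.eq_1.{0,0,0,0}
  have := @_root_.MultilinearMap.alternatization.eq_1.{0,0,0,0}
  have := @_root_.AlternatingMap.prod.eq_1.{0,0,0,0,0}
  have := @_root_.AlternatingMap.domDomCongrₗ.eq_1.{0,0,0,0,0,0}
  have := @_root_.AlternatingMap.domDomCongr.eq_1.{0,0,0,0,0}
  have := @_root_.AlternatingMap.compLinearMap.eq_1.{0,0,0,0,0}
  have := @_root_.AlternatingMap.constLinearEquivOfIsEmpty.eq_1.{0,0,0,0}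
  have := @_root_.AlternatingMap.constOfIsEmpty.eq_1.{0,0,0,0}
  have := @_root_.AlternatingMap.domLCongr.eq_1.{0,0,0,0,0,0}
  have := @_root_.AlternatingMap.toMultilinearMap.eq_1.{0,0,0,0}
  have := @_root_.AlternatingMap.toMultilinearMapLM.eq_1.{0,0,0,0,0}
  have := @_root_.AlternatingMap.domDomCongrEquiv.eq_1.{0,0,0,0,0}
  have := @_root_.LinearMap.compAlternatingMapₗ.eq_1.{0,0,0,0,0,0}
  have := @_root_.LinearMap.compAlternatingMapₗ.congr_simp.{0,0,0,0,0,0}
  have := @_root_.AlternatingMap.ofSubsingleton.eq_1.{0,0,0,0}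
  have := @_root_.LinearMap.compAlternatingMap.eq_1.{0,0,0,0,0}
  have := @_root_.AlternatingMap.pi.eq_1.{0,0,0,0,0}
  have := @_root_.Matrix.detMonoidHom.eq_1.{0,0}
  have := @_root_.Matrix.detRowAlternating.eq_1.{0,0}
  have := @_root_.Matrix.reindexAlgEquiv.eq_1.{0,0,0,0}
  have := @_root_.Matrix.reindexRingEquiv.eq_1.{0,0,0}
  have := @_root_.Matrix.reindexLinearEquiv.eq_1.{0,0,0,0,0,0}
  have := @_root_.Matrix.reindexAddEquiv.eq_1.{0,0,0,0,0}
  have := @_root_.AddMonoidHom.toRatLinearMap.eq_1.{0,0}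
  have := @_root_.TensorAlgebra.tprod.eq_1.{0,0}
  have := @_root_.TensorAlgebra.toTrivSqZeroExt.eq_1.{0,0}
  have := @_root_.TensorAlgebra.eq_1.{0,0}
  have := @_root_.TensorAlgebra.ringCon.eq_1.{0,0}
  trivial

theorem r12_8 : True := by
  have := @_root_.toBoolRing.eq_1.{0}
  have := @_root_.ofBoolAlg.eq_1.{0}
  have := @_root_.toBoolAlg.eq_1.{0}
  have := @_root_.GeneralizedBooleanAlgebra.toNonUnitalCommRing.eq_1.{0}
  have := @_root_.BooleanAlgebra.toBooleanRing.eq_1.{0}
  have := @_root_.BooleanRing.sup.eq_1.{0}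
  have := @_root_.ofBoolRing.eq_1.{0}
  have := @_root_.RingEquiv.asBoolRingAsBoolAlg.eq_1.{0}
  have := @_root_.BooleanRing.mk.congr_simp.{0}
  have := @_root_.BoundedLatticeHom.asBoolRing.eq_1.{0,0}
  have := @_root_.OrderIso.asBoolAlgAsBoolRing.eq_1.{0}
  have := @_root_.BooleanRing.toBooleanAlgebra.eq_1.{0}
  have := @_root_.BooleanRing.inf.eq_1.{0}
  have := @_root_.RingHom.asBoolAlg.eq_1.{0,0}
  have := @_root_.AsBoolRing.eq_1.{0}
  have := @_root_.AsBoolAlg.eq_1.{0}
  have := @_root_.AddSubmonoid.LocalizationMap.awayToAwayRight.eq_1.{0,0,0}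
  have := @_root_.Submonoid.LocalizationMap.AwayMap.invSelf.eq_1.{0,0}
  have := @_root_.AddSubmonoid.LocalizationMap.AwayMap.lift.eq_1.{0,0,0}
  have := @_root_.AddSubmonoid.LocalizationMap.AwayMap.lift.congr_simp.{0,0,0}
  have := @_root_.Submonoid.LocalizationMap.AwayMap.lift.eq_1.{0,0,0}
  have := @_root_.Submonoid.LocalizationMap.AwayMap.lift.congr_simp.{0,0,0}
  have := @_root_.AddSubmonoid.LocalizationMap.AwayMap.negSelf.eq_1.{0,0}
  have := @_root_.Submonoid.LocalizationMap.awayToAwayRight.eq_1.{0,0,0}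
  have := @_root_.Ideal.IsLocal.mk.congr_simp.{0}
  have := @_root_.LocalizedModule.mul.eq_1.{0,0}
  have := @_root_.LocalizedModule.smulOfIsLocalization.eq_1.{0,0,0}
  have := @_root_.LocalizedModule.smulOfIsLocalization.congr_simp.{0,0,0}
  have := @_root_.IsLocalizedModule.module.eq_1.{0,0,0,0}
  have := @_root_.IsLocalizedModule.module.congr_simp.{0,0,0,0}
  trivial

theorem r12_9 : True := by
  have := @_root_.LocalizedModule.Away.eq_1.{0,0}
  have := @_root_.LocalizedModule.liftOn₂.eq_1.{0,0,0}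
  have := @_root_.LocalizedModule.liftOn₂.congr_simp.{0,0,0}
  have := @_root_.LocalizedModule.moduleOfIsLocalization.eq_1.{0,0,0}
  have := @_root_.LocalizedModule.moduleOfIsLocalization.congr_simp.{0,0,0}
  have := @_root_.LocalizedModule.liftOn.eq_1.{0,0,0}
  have := @_root_.LocalizedModule.liftOfLE.eq_1.{0,0}
  have := @_root_.LocalizedModule.liftOfLE.congr_simp.{0,0}
  have := @_root_.LocalizedModule.lift'.eq_1.{0,0,0}
  have := @_root_.LocalizedModule.lift'.congr_simp.{0,0,0}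
  have := @_root_.LocalizedModule.mkLinearMap.eq_1.{0,0}
  have := @_root_.IsLocalizedModule.mk'.eq_1.{0,0,0}
  have := @_root_.IsLocalizedModule.mk.congr_simp.{0,0,0}
  have := @_root_.LocalizedModule.divBy.eq_1.{0,0}
  have := @_root_.LocalizedModule.eq_1.{0,0}
  have := @_root_.LocalizedModule.numeratorRingHom.eq_1.{0,0}
  have := @_root_.IsLocalizedModule.Away.eq_1.{0,0,0}
  have := @_root_.LocalizedModule.algebraOfIsLocalization.eq_1.{0,0,0}
  have := @_root_.LocalizedModule.algebraOfIsLocalization.congr_simp.{0,0,0}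
  have := @_root_.IsLocalizedModule.fromLocalizedModule'.eq_1.{0,0,0}
  have := @_root_.LocalizedModule.r.eq_1.{0,0}
  have := @_root_.LocalizedModule.lift.eq_1.{0,0,0}
  have := @_root_.Functor.mapEquiv.eq_1.{0,0}
  have := @_root_.Bifunctor.mapEquiv.eq_1.{0,0,0}
  have := @_root_.AddSubgroup.addUnit_of_mem_ofAddUnits.congr_simp.{0}
  have := @_root_.Subgroup.unit_of_mem_ofUnits.congr_simp.{0}
  have := @_root_.Units.posSubgroup.eq_1.{0}
  have := @_root_.Encodable.fintypeEquivFin.eq_1.{0}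
  have := @_root_.Encodable.sortedUniv.eq_1.{0}
  have := @_root_.Module.DualBases.mk.congr_simp.{0,0,0}
  trivial

theorem r12_10 : True := by
  have := @_root_.Module.Basis.toDualFlip.eq_1.{0,0,0}
  have := @_root_.Module.Basis.toDualFlip.congr_simp.{0,0,0}
  have := @_root_.Module.DualBases.coeffs.eq_1.{0,0,0}
  have := @_root_.Module.DualBases.basis.eq_1.{0,0,0}
  have := @_root_.Module.Basis.toDualEquiv.eq_1.{0,0,0}
  have := @_root_.evalUseFiniteInstance.eq_1
  have := @_root_.HasRankNullity.mk.congr_simp.{0,0}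
  have := @_root_.LinearMap.linearEquivOfInjective.eq_1.{0,0,0}
  have := @_root_.basisOfLinearIndependentOfCardEqFinrank'.eq_1.{0,0,0}
  have := @_root_.basisOfLinearIndependentOfCardEqFinrank'.congr_simp.{0,0,0}
  have := @_root_.FiniteDimensional.LinearEquiv.quotEquivOfEquiv.eq_1.{0,0,0}
  have := @_root_.FiniteDimensional.LinearEquiv.quotEquivOfEquiv.congr_simp.{0,0,0}
  have := @_root_.setBasisOfLinearIndependentOfCardEqFinrank.congr_simp.{0,0}
  have := @_root_.FiniteDimensional.LinearEquiv.quotEquivOfQuotEquiv.eq_1.{0,0}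
  have := @_root_.FiniteDimensional.LinearEquiv.quotEquivOfQuotEquiv.congr_simp.{0,0}
  have := @_root_.finsetBasisOfLinearIndependentOfCardEqFinrank.congr_simp.{0,0}
  have := @_root_.basisOfLinearIndependentOfCardEqFinrank.eq_1.{0,0,0}
  have := @_root_.LinearMap.IsPosSemidef.mk.congr_simp.{0,0}
  have := @_root_.LinearMap.isPairSelfAdjointSubmodule.eq_1.{0,0,0}
  have := @_root_.LinearMap.IsRefl.eq_1.{0,0,0,0}
  have := @_root_.LinearMap.IsAlt.eq_1.{0,0,0,0}
  have := @_root_.LinearMap.IsOrthogonal.eq_1.{0,0}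
  have := @_root_.LinearMap.IsNonneg.mk.congr_simp.{0,0}
  have := @_root_.LinearMap.skewAdjointSubmodule.eq_1.{0,0,0}
  have := @_root_.LinearMap.IsSkewAdjoint.eq_1.{0,0,0}
  have := @_root_.LinearMap.IsSelfAdjoint.eq_1.{0,0,0}
  have := @_root_.LinearMap.IsOrthoᵢ.eq_1.{0,0,0,0,0}
  have := @_root_.LinearMap.selfAdjointSubmodule.eq_1.{0,0,0}
  have := @_root_.LinearMap.IsSymm.mk.congr_simp.{0,0}
  have := @_root_.LinearMap.IsAdjointPair.eq_1.{0,0,0,0}
  trivial

theorem r12_11 : True := by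
  have := @_root_.Subspace.quotDualEquivAnnihilator.eq_1.{0,0}
  have := @_root_.Subspace.quotDualEquivAnnihilator.congr_simp.{0,0}
  have := @_root_.Subspace.dualEquivDual.eq_1.{0,0}
  have := @_root_.TensorProduct.AlgebraTensorModule.dualDistrib.eq_1.{0,0,0,0}
  have := @_root_.Subspace.orderIsoFiniteCodimDim.eq_1.{0,0}
  have := @_root_.Subspace.dualAnnihilatorGci.eq_1.{0,0}
  have := @_root_.Subspace.quotEquivAnnihilator.eq_1.{0,0}
  have := @_root_.Subspace.quotEquivAnnihilator.congr_simp.{0,0}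
  have := @_root_.Subspace.dualQuotDistrib.eq_1.{0,0}
  have := @_root_.Subspace.dualQuotDistrib.congr_simp.{0,0}
  have := @_root_.Submodule.dualPairing.eq_1.{0,0}
  have := @_root_.Submodule.dualQuotEquivDualAnnihilator.eq_1.{0,0}
  have := @_root_.Subspace.quotAnnihilatorEquiv.eq_1.{0,0}
  have := @_root_.Submodule.dualCopairing.eq_1.{0,0}
  have := @_root_.Module.dualProdDualEquivDual.eq_1.{0,0,0}
  have := @_root_.Subspace.dualLift.eq_1.{0,0}
  have := @_root_.Submodule.quotDualCoannihilatorToDual.eq_1.{0,0}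
  have := @_root_.Subspace.orderIsoFiniteDimensional.eq_1.{0,0}
  have := @_root_.Subspace.orderIsoFiniteDimensional.congr_simp.{0,0}
  have := @_root_.contractLeft.eq_1.{0,0}
  have := @_root_.contractRight.eq_1.{0,0}
  have := @_root_.dualTensorHomEquivOfBasis.eq_1.{0,0,0,0}
  have := @_root_.TensorProduct.dualDistribEquivOfBasis.eq_1.{0,0,0,0,0}
  have := @_root_.TensorProduct.dualDistribEquivOfBasis.congr_simp.{0,0,0,0,0}
  have := @_root_.homTensorHomEquiv.congr_simp.{0,0,0,0,0}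
  have := @_root_.dualTensorHomEquiv.congr_simp.{0,0,0}
  have := @_root_.dualTensorHom.eq_1.{0,0,0}
  have := @_root_.TensorProduct.dualDistribEquiv.congr_simp.{0,0,0}
  have := @_root_.Module.Baer.ExtensionOf.max.eq_1.{0,0,0,0}
  have := @_root_.Module.Baer.ExtensionOf.max.congr_simp.{0,0,0,0}
  trivial

theorem r12_12 : True := by
  have := @_root_.Module.Injective.mk.congr_simp.{0,0}
  have := @_root_.Module.Baer.ExtensionOfMaxAdjoin.snd.eq_1.{0,0,0,0}
  have := @_root_.Module.Baer.ExtensionOf.toLinearPMap.eq_1.{0,0,0,0}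
  have := @_root_.Module.Baer.ExtensionOfMaxAdjoin.extensionToFun.eq_1.{0,0,0,0}
  have := @_root_.Module.Baer.ExtensionOfMaxAdjoin.extensionToFun.congr_simp.{0,0,0,0}
  have := @_root_.Module.Baer.ExtensionOfMaxAdjoin.extendIdealTo.eq_1.{0,0,0,0}
  have := @_root_.Module.Baer.extensionOfMax.eq_1.{0,0,0,0}
  have := @_root_.Module.Baer.extensionOfMax.congr_simp.{0,0,0,0}
  have := @_root_.Module.Baer.extensionOfMaxAdjoin.congr_simp.{0,0,0,0}
  have := @_root_.Module.Baer.ExtensionOfMaxAdjoin.ideal.eq_1.{0,0,0,0}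
  have := @_root_.Module.Baer.ExtensionOfMaxAdjoin.ideal.congr_simp.{0,0,0,0}
  have := @_root_.Module.Baer.ExtensionOfMaxAdjoin.fst.eq_1.{0,0,0,0}
  have := @_root_.Module.Baer.ExtensionOf.mk.congr_simp.{0,0,0,0}
  have := @_root_.Module.Baer.supExtensionOfMaxSingleton.eq_1.{0,0,0,0}
  have := @_root_.Module.Baer.supExtensionOfMaxSingleton.congr_simp.{0,0,0,0}
  have := @_root_.rootableByOfPowLeftSurj.congr_simp.{0,0}
  have := @_root_.DivisibleBy.div.eq_1.{0,0}
  have := @_root_.divisibleByOfSMulRightSurj.congr_simp.{0,0}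
  have := @_root_.RootableBy.mk.congr_simp.{0,0}
  have := @_root_.Function.Surjective.divisibleBy.congr_simp.{0,0,0}
  have := @_root_.RootableBy.root.eq_1.{0,0}
  have := @_root_.Function.Surjective.rootableBy.congr_simp.{0,0,0}
  have := @_root_.AddCommGroup.divisibleByIntOfSMulTopEqTop.eq_1.{0}
  have := @_root_.AddCommGroup.divisibleByIntOfSMulTopEqTop.congr_simp.{0}
  have := @_root_.DivisibleBy.mk.congr_simp.{0,0}
  have := @_root_.Int.negOnePow.eq_1
  have := @_root_.Function.Periodic.lift.eq_1.{0,0}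
  have := @_root_.AddAut.mulRight.eq_1.{0}
  have := @_root_.AddAut.mulLeft.eq_1.{0}
  have := @_root_.Nat.recOnPrimePow.eq_1.{0}
  trivial

theorem r12_13 : True := by
  have := @_root_.Nat.recOnMul.eq_1.{0}
  have := @_root_.Nat.recOnPosPrimePosCoprime.eq_1.{0}
  have := @_root_.Nat.recOnPrimeCoprime.eq_1.{0}
  have := @_root_.Nat.CountSet.fintype.eq_1
  have := @_root_.FiniteInter.finiteInterClosure.inter.congr_simp.{0}
  have := @_root_.FiniteInter.mk.congr_simp.{0}
  have := @_root_.FiniteInter.finiteInterClosure.basic.congr_simp.{0}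
  have := @_root_.SetM.run.eq_1.{0}
  have := @_root_.Set.monad.eq_1.{0}
  have := @_root_.SetM.eq_1.{0}
  have := @_root_.PartialEquiv.trans'.eq_1.{0,0,0}
  have := @_root_.PartialEquiv.copy.eq_1.{0,0}
  have := @_root_.PartialEquiv.copy.congr_simp.{0,0}
  have := @_root_.Equiv.transPartialEquiv.eq_1.{0,0,0}
  have := @_root_.PartialEquiv.refl.eq_1.{0}
  have := @_root_.PartialEquiv.invFun.eq_1.{0,0}
  have := @_root_.PartialEquiv.IsImage.restr.eq_1.{0,0}
  have := @_root_.PartialEquiv.transEquiv.eq_1.{0,0,0}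
  have := @_root_.PartialEquiv.toEquiv.eq_1.{0,0}
  have := @_root_.PartialEquiv.ofSet.eq_1.{0}
  have := @_root_.PartialEquiv.pi.eq_1.{0,0,0}
  have := @_root_.PartialEquiv.single.eq_1.{0,0}
  have := @_root_.PartialEquiv.source.eq_1.{0,0}
  have := @_root_.PartialEquiv.restr.eq_1.{0,0}
  have := @_root_.PartialEquiv.target.eq_1.{0,0}
  have := @_root_.Set.BijOn.toPartialEquiv.eq_1.{0,0}
  have := @_root_.PartialEquiv.toFun.eq_1.{0,0}
  have := @_root_.Equiv.toPartialEquivOfImageEq.eq_1.{0,0}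
  have := @_root_.PartialEquiv.trans.eq_1.{0,0,0}
  have := @_root_.PartialEquiv.piecewise.eq_1.{0,0}
  trivial

theorem r12_14 : True := by
  have := @_root_.PartialEquiv.disjointUnion.eq_1.{0,0}
  have := @_root_.PartialEquiv.disjointUnion.congr_simp.{0,0}
  have := @_root_.CharacterModule.congr.eq_1.{0,0,0}
  have := @_root_.CharacterModule.uncurry.eq_1.{0,0,0}
  have := @_root_.CharacterModule.homEquiv.eq_1.{0,0,0}
  have := @_root_.CharacterModule.dual.eq_1.{0,0,0}
  have := @_root_.CharacterModule.intSpanEquivQuotAddOrderOf.eq_1.{0}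
  have := @_root_.CharacterModule.int.eq_1
  have := @_root_.CharacterModule.eq_1.{0}
  have := @_root_.CharacterModule.curry.eq_1.{0,0,0}
  have := @_root_.Submodule.localized'FrameHom.eq_1.{0,0,0,0}
  have := @_root_.Submodule.localized'FrameHom.congr_simp.{0,0,0,0}
  have := @_root_.Submodule.localized₀FrameHom.eq_1.{0,0,0}
  have := @_root_.Submodule.toLocalized.eq_1.{0,0}
  have := @_root_.Submodule.toLocalized₀.eq_1.{0,0,0}
  have := @_root_.LinearMap.toKerIsLocalized.eq_1.{0,0,0,0,0}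
  have := @_root_.Submodule.toLocalizedQuotient'.eq_1.{0,0,0,0}
  have := @_root_.Submodule.localized₀.eq_1.{0,0,0}
  have := @_root_.Submodule.toLocalizedQuotient.eq_1.{0,0}
  have := @_root_.localizedQuotientEquiv.eq_1.{0,0}
  have := @_root_.Submodule.toLocalized'.eq_1.{0,0,0,0}
  have := @_root_.Submodule.localizedEquiv.eq_1.{0,0}
  have := @_root_.Submodule.localized'gi.eq_1.{0,0,0,0}
  have := @_root_.Submodule.localized'.eq_1.{0,0,0,0}
  have := @_root_.MulSemiringAction.toRingAut.eq_1.{0,0}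
  have := @_root_.Ideal.pointwiseMulSemiringAction.eq_1.{0,0}
  have := @_root_.Ideal.pointwiseDistribMulAction.eq_1.{0,0}
  have := @_root_.Ideal.Quotient.algEquivOfEqMap.eq_1.{0,0,0,0}
  have := @_root_.Ideal.Quotient.algEquivOfEqMap.congr_simp.{0,0,0,0}
  have := @_root_.Ideal.primesOver.mk.eq_1.{0,0}
  trivial

theorem r12_15 : True := by
  have := @_root_.Ideal.primesOver.mk.congr_simp.{0,0}
  have := @_root_.Ideal.Quotient.stabilizerHom.eq_1.{0,0,0}
  have := @_root_.Ideal.LiesOver.mk.congr_simp.{0,0}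
  have := @_root_.Ideal.Quotient.algEquivOfEqComap.eq_1.{0,0,0,0}
  have := @_root_.Ideal.Quotient.algEquivOfEqComap.congr_simp.{0,0,0,0}
  have := @_root_.Submodule.colon.eq_1.{0,0}
  have := @_root_.IsMinimalPrime.eq_1.{0}
  have := @_root_.IsLocalizedModule.AtPrime.eq_1.{0,0,0}
  have := @_root_.IsLocalizedModule.AtPrime.congr_simp.{0,0,0}
  have := @_root_.LocalizedModule.AtPrime.eq_1.{0,0}
  have := @_root_.LocalizedModule.AtPrime.congr_simp.{0,0}
  trivial

end CL.BaseAux
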