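import Cfsg.Agent.Base.Imports

/-! On-demand lemmas of Prelude and Mathlib definitions, produced once here so that no other file holds a copy. -/

set_option linter.all false

namespace CL.BaseAux

theorem r13_0 : True := by
  have := @_root_.TensorProduct.quotTensorEquivQuotSMul.eq_1.{0,0}
  have := @_root_.TensorProduct.tensorQuotMapSMulEquivTensorQuot.eq_1.{0,0,0}
  have := @_root_.TensorProduct.tensorQuotientEquiv.eq_1.{0,0,0}
  have := @_root_.TensorProduct.quotientTensorQuotientEquiv.eq_1.{0,0,0}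
  have := @_root_.TensorProduct.AlgebraTensorModule.tensorQuotientEquiv.eq_1.{0,0,0,0,0}
  have := @_root_.TensorProduct.quotientTensorEquiv.eq_1.{0,0,0}
  have := @_root_.Ideal.qoutMapEquivTensorQout.eq_1.{0,0}
  have := @_root_.TensorProduct.tensorQuotEquivQuotSMul.eq_1.{0,0}
  have := @_root_.LaurentPolynomial.leval.eq_1.{0,0}
  have := @_root_.LaurentPolynomial.eval₂.eq_1.{0,0}
  have := @_root_.Polynomial.toLaurentAlg.eq_1.{0}
  have := @_root_.LaurentPolynomial.eq_1.{0}
  have := @_root_.Matrix.cramerMap.eq_1.{0,0}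
  have := @_root_.Matrix.cramerMap.congr_simp.{0,0}
  have := @_root_.Matrix.cramer.eq_1.{0,0}
  have := @_root_.Matrix.TransvectionStruct.c.eq_1.{0,0}
  have := @_root_.Matrix.TransvectionStruct.inv.eq_1.{0,0}
  have := @_root_.Matrix.TransvectionStruct.i.eq_1.{0,0}
  have := @_root_.Matrix.TransvectionStruct.j.eq_1.{0,0}
  have := @_root_.Matrix.invertibleAddMulMul.eq_1.{0,0,0}
  have := @_root_.Matrix.transposeInvertibleEquivInvertible.eq_1.{0,0}
  have := @_root_.Matrix.invertibleOfInvertibleTranspose.eq_1.{0,0}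
  have := @_root_.Matrix.invertibleOfInvertibleConjTranspose.eq_1.{0,0}
  have := @_root_.Matrix.invertibleAddMulMul'.eq_1.{0,0,0}
  have := @_root_.Matrix.traceAddMonoidHom.eq_1.{0,0}
  have := @_root_.Matrix.traceLinearMap.eq_1.{0,0,0}
  have := @_root_.Matrix.kroneckerBilinear.eq_1.{0,0,0,0,0,0}
  have := @_root_.Matrix.kroneckerTMulBilinear.eq_1.{0,0,0,0,0,0,0,0}
  have := @_root_.Matrix.kroneckerMap.eq_1.{0,0,0,0,0,0,0}
  have := @_root_.Matrix.kroneckerMapBilinear.eq_1.{0,0,0,0,0,0,0,0,0}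
  trivial

theorem r13_1 : True := by
  have := @_root_.Matrix.invertibleOfSubmatrixEquivInvertible.eq_1.{0,0,0}
  have := @_root_.Matrix.invertibleOfDiagonalInvertible.eq_1.{0,0}
  have := @_root_.Matrix.submatrixEquivInvertibleEquivInvertible.eq_1.{0,0,0}
  have := @_root_.Matrix.invertibleOfIsUnitDet.eq_1.{0,0}
  have := @_root_.Matrix.invertibleOfIsUnitDet.congr_simp.{0,0}
  have := @_root_.Matrix.detInvertibleOfLeftInverse.eq_1.{0,0}
  have := @_root_.Matrix.detInvertibleOfLeftInverse.congr_simp.{0,0}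
  have := @_root_.Matrix.invertibleEquivDetInvertible.eq_1.{0,0}
  have := @_root_.Matrix.unitOfDetInvertible.eq_1.{0,0}
  have := @_root_.Matrix.invertibleOfDetInvertible.eq_1.{0,0}
  have := @_root_.Matrix.diagonalInvertibleEquivInvertible.eq_1.{0,0}
  have := @_root_.Matrix.submatrixEquivInvertible.eq_1.{0,0,0}
  have := @_root_.Matrix.diagonalInvertible.eq_1.{0,0}
  have := @_root_.Matrix.detInvertibleOfInvertible.eq_1.{0,0}
  have := @_root_.Matrix.detInvertibleOfRightInverse.eq_1.{0,0}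
  have := @_root_.Matrix.detInvertibleOfRightInverse.congr_simp.{0,0}
  have := @_root_.Matrix.nonsingInvUnit.eq_1.{0,0}
  have := @_root_.Matrix.nonsingInvUnit.congr_simp.{0,0}
  have := @_root_.Matrix.BlockTriangular.invertibleToBlock.eq_1.{0,0,0}
  have := @_root_.Matrix.BlockTriangular.invertibleToBlock.congr_simp.{0,0,0}
  have := @_root_.Matrix.IsLowerTriangular.eq_1.{0,0}
  have := @_root_.Matrix.blockTriangularSubsemiring.eq_1.{0,0,0}
  have := @_root_.Matrix.blockTriangularSubalgebra.eq_1.{0,0,0,0}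
  have := @_root_.Matrix.IsUpperTriangular.eq_1.{0,0}
  have := @_root_.Matrix.fromBlocksZero₁₂InvertibleEquiv.eq_1.{0,0,0}
  have := @_root_.Matrix.invertibleOfFromBlocks₂₂Invertible.eq_1.{0,0,0}
  have := @_root_.Matrix.fromBlocksZero₂₁Invertible.eq_1.{0,0,0}
  have := @_root_.Matrix.invertibleEquivFromBlocks₂₂Invertible.eq_1.{0,0,0}
  have := @_root_.Matrix.fromBlocks₁₁Invertible.eq_1.{0,0,0}
  have := @_root_.Matrix.invertibleOfFromBlocks₁₁Invertible.eq_1.{0,0,0}
  trivial

theorem r13_2 : True := by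
  have := @_root_.Matrix.fromBlocksZero₁₂Invertible.eq_1.{0,0,0}
  have := @_root_.Matrix.invertibleOfFromBlocksZero₁₂Invertible.eq_1.{0,0,0}
  have := @_root_.Matrix.fromBlocksZero₂₁InvertibleEquiv.eq_1.{0,0,0}
  have := @_root_.Matrix.fromBlocks₂₂Invertible.eq_1.{0,0,0}
  have := @_root_.Matrix.invertibleEquivFromBlocks₁₁Invertible.eq_1.{0,0,0}
  have := @_root_.Matrix.invertibleOfFromBlocksZero₂₁Invertible.eq_1.{0,0,0}
  have := @_root_.Polynomial.powSubPowFactor.eq_def.{0}
  have := @_root_.Polynomial.powSubPowFactor.eq_1.{0}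
  have := @_root_.Polynomial.binomExpansion.eq_1.{0}
  have := @_root_.Polynomial.evalSubFactor.eq_1.{0}
  have := @_root_.Polynomial.powAddExpansion.eq_def.{0}
  have := @_root_.Polynomial.powAddExpansion.eq_1.{0}
  have := @_root_.Submodule.generators.eq_1.{0,0}
  have := @_root_.PiToModule.fromEnd.eq_1.{0,0,0}
  have := @_root_.PiToModule.fromMatrix.eq_1.{0,0,0}
  have := @_root_.Polynomial.hasseDeriv.eq_1.{0}
  have := @_root_.Polynomial.taylorAlgHom.eq_1.{0}
  have := @_root_.Polynomial.rootOfSplits.eq_1.{0}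
  have := @_root_.Algebra.HasGoingDown.mk.congr_simp.{0,0}
  have := @_root_.ZMod.AddAutEquivUnits.eq_1
  have := @_root_.commMonoidOfExponentTwo.congr_simp.{0}
  have := @_root_.addCommMonoidOfExponentTwo.congr_simp.{0}
  have := @_root_.MulAction.zpowersQuotientStabilizerEquiv.eq_1.{0,0}
  have := @_root_.AddAction.orbitZMultiplesEquiv.eq_1.{0,0}
  have := @_root_.Int.quotientZMultiplesEquivZMod.eq_1
  have := @_root_.AddAction.zmultiplesQuotientStabilizerEquiv.eq_1.{0,0}
  have := @_root_.MulAction.orbitZPowersEquiv.eq_1.{0,0}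
  have := @_root_.Int.quotientZMultiplesNatEquivZMod.eq_1
  have := @_root_.Subgroup.quotientEquivSigmaZMod.eq_1.{0}
  have := @_root_.IsAddCyclic.addCommGroup.congr_simp.{0}
  trivial

theorem r13_3 : True := by
  have := @_root_.MulDistribMulAction.toMonoidHomZModOfIsCyclic.eq_1.{0,0}
  have := @_root_.MulDistribMulAction.toMonoidHomZModOfIsCyclic.congr_simp.{0,0}
  have := @_root_.IsCyclic.commGroup.congr_simp.{0}
  have := @_root_.IsSimpleAddGroup.mk.congr_simp.{0}
  have := @_root_.IsSimpleGroup.mk.congr_simp.{0}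
  have := @_root_.intEquivOfZMultiplesEqTop.eq_1.{0}
  have := @_root_.addEquivOfPrimeCardEq.congr_simp.{0,0}
  have := @_root_.zmodAddCyclicAddEquiv.eq_1.{0}
  have := @_root_.zmodAddCyclicAddEquiv.congr_simp.{0}
  have := @_root_.addEquivOfAddOrderOfEq.congr_simp.{0,0}
  have := @_root_.addCommGroupOfAddCyclicCenterQuotient.congr_simp.{0,0}
  have := @_root_.zmodAddEquivOfGenerator.eq_1.{0}
  have := @_root_.intCyclicAddEquiv.eq_1.{0}
  have := @_root_.intCyclicAddEquiv.congr_simp.{0}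
  have := @_root_.commGroupOfCyclicCenterQuotient.congr_simp.{0,0}
  have := @_root_.zmodCyclicMulEquiv.eq_1.{0}
  have := @_root_.zmodMulEquivOfGenerator.eq_1.{0}
  have := @_root_.zmodMulEquivOfGenerator.congr_simp.{0}
  have := @_root_.intCyclicMulEquiv.eq_1.{0}
  have := @_root_.intCyclicMulEquiv.congr_simp.{0}
  have := @_root_.addEquivOfAddCyclicCardEq.eq_1.{0,0}
  have := @_root_.addEquivOfAddCyclicCardEq.congr_simp.{0,0}
  have := @_root_.mulEquivOfCyclicCardEq.eq_1.{0,0}
  have := @_root_.mulEquivOfCyclicCardEq.congr_simp.{0,0}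
  have := @_root_.addMonoidHomOfForallMemZMultiples.congr_simp.{0,0}
  have := @_root_.mulEquivOfPrimeCardEq.congr_simp.{0,0}
  have := @_root_.IsCyclic.mulAutMulEquiv.eq_1.{0}
  have := @_root_.IsCyclic.mulAutMulEquiv.congr_simp.{0}
  have := @_root_.IsPGroup.commGroupOfCardEqPrimeSq.eq_1.{0}
  have := @_root_.IsPGroup.commGroupOfCardEqPrimeSq.congr_simp.{0}
  trivial

theorem r13_4 : True := by
  have := @_root_.IsPGroup.powEquiv'.eq_1.{0}
  have := @_root_.IsPGroup.powEquiv.eq_1.{0}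
  have := @_root_.IsPGroup.powEquiv.congr_simp.{0}
  have := @_root_.Sylow.ofCard.eq_1.{0}
  have := @_root_.Sylow.ofCard.congr_simp.{0}
  have := @_root_.Sylow.equivProdPrimeFactors.eq_1.{0}
  have := @_root_.Sylow.equivProdPrimeFactors.congr_simp.{0}
  have := @_root_.Sylow.equivSMul.eq_1.{0}
  have := @_root_.Sylow.subtype.eq_1.{0}
  have := @_root_.IsPGroup.toSylow.eq_1.{0}
  have := @_root_.IsPGroup.toSylow.congr_simp.{0}
  have := @_root_.Sylow.mapSurjective.eq_1.{0,0}
  have := @_root_.Sylow.mapSurjective.congr_simp.{0,0}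
  have := @_root_.Sylow.equivQuotientNormalizer.eq_1.{0}
  have := @_root_.Sylow.equivQuotientNormalizer.congr_simp.{0}
  have := @_root_.Sylow.mk.congr_simp.{0}
  have := @_root_.Sylow.comapOfInjective.eq_1.{0,0}
  have := @_root_.Sylow.comapOfInjective.congr_simp.{0,0}
  have := @_root_.Sylow.comapOfKerIsPGroup.eq_1.{0,0}
  have := @_root_.Sylow.comapOfKerIsPGroup.congr_simp.{0,0}
  have := @_root_.Sylow.directProductOfNormal.eq_1.{0}
  have := @_root_.Sylow.directProductOfNormal.congr_simp.{0}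
  have := @_root_.Sylow.equiv.eq_1.{0}
  have := @_root_.Sylow.equiv.congr_simp.{0}
  have := @_root_.Sylow.toSubgroup.eq_1.{0}
  have := @_root_.Sylow.fixedPointsMulLeftCosetsEquivQuotient.eq_1.{0}
  have := @_root_.Sylow.fixedPointsMulLeftCosetsEquivQuotient.congr_simp.{0}
  have := @_root_.Sylow.unique_of_normal.eq_1.{0}
  have := @_root_.Sylow.unique_of_normal.congr_simp.{0}
  have := @_root_.AddCommGroup.zmodModule.eq_def.{0}
  trivial

theorem r13_5 : True := by
  have := @_root_.AddCommGroup.zmodModule.eq_1.{0}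
  have := @_root_.AddMonoidHom.toZModLinearMap.eq_1.{0,0}
  have := @_root_.AddMonoidHom.toZModLinearMapEquiv.eq_1.{0,0}
  have := @_root_.AddCommMonoid.zmodModule.eq_1.{0}
  have := @_root_.AddSubgroup.toZModSubmodule.eq_1.{0}
  have := @_root_.QuotientAddGroup.zmodModule.eq_1.{0}
  have := @_root_.QuotientAddGroup.zmodModule.congr_simp.{0}
  have := @_root_.AddGroup.rank.congr_simp.{0}
  have := @_root_.Group.rank.congr_simp.{0}
  have := @_root_.Torsion.ofTorsion.eq_1.{0}
  have := @_root_.AddMonoid.IsTorsion.torsionAddEquiv.eq_1.{0}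
  have := @_root_.AddMonoid.IsTorsion.torsionAddEquiv.congr_simp.{0}
  have := @_root_.IsTorsion.addGroup.eq_1.{0}
  have := @_root_.IsTorsion.addGroup.congr_simp.{0}
  have := @_root_.IsAddTorsion.addGroup.congr_simp.{0}
  have := @_root_.AddCommGroup.freeRank.congr_simp.{0}
  have := @_root_.IsMulTorsion.torsionMulEquiv.congr_simp.{0}
  have := @_root_.AddMonoid.IsTorsion.eq_1.{0}
  have := @_root_.Monoid.IsTorsion.eq_1.{0}
  have := @_root_.IsTorsion.group.eq_1.{0}
  have := @_root_.IsTorsion.group.congr_simp.{0}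
  have := @_root_.Monoid.IsTorsion.torsionMulEquiv.eq_1.{0}
  have := @_root_.Monoid.IsTorsion.torsionMulEquiv.congr_simp.{0}
  have := @_root_.IsAddTorsion.torsionAddEquiv.congr_simp.{0}
  have := @_root_.CommGroup.freeRank.congr_simp.{0}
  have := @_root_.IsMulTorsion.group.congr_simp.{0}
  have := @_root_.IsSimpleOrder.instFintypeOfDecidableEq.eq_1.{0}
  have := @_root_.IsSimpleOrder.instFintypeOfDecidableEq.congr_simp.{0}
  have := @_root_.JordanHolderLattice.Iso.linearEquiv.eq_1.{0,0}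
  have := @_root_.JordanHolderLattice.Iso.linearEquiv.congr_simp.{0,0}
  trivial

theorem r13_6 : True := by
  have := @_root_.IsSemisimpleModule.mk.congr_simp.{0,0}
  have := @_root_.IsSimpleModule.mk.congr_simp.{0,0}
  have := @_root_.Submodule.torsionBySet.eq_1.{0,0}
  have := @_root_.AddSubgroup.torsionByStx.eq_1
  have := @_root_.Module.IsTorsionBy.module.eq_1.{0,0}
  have := @_root_.Module.IsTorsionBy.module.congr_simp.{0,0}
  have := @_root_.Submodule.submodule_torsionBy_orderIso.eq_1.{0,0}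
  have := @_root_.Module.IsTorsionBySet.semilinearMap.eq_1.{0,0}
  have := @_root_.Module.IsTorsionBySet.hasSMul.eq_1.{0,0}
  have := @_root_.Module.IsTorsionBySet.hasSMul.congr_simp.{0,0}
  have := @_root_.Submodule.pOrder.eq_1.{0,0}
  have := @_root_.Module.IsTorsion'.eq_1.{0,0}
  have := @_root_.Ideal.quotTorsionOfEquivSpanSingleton.eq_1.{0,0}
  have := @_root_.AddSubgroup.torsionBy.eq_1.{0}
  have := @_root_.Submodule.torsionBy.eq_1.{0,0}
  have := @_root_.AddSubgroup.torsionBy.zmodModule.eq_1.{0}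
  have := @_root_.Module.IsTorsionBy.hasSMul.eq_1.{0,0}
  have := @_root_.Module.IsTorsionBy.hasSMul.congr_simp.{0,0}
  have := @_root_.Module.IsTorsionBySet.eq_1.{0,0}
  have := @_root_.Module.IsTorsionBySet.module.eq_1.{0,0}
  have := @_root_.Module.IsTorsionBySet.module.congr_simp.{0,0}
  have := @_root_.Module.quotientAnnihilator.eq_1.{0,0}
  have := @_root_.Submodule.torsion.eq_1.{0,0}
  have := @_root_.Submodule.torsion'.congr_simp.{0,0,0}
  have := @_root_.Module.IsTorsion.eq_1.{0,0}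
  have := @_root_.Module.AEval.of.eq_1.{0,0,0}
  have := @_root_.Module.AEval.restrict_equiv_mapSubmodule.eq_1.{0,0,0}
  have := @_root_.LinearMap.ofAEval.congr_simp.{0,0,0,0}
  have := @_root_.Module.AEval.eq_1.{0,0,0}
  have := @_root_.Module.AEval.mapSubmodule.eq_1.{0,0,0}
  trivial

theorem r13_7 : True := by
  have := @_root_.Module.AEval'.eq_1.{0,0}
  have := @_root_.Module.AEval'.of.eq_1.{0,0}
  have := @_root_.LinearEquiv.ofAEval.eq_1.{0,0,0,0}
  have := @_root_.LinearEquiv.ofAEval.congr_simp.{0,0,0,0}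
  have := @_root_.PolynomialModule.equivPolynomialSelf.eq_1.{0}
  have := @_root_.PolynomialModule.coeffLinearEquiv.eq_1.{0,0,0}
  have := @_root_.PolynomialModule.eval.eq_1.{0,0}
  have := @_root_.PolynomialModule.lsingle.eq_1.{0,0}
  have := @_root_.PolynomialModule.equivPolynomial.eq_1.{0,0}
  have := @_root_.PolynomialModule.comp.eq_1.{0,0}
  have := @_root_.PolynomialModule.coeffEquiv.eq_1.{0,0}
  have := @_root_.PolynomialModule.coeffAddEquiv.eq_1.{0,0}
  have := @_root_.PolynomialModule.coeff.eq_1.{0,0}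
  have := @_root_.Ideal.cotangentEquivIdeal.eq_1.{0}
  have := @_root_.IsLocalRing.CotangentSpace.eq_1.{0}
  have := @_root_.IsLocalRing.CotangentSpace.congr_simp.{0}
  have := @_root_.AlgHom.kerSquareLift.eq_1.{0,0,0}
  have := @_root_.Ideal.Cotangent.lift.eq_1.{0,0,0}
  have := @_root_.Ideal.quotCotangent.eq_1.{0}
  have := @_root_.Ideal.Cotangent.equivOfEq.eq_1.{0}
  have := @_root_.Ideal.cotangentToQuotientSquare.eq_1.{0}
  have := @_root_.Ideal.Cotangent.eq_1.{0}
  have := @_root_.Ideal.cotangentIdeal.eq_1.{0}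
  have := @_root_.Ideal.mapCotangent.eq_1.{0,0,0}
  have := @_root_.Module.Presentation.ofIsPresentation.eq_1.{0,0,0,0}
  have := @_root_.Module.Presentation.ofIsPresentation.congr_simp.{0,0,0,0}
  have := @_root_.Module.Relations.Solution.fromQuotient.eq_1.{0,0,0,0}
  have := @_root_.Module.Relations.Solution.ofπ'.congr_simp.{0,0,0,0}
  have := @_root_.Module.Presentation.toRelations.eq_1.{0,0,0,0}
  have := @_root_.Module.Relations.Solution.IsPresentation.mk.congr_simp.{0,0,0,0}
  trivial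

theorem r13_8 : True := by
  have := @_root_.Module.Relations.Solution.IsPresentationCore.down.eq_1.{0,0,0,0,0,0}
  have := @_root_.Module.Relations.Solution.IsPresentation.desc.eq_1.{0,0,0,0,0}
  have := @_root_.Module.Relations.Solution.ofQuotient.eq_1.{0,0,0}
  have := @_root_.Module.Relations.Solution.postcomp.eq_1.{0,0,0,0,0}
  have := @_root_.Module.Relations.Solution.IsPresentation.linearMapEquiv.eq_1.{0,0,0,0,0}
  have := @_root_.Module.Relations.Solution.IsPresentationCore.mk.congr_simp.{0,0,0,0,0}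
  have := @_root_.Module.Presentation.ofLinearEquiv.eq_1.{0,0,0,0,0}
  have := @_root_.Module.Relations.G.eq_1.{0,0,0}
  have := @_root_.Module.Relations.relation.eq_1.{0,0,0}
  have := @_root_.Module.Relations.Solution.IsPresentation.uniq.congr_simp.{0,0,0,0,0}
  have := @_root_.Module.Presentation.mk.congr_simp.{0,0,0,0}
  have := @_root_.Module.Presentation.toSolution.eq_1.{0,0,0,0}
  have := @_root_.Module.Relations.toQuotient.eq_1.{0,0,0}
  have := @_root_.Module.Relations.R.eq_1.{0,0,0}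
  have := @_root_.Module.Relations.Solution.var.eq_1.{0,0,0,0}
  have := @_root_.Module.Relations.Quotient.eq_1.{0,0,0}
  have := @_root_.Module.Relations.Solution.IsPresentationCore.desc.eq_1.{0,0,0,0,0}
  have := @_root_.Module.Relations.Solution.IsPresentation.linearEquiv.eq_1.{0,0,0,0}
  have := @_root_.Submodule.orthogonalBilin.eq_1.{0,0,0,0,0,0}
  have := @_root_.Module.Basis.invertibleToMatrix.eq_1.{0,0,0}
  have := @_root_.Module.Basis.toMatrixEquiv.eq_1.{0,0,0}
  have := @_root_.Matrix.SeparatingLeft.eq_1.{0,0,0}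
  have := @_root_.Matrix.SeparatingRight.eq_1.{0,0,0}
  have := @_root_.Matrix.Nondegenerate.mk.congr_simp.{0,0,0}
  have := @_root_.IsCyclic.monoidHomMulEquivRootsOfUnityOfGenerator.eq_1.{0,0}
  have := @_root_.IsCyclic.monoidHomMulEquivRootsOfUnityOfGenerator.congr_simp.{0,0}
  have := @_root_.rootsOfUnityEquivNthRoots.eq_1.{0}
  have := @_root_.rootsOfUnityEquivNthRoots.congr_simp.{0}
  have := @_root_.rootsOfUnityUnitsMulEquiv.eq_1.{0}
  have := @_root_.rootsOfUnity.eq_1.{0}
  trivial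

theorem r13_9 : True := by
  have := @_root_.restrictRootsOfUnity.eq_1.{0,0,0}
  have := @_root_.MulEquiv.restrictRootsOfUnity.eq_1.{0,0}
  have := @_root_.Matrix.SpecialLinearGroup.transpose.eq_1.{0,0}
  have := @_root_.Matrix.SpecialLinearGroup.map.eq_1.{0,0,0}
  have := @_root_.Matrix.SpecialLinearGroup.diag2n.eq_1.{0,0}
  have := @_root_.Matrix.SpecialLinearGroup.center_equiv_rootsOfUnity'.eq_1.{0,0}
  have := @_root_.Matrix.SpecialLinearGroup.coeMonoidHom.eq_1.{0,0}
  have := @_root_.Matrix.SpecialLinearGroup.transvection.eq_1.{0,0}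
  have := @_root_.Matrix.SpecialLinearGroup.diag2.eq_1.{0}
  have := @_root_.Matrix.SpecialLinearGroup.eq_1.{0,0}
  have := @_root_.Matrix.TransvectionStruct.toSpecialLinearGroup.eq_1.{0,0}
  have := @_root_.Matrix.SpecialLinearGroup.center_equiv_rootsOfUnity.eq_1.{0,0}
  have := @_root_.Matrix.GeneralLinearGroup.scalar.eq_1.{0,0}
  have := @_root_.Matrix.GeneralLinearGroup.eq_1.{0,0}
  have := @_root_.Matrix.GeneralLinearGroup.mk'.eq_1.{0,0}
  have := @_root_.Matrix.GeneralLinearGroup.mk''.eq_1.{0,0}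
  have := @_root_.Matrix.GeneralLinearGroup.mk''.congr_simp.{0,0}
  have := @_root_.Matrix.GeneralLinearGroup.kronecker.eq_1.{0,0,0}
  have := @_root_.Matrix.SpecialLinearGroup.toGLPos.eq_1.{0,0}
  have := @_root_.Matrix.GeneralLinearGroup.mkOfDetNeZero.eq_1.{0,0}
  have := @_root_.Matrix.GLPos.eq_1.{0,0}
  have := @_root_.Matrix.GLPos.congr_simp.{0,0}
  have := @_root_.Matrix.toLinearEquiv.eq_1.{0,0,0}
  have := @_root_.Matrix.toLinearEquiv.congr_simp.{0,0,0}
  have := @_root_.Matrix.toLinearEquiv'.eq_1.{0,0}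
  have := @_root_.LinearMap.toMatrix₂'.eq_1.{0,0,0,0,0,0}
  have := @_root_.Matrix.toLinearMapₛₗ₂.eq_1.{0,0,0,0,0,0}
  have := @_root_.Matrix.toLinearMap₂.eq_1.{0,0,0,0,0,0}
  have := @_root_.Matrix.toLinearMap₂'.eq_1.{0,0,0,0,0,0}
  have := @_root_.QuadraticMap.coeFnAddMonoidHom.eq_1.{0,0,0}
  trivial

theorem r13_10 : True := by
  have := @_root_.QuadraticMap.coeFnAddMonoidHom.congr_simp.{0,0,0}
  have := @_root_.QuadraticForm.discr.congr_simp.{0,0,0}
  have := @_root_.QuadraticMap.restrict.eq_1.{0,0,0}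
  have := @_root_.QuadraticMap.associated.eq_1.{0,0,0}
  have := @_root_.QuadraticMap.comp.eq_1.{0,0,0,0}
  have := @_root_.QuadraticMap.evalAddMonoidHom.eq_1.{0,0,0}
  have := @_root_.QuadraticMap.ofPolar.eq_1.{0,0,0}
  have := @_root_.QuadraticMap.ofPolar.congr_simp.{0,0,0}
  have := @_root_.QuadraticMap.associated'.eq_1.{0,0,0}
  have := @_root_.QuadraticMap.toFun.eq_1.{0,0,0}
  have := @_root_.QuadraticMap.weightedSumSquares.eq_1.{0,0,0}
  have := @_root_.QuadraticMap.mk.congr_simp.{0,0,0}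
  have := @_root_.QuadraticMap.copy.eq_1.{0,0,0}
  have := @_root_.QuadraticMap.copy.congr_simp.{0,0,0}
  have := @_root_.QuadraticMap.IsOrtho.eq_1.{0,0,0}
  have := @_root_.QuadraticMap.associatedHom.eq_1.{0,0,0,0}
  have := @_root_.LinearMap.compQuadraticMap.eq_1.{0,0,0,0}
  have := @_root_.QuadraticForm.QuadraticMap.discr.eq_1.{0,0}
  have := @_root_.QuadraticForm.QuadraticMap.discr.congr_simp.{0,0}
  have := @_root_.QuadraticMap.proj.eq_1.{0,0,0}
  have := @_root_.QuadraticMap.proj.congr_simp.{0,0,0}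
  have := @_root_.LinearMap.BilinMap.toQuadraticMap.eq_1.{0,0,0}
  have := @_root_.QuadraticMap.polarSym2.eq_1.{0,0}
  have := @_root_.LinearMap.BilinMap.toQuadraticMapLinearMap.eq_1.{0,0,0,0}
  have := @_root_.LinearEquiv.congrQuadraticMap.eq_1.{0,0,0,0}
  have := @_root_.QuadraticForm.eq_1.{0,0}
  have := @_root_.QuadraticForm.QuadraticMap.toMatrix'.eq_1.{0,0}
  have := @_root_.QuadraticForm.QuadraticMap.toMatrix'.congr_simp.{0,0}
  have := @_root_.LinearMap.compQuadraticMap'.eq_1.{0,0,0,0,0}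
  have := @_root_.LinearMap.BilinMap.toQuadraticMapAddMonoidHom.eq_1.{0,0,0}
  trivial

theorem r13_11 : True := by
  have := @_root_.Matrix.toQuadraticMap'.eq_1.{0,0}
  have := @_root_.QuadraticMap.linMulLin.eq_1.{0,0,0}
  have := @_root_.QuadraticForm.discr'.congr_simp.{0,0}
  have := @_root_.QuadraticMap.restrictScalars.eq_1.{0,0,0,0}
  have := @_root_.QuadraticMap.restrictScalars.congr_simp.{0,0,0,0}
  have := @_root_.QuadraticMap.Isometry.mk.congr_simp.{0,0,0,0}
  have := @_root_.QuadraticMap.Isometry.id.eq_1.{0,0,0}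
  have := @_root_.QuadraticMap.Isometry.ofEq.eq_1.{0,0,0}
  have := @_root_.QuadraticMap.Isometry.ofEq.congr_simp.{0,0,0}
  have := @_root_.QuadraticMap.Isometry.comp.eq_1.{0,0,0,0,0}
  have := @_root_.QuadraticMap.Isometry.toLinearMap.eq_1.{0,0,0,0}
  have := @_root_.QuadraticMap.IsometryEquiv.refl.eq_1.{0,0,0}
  have := @_root_.QuadraticForm.isometryEquivWeightedSumSquares.eq_1.{0,0}
  have := @_root_.QuadraticForm.isometryEquivWeightedSumSquares.congr_simp.{0,0}
  have := @_root_.QuadraticMap.IsometryEquiv.trans.eq_1.{0,0,0,0,0}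
  have := @_root_.QuadraticMap.IsometryEquiv.symm.eq_1.{0,0,0,0}
  have := @_root_.QuadraticMap.Equivalent.eq_1.{0,0,0,0}
  have := @_root_.QuadraticMap.isometryEquivOfCompLinearEquiv.eq_1.{0,0,0,0}
  have := @_root_.QuadraticMap.IsometryEquiv.toLinearEquiv.eq_1.{0,0,0,0}
  have := @_root_.QuadraticForm.weightedSumSquaresCongr.eq_1.{0,0,0}
  have := @_root_.QuadraticForm.weightedSumSquaresCongr.congr_simp.{0,0,0}
  have := @_root_.QuadraticMap.IsometryEquiv.toIsometry.eq_1.{0,0,0,0}
  have := @_root_.QuadraticForm.isometryEquivWeightedSumSquaresWeightedSumSquares.eq_1.{0,0,0}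
  have := @_root_.QuadraticForm.isometryEquivWeightedSumSquaresWeightedSumSquares.congr_simp.{0,0,0}
  have := @_root_.CliffordAlgebra.eq_1.{0,0}
  have := @_root_.CliffordAlgebra.ringCon.eq_1.{0,0}
  have := @_root_.CliffordAlgebra.ι.eq_1.{0,0}
  have := @_root_.CliffordAlgebra.lift.eq_1.{0,0,0}
  have := @_root_.CliffordAlgebra.equivOfIsometry.eq_1.{0,0,0}
  have := @_root_.CliffordAlgebra.map.eq_1.{0,0,0}
  trivial

theorem r13_12 : True := by
  have := @_root_.AddMonoidHom.mulRight₃.eq_1.{0}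
  have := @_root_.AddMonoidHom.mulLeft₃.eq_1.{0}
  have := @_root_.DirectSum.GRing.intCast.eq_1.{0,0}
  have := @_root_.DirectSum.ofZeroRingHom.eq_1.{0,0}
  have := @_root_.DirectSum.GCommSemiring.mk.congr_simp.{0,0}
  have := @_root_.DirectSum.liftRingHom.eq_1.{0,0,0}
  have := @_root_.DirectSum.toSemiring.eq_1.{0,0,0}
  have := @_root_.DirectSum.instCommSemiringOfNat.eq_1.{0,0}
  have := @_root_.DirectSum.instNonUnitalNonAssocSemiringOfNat.eq_1.{0,0}
  have := @_root_.DirectSum.GCommRing.mk.congr_simp.{0,0}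
  have := @_root_.DirectSum.instIntCastOfNat.eq_1.{0,0}
  have := @_root_.DirectSum.instSMulWithZeroOfNat.eq_1.{0,0}
  have := @_root_.DirectSum.instNonUnitalNonAssocRingOfNat.eq_1.{0,0}
  have := @_root_.DirectSum.instSemiringOfNat.eq_1.{0,0}
  have := @_root_.DirectSum.GSemiring.toGOne.eq_1.{0,0}
  have := @_root_.DirectSum.GNonUnitalNonAssocSemiring.mk.congr_simp.{0,0}
  have := @_root_.DirectSum.instNatCastOfNat.eq_1.{0,0}
  have := @_root_.DirectSum.instCommRingOfNat.eq_1.{0,0}
  have := @_root_.DirectSum.GRing.mk.congr_simp.{0,0}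
  have := @_root_.DirectSum.GSemiring.gnpow.eq_1.{0,0}
  have := @_root_.DirectSum.gMulHom.eq_1.{0,0}
  have := @_root_.DirectSum.GSemiring.mk.congr_simp.{0,0}
  have := @_root_.DirectSum.GSemiring.natCast.eq_1.{0,0}
  have := @_root_.DirectSum.instRingOfNat.eq_1.{0,0}
  have := @_root_.DirectSum.instModuleOfNat.eq_1.{0,0}
  have := @_root_.DirectSum.GAlgebra.mk.congr_simp.{0,0,0}
  have := @_root_.DirectSum.toAlgebra.eq_1.{0,0,0,0}
  have := @_root_.DirectSum.toAlgebra.congr_simp.{0,0,0,0}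
  have := @_root_.DirectSum.gMulLHom.eq_1.{0,0,0}
  have := @_root_.DirectSum.GAlgebra.toFun.eq_1.{0,0,0}
  trivial

theorem r13_13 : True := by
  have := @_root_.DirectSum.Decomposition.decompose'.eq_1.{0,0,0}
  have := @_root_.DirectSum.Decomposition.mk.congr_simp.{0,0,0}
  have := @_root_.DirectSum.decomposeAddEquiv.eq_1.{0,0,0}
  have := @_root_.DirectSum.decomposeLinearEquiv.eq_1.{0,0,0}
  have := @_root_.DirectSum.Decomposition.ofLinearMap.eq_1.{0,0,0}
  have := @_root_.DirectSum.Decomposition.ofLinearMap.congr_simp.{0,0,0}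
  have := @_root_.DirectSum.SetLike.IsHomogeneous.eq_1.{0,0,0,0}
  have := @_root_.DirectSum.decompose.eq_1.{0,0,0}
  have := @_root_.DirectSum.Decomposition.congr_simp.{0,0,0}
  have := @_root_.DirectSum.IsInternal.chooseDecomposition.eq_1.{0,0,0}
  have := @_root_.DirectSum.IsInternal.chooseDecomposition.congr_simp.{0,0,0}
  have := @_root_.DirectSum.Decomposition.ofAddHom.eq_1.{0,0,0}
  have := @_root_.DirectSum.Decomposition.ofAddHom.congr_simp.{0,0,0}
  have := @_root_.DirectSum.coeRingHom.eq_1.{0,0,0}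
  have := @_root_.SetLike.GradeZero.subsemiring.eq_1.{0,0,0}
  have := @_root_.SetLike.GradeZero.subsemiring.congr_simp.{0,0,0}
  have := @_root_.DirectSum.coeAlgHom.eq_1.{0,0,0}
  have := @_root_.SetLike.GradeZero.subalgebra.eq_1.{0,0,0}
  have := @_root_.SetLike.GradeZero.subalgebra.congr_simp.{0,0,0}
  have := @_root_.SetLike.GradeZero.subring.eq_1.{0,0,0}
  have := @_root_.SetLike.GradeZero.subring.congr_simp.{0,0,0}
  have := @_root_.CliffordAlgebra.GradedAlgebra.ι.eq_1.{0,0}
  have := @_root_.CliffordAlgebra.involuteEquiv.eq_1.{0,0}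
  have := @_root_.CliffordAlgebra.reverseOpEquiv.eq_1.{0,0}
  have := @_root_.CliffordAlgebra.involute.eq_1.{0,0}
  have := @_root_.CliffordAlgebra.reverseEquiv.eq_1.{0,0}
  have := @_root_.CliffordAlgebra.foldr'.eq_1.{0,0,0}
  have := @_root_.CliffordAlgebra.foldr.eq_1.{0,0,0}
  have := @_root_.CliffordAlgebra.foldl.eq_1.{0,0,0}
  have := @_root_.CliffordAlgebra.foldl.congr_simp.{0,0,0}
  trivial

theorem r13_14 : True := by
  have := @_root_.monoEquivOfFin.eq_1.{0}
  have := @_root_.finSumEquivOfFinset.eq_1.{0}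
  have := @_root_.finSumEquivOfFinset.congr_simp.{0}
  have := @_root_.MultilinearMap.curryMid.eq_1.{0,0,0}
  have := @_root_.MultilinearMap.uncurryRight.eq_1.{0,0,0}
  have := @_root_.MultilinearMap.currySumEquiv.eq_1.{0,0,0,0,0}
  have := @_root_.multilinearCurryLeftEquiv.eq_1.{0,0,0}
  have := @_root_.MultilinearMap.currySum.eq_1.{0,0,0,0,0}
  have := @_root_.MultilinearMap.curryFinFinset.eq_1.{0,0,0}
  have := @_root_.MultilinearMap.curryFinFinset.congr_simp.{0,0,0}
  have := @_root_.MultilinearMap.curryRight.eq_1.{0,0,0}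
  have := @_root_.MultilinearMap.uncurrySum.eq_1.{0,0,0,0,0}
  have := @_root_.multilinearCurryRightEquiv.eq_1.{0,0,0}
  have := @_root_.LinearMap.uncurryLeft.eq_1.{0,0,0}
  have := @_root_.LinearMap.uncurryMid.eq_1.{0,0,0}
  have := @_root_.MultilinearMap.curryLeft.eq_1.{0,0,0}
  have := @_root_.MultilinearMap.curryMidLinearEquiv.eq_1.{0,0,0}
  have := @_root_.AlternatingMap.curryLeft.eq_1.{0,0,0}
  have := @_root_.AlternatingMap.curryLeftLinearMap.eq_1.{0,0,0}
  have := @_root_.Set.powersetCard.ofCard.eq_1.{0}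
  have := @_root_.Set.powersetCard.disjUnion.eq_1.{0}
  have := @_root_.Set.powersetCard.prodEquiv.eq_1.{0}
  have := @_root_.Set.powersetCard.ofSingleton.eq_1.{0}
  have := @_root_.Set.powersetCard.compl.eq_1.{0}
  have := @_root_.Set.powersetCard.ofFinEmbEquiv.eq_1.{0}
  have := @_root_.Set.powersetCard.orderIsoOfFin.eq_1.{0}
  have := @_root_.ExteriorAlgebra.toTrivSqZeroExt.eq_1.{0,0}
  have := @_root_.ExteriorAlgebra.ι.eq_1.{0,0}
  have := @_root_.ExteriorAlgebra.eq_1.{0,0}
  have := @_root_.ExteriorAlgebra.invertibleAlgebraMapEquiv.eq_1.{0,0}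
  trivial

theorem r13_15 : True := by
  have := @_root_.ExteriorAlgebra.map.eq_1.{0,0,0}
  have := @_root_.ExteriorAlgebra.lift.eq_1.{0,0,0}
  have := @_root_.ExteriorAlgebra.liftAlternating.eq_1.{0,0,0}
  have := @_root_.ExteriorAlgebra.liftAlternatingEquiv.eq_1.{0,0,0}
  have := @_root_.exteriorPower.presentation.isPresentationCore.eq_1.{0,0,0}
  have := @_root_.exteriorPower.presentation.eq_1.{0,0}
  have := @_root_.exteriorPower.ιMulti.eq_1.{0,0}
  have := @_root_.exteriorPower.presentation.relationsSolutionEquiv.eq_1.{0,0,0,0}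
  have := @_root_.exteriorPower.presentation.relations.eq_1.{0,0,0}
  have := @_root_.exteriorPower.alternatingMapLinearEquiv.eq_1.{0,0,0}
  trivial

end CL.BaseAux
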