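import Cfsg.Agent.Base.Imports

/-! On-demand lemmas of Prelude and Mathlib definitions, produced once here so that no other file holds a copy. -/

set_option linter.all false

namespace CL.BaseAux

theorem r14_0 : True := by
  have := @_root_.FunLike.monoidWithZero.eq_1.{0,0}
  have := @_root_.FunLike.monoidWithZero.congr_simp.{0,0}
  have := @_root_.FunLike.semiring.eq_1.{0,0}
  have := @_root_.FunLike.semiring.congr_simp.{0,0}
  have := @_root_.FunLike.ring.eq_1.{0,0}
  have := @_root_.FunLike.ring.congr_simp.{0,0}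
  have := @_root_.TensorProduct.piRightHom.eq_1.{0,0,0,0,0}
  have := @_root_.TensorProduct.piRightHomBil.eq_1.{0,0,0,0,0}
  have := @_root_.TensorProduct.prodLeft.eq_1.{0,0,0,0,0}
  have := @_root_.TensorProduct.prodRight.eq_1.{0,0,0,0,0}
  have := @_root_.SnakeLemma.δ.congr_simp.{0,0,0,0,0,0,0,0,0}
  have := @_root_.SnakeLemma.δ'.eq_1.{0,0,0,0,0,0,0,0,0}
  have := @_root_.invertibleOfCoprime.eq_1.{0}
  have := @_root_.invertibleOfCoprime.congr_simp.{0}
  have := @_root_.invertibleOfCharPNotDvd.eq_1.{0}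
  have := @_root_.invertibleOfCharPNotDvd.congr_simp.{0}
  have := @_root_.invertibleOfRingCharNotDvd.eq_1.{0}
  have := @_root_.invertibleOfRingCharNotDvd.congr_simp.{0}
  have := @_root_.MixedCharZero.mk.congr_simp.{0}
  have := @_root_.IsDivSequence.eq_1.{0,0}
  have := @_root_.AddChar.directSum.eq_1.{0,0,0}
  have := @_root_.Module.End.HasEigenvalue.eq_1.{0,0}
  have := @_root_.Module.End.UnifEigenvalues.val.eq_1.{0,0}
  have := @_root_.Module.End.Eigenvalues.val.eq_1.{0,0}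
  have := @_root_.Module.End.Eigenvalues.eq_1.{0,0}
  have := @_root_.Module.End.maxUnifEigenspaceIndex.eq_1.{0,0}
  have := @_root_.Module.End.maxGenEigenspaceIndex.eq_1.{0,0}
  have := @_root_.Module.End.UnifEigenvalues.eq_1.{0,0}
  have := @_root_.Module.End.HasGenEigenvalue.eq_1.{0,0}
  have := @_root_.Module.End.HasGenEigenvector.eq_1.{0,0}
  trivial

theorem r14_1 : True := by
  have := @_root_.Module.End.HasUnifEigenvector.eq_1.{0,0}
  have := @_root_.Module.End.HasEigenvector.eq_1.{0,0}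
  have := @_root_.TwoSidedIdeal.matrix.eq_1.{0,0}
  have := @_root_.TwoSidedIdeal.equivMatrix.eq_1.{0,0}
  have := @_root_.RingCon.ofMatrix.eq_1.{0,0}
  have := @_root_.RingCon.ofMatrix.congr_simp.{0,0}
  have := @_root_.Ideal.matrix.eq_1.{0,0}
  have := @_root_.RingCon.matrix.eq_1.{0,0}
  have := @_root_.TwoSidedIdeal.orderIsoMatrix.eq_1.{0,0}
  have := @_root_.TwoSidedIdeal.orderIsoMatrix.congr_simp.{0,0}
  have := @_root_.Group.ofLeftAxioms.congr_simp.{0}
  have := @_root_.AddGroup.ofRightAxioms.congr_simp.{0}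
  have := @_root_.Group.ofRightAxioms.congr_simp.{0}
  have := @_root_.AddGroup.ofLeftAxioms.congr_simp.{0}
  have := @_root_.CommRing.ofMinimalAxioms.eq_1.{0}
  have := @_root_.CommRing.ofMinimalAxioms.congr_simp.{0}
  have := @_root_.Ring.ofMinimalAxioms.eq_1.{0}
  have := @_root_.Ring.ofMinimalAxioms.congr_simp.{0}
  have := @_root_.Field.ofMinimalAxioms.eq_1.{0}
  have := @_root_.Field.ofMinimalAxioms.congr_simp.{0}
  have := @_root_.Equiv.nnratCast.eq_1.{0,0}
  have := @_root_.Equiv.ratCast.eq_1.{0,0}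
  have := @_root_.Equiv.field.eq_1.{0,0}
  have := @_root_.Equiv.divisionRing.eq_1.{0,0}
  have := @_root_.FreeGroup.Red.enum.eq_1.{0}
  have := @_root_.FreeAddGroup.reduce.churchRosser.congr_simp.{0}
  have := @_root_.FreeAddGroup.norm.congr_simp.{0}
  have := @_root_.FreeGroup.norm.congr_simp.{0}
  have := @_root_.FreeGroup.reduce.churchRosser.congr_simp.{0}
  have := @_root_.Equidecomp.symm.eq_1.{0,0}
  trivial

theorem r14_2 : True := by
  have := @_root_.Equidecomp.trans.eq_1.{0,0}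
  have := @_root_.Equidecomp.witness.eq_1.{0,0}
  have := @_root_.Equidecomp.toPartialEquiv.eq_1.{0,0}
  have := @_root_.Equidecomp.restr.eq_1.{0,0}
  have := @_root_.Equidecomp.refl.eq_1.{0,0}
  have := @_root_.Equidecomp.mk.congr_simp.{0,0}
  have := @_root_.NatPowAssoc.mk.congr_simp.{0}
  have := @_root_.PNatPowAssoc.mk.congr_simp.{0}
  have := @_root_.SaturatedSubmonoid.toSubmonoid.eq_1.{0}
  have := @_root_.SaturatedSubmonoid.mk.congr_simp.{0}
  have := @_root_.SaturatedAddSubmonoid.toAddSubmonoid.eq_1.{0}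
  have := @_root_.SaturatedAddSubmonoid.mk.congr_simp.{0}
  have := @_root_.translate.eq_1.{0,0}
  have := @_root_.Subgroup.centerUnitsEquivUnitsCenter.eq_1.{0}
  have := @_root_.Finset.distribMulAction.eq_1.{0,0}
  have := @_root_.Finset.smulZeroClass.eq_1.{0,0}
  have := @_root_.Finset.distribSMul.eq_1.{0,0}
  have := @_root_.Finset.mulDistribMulAction.eq_1.{0,0}
  have := @_root_.MonoidWithZeroHom.ValueMonoid₀.eq_1.{0,0}
  have := @_root_.MonoidWithZeroHom.ValueGroup₀.eq_1.{0,0}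
  have := @_root_.Equiv.mulZeroOneClass.eq_1.{0,0}
  have := @_root_.Equiv.semigroupWithZero.eq_1.{0,0}
  have := @_root_.Equiv.commMonoidWithZero.eq_1.{0,0}
  have := @_root_.Equiv.mulZeroClass.eq_1.{0,0}
  have := @_root_.Equiv.monoidWithZero.eq_1.{0,0}
  have := @_root_.LieEquiv.trans.eq_1.{0,0,0,0}
  have := @_root_.LieHom.toLinearMap.eq_1.{0,0,0}
  have := @_root_.LieModuleHom.id.eq_1.{0,0,0}
  have := @_root_.LieEquiv.toLieHom.eq_1.{0,0,0}
  have := @_root_.LieModuleEquiv.toLieModuleHom.eq_1.{0,0,0,0}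
  trivial

theorem r14_3 : True := by
  have := @_root_.LieAlgebra.mk.congr_simp.{0,0}
  have := @_root_.LieRing.mk.congr_simp.{0}
  have := @_root_.LieModuleEquiv.trans.eq_1.{0,0,0,0,0}
  have := @_root_.LieModuleEquiv.symm.eq_1.{0,0,0,0}
  have := @_root_.LieEquiv.symm.eq_1.{0,0,0}
  have := @_root_.IsLieTower.mk.congr_simp.{0,0,0}
  have := @_root_.LieEquiv.ofBijective.eq_1.{0,0,0}
  have := @_root_.LieEquiv.ofBijective.congr_simp.{0,0,0}
  have := @_root_.LieRingModule.compLieHom.eq_1.{0,0,0,0}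
  have := @_root_.LieHom.comp.eq_1.{0,0,0,0}
  have := @_root_.LieModuleHom.inverse.eq_1.{0,0,0,0}
  have := @_root_.LieModuleHom.inverse.congr_simp.{0,0,0,0}
  have := @_root_.LieRingModule.toEnd.eq_1.{0,0}
  have := @_root_.LieRing.toNonUnitalNonAssocRing.eq_1.{0}
  have := @_root_.LieModuleEquiv.toLinearEquiv.eq_1.{0,0,0,0}
  have := @_root_.LieHom.inverse.eq_1.{0,0,0}
  have := @_root_.LieHom.inverse.congr_simp.{0,0,0}
  have := @_root_.LieModuleHom.comp.eq_1.{0,0,0,0,0}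
  have := @_root_.LieEquiv.toLinearEquiv.eq_1.{0,0,0}
  have := @_root_.LieEquiv.invFun.eq_1.{0,0,0}
  have := @_root_.LieEquiv.refl.eq_1.{0,0}
  have := @_root_.LieModuleHom.toLinearMap.eq_1.{0,0,0,0}
  have := @_root_.LieHom.id.eq_1.{0,0}
  have := @_root_.LieRingModule.mk.congr_simp.{0,0}
  have := @_root_.LieModuleEquiv.toEquiv.eq_1.{0,0,0,0}
  have := @_root_.LieModuleEquiv.invFun.eq_1.{0,0,0,0}
  have := @_root_.LieModuleEquiv.refl.eq_1.{0,0,0}
  have := @_root_.LieModule.mk.congr_simp.{0,0,0}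
  have := @_root_.IsSemiprimaryRing.mk.congr_simp.{0}
  have := @_root_.LieModuleHom.restrictLie.eq_1.{0,0,0,0}
  trivial

theorem r14_4 : True := by
  have := @_root_.LieHom.rangeRestrict.eq_1.{0,0,0}
  have := @_root_.LieSubalgebra.comap.eq_1.{0,0,0}
  have := @_root_.LieSubalgebra.inclusion.eq_1.{0,0}
  have := @_root_.LieSubalgebra.gi.eq_1.{0,0}
  have := @_root_.LieSubalgebra.equivMapOfInjective.eq_1.{0,0,0}
  have := @_root_.LieSubalgebra.equivMapOfInjective.congr_simp.{0,0,0}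
  have := @_root_.LieSubalgebra.map.eq_1.{0,0,0}
  have := @_root_.LieSubalgebra.equivOfLe.eq_1.{0,0}
  have := @_root_.LieEquiv.ofInjective.eq_1.{0,0,0}
  have := @_root_.LieEquiv.ofInjective.congr_simp.{0,0,0}
  have := @_root_.LieEquiv.ofSubalgebras.eq_1.{0,0,0}
  have := @_root_.LieSubalgebra.incl.eq_1.{0,0}
  have := @_root_.LieEquiv.ofEq.eq_1.{0,0}
  have := @_root_.LieEquiv.ofEq.congr_simp.{0,0}
  have := @_root_.LieHom.equivRangeOfInjective.eq_1.{0,0,0}
  have := @_root_.LieHom.equivRangeOfInjective.congr_simp.{0,0,0}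
  have := @_root_.LieSubalgebra.toSubmodule.eq_1.{0,0}
  have := @_root_.LieEquiv.lieSubalgebraMap.eq_1.{0,0,0}
  have := @_root_.LieHom.range.eq_1.{0,0,0}
  have := @_root_.LieSubalgebra.incl'.eq_1.{0,0}
  have := @_root_.LieSubmodule.mapOrderEmbedding.eq_1.{0,0,0,0}
  have := @_root_.LieSubmodule.comap.eq_1.{0,0,0,0}
  have := @_root_.LieSubmodule.incl.eq_1.{0,0,0}
  have := @_root_.LieSubmodule.map.eq_1.{0,0,0,0}
  have := @_root_.LieSubalgebra.toLieSubmodule.eq_1.{0,0}
  have := @_root_.LieModuleHom.codRestrict.eq_1.{0,0,0,0}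
  have := @_root_.LieSubmodule.toSubmodule_orderEmbedding.eq_1.{0,0,0}
  have := @_root_.LieSubmodule.toSubmodule.eq_1.{0,0,0}
  have := @_root_.LieSubmodule.orderIsoMapComap.eq_1.{0,0,0,0}
  have := @_root_.LieModuleHom.range.eq_1.{0,0,0,0}
  trivial

theorem r14_5 : True := by
  have := @_root_.LieSubalgebra.topEquiv.eq_1.{0,0}
  have := @_root_.LieSubmodule.copy.eq_1.{0,0,0}
  have := @_root_.LieSubmodule.copy.congr_simp.{0,0,0}
  have := @_root_.LieSubmodule.restr.eq_1.{0,0,0}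
  have := @_root_.LieSubmodule.inclusion.eq_1.{0,0,0}
  have := @_root_.LieSubmodule.equivMapOfInjective.eq_1.{0,0,0,0}
  have := @_root_.LieSubmodule.equivMapOfInjective.congr_simp.{0,0,0,0}
  have := @_root_.LieSubmodule.gi.eq_1.{0,0,0}
  have := @_root_.LieModuleEquiv.ofTop.eq_1.{0,0,0}
  have := @_root_.LieRingModule.ofAssociativeModule.eq_1.{0,0}
  have := @_root_.AlgHom.toLieHom.eq_1.{0,0,0}
  have := @_root_.LinearEquiv.lieConj.eq_1.{0,0,0}
  have := @_root_.LieAlgebra.ad.eq_1.{0,0}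
  have := @_root_.LieModule.toEnd.eq_1.{0,0,0}
  have := @_root_.LieModule.IsFaithful.mk.congr_simp.{0,0,0}
  have := @_root_.LieRing.ofAssociativeRing.eq_1.{0}
  have := @_root_.AlgEquiv.toLieEquiv.eq_1.{0,0,0}
  have := @_root_.lieSubalgebraOfSubalgebra.eq_1.{0,0}
  have := @_root_.LieIdeal.eq_1.{0,0}
  have := @_root_.LieIdeal.inclusion.eq_1.{0,0}
  have := @_root_.LieIdeal.toLieSubalgebra.eq_1.{0,0}
  have := @_root_.LieIdeal.comap.eq_1.{0,0,0}
  have := @_root_.LieIdeal.topEquiv.eq_1.{0,0}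
  have := @_root_.LieIdeal.incl.eq_1.{0,0}
  have := @_root_.LieHom.IsIdealMorphism.eq_1.{0,0,0}
  have := @_root_.TrivialLieModule.equiv.eq_1.{0,0,0}
  have := @_root_.LieModule.maxTrivSubmodule.eq_1.{0,0,0}
  have := @_root_.LieAlgebra.center.eq_1.{0,0}
  have := @_root_.TrivialLieModule.eq_1.{0,0,0}
  have := @_root_.LieModule.maxTrivEquiv.eq_1.{0,0,0,0}
  trivial

theorem r14_6 : True := by
  have := @_root_.LieModule.IsTrivial.mk.congr_simp.{0,0}
  have := @_root_.LieModule.maxTrivHom.eq_1.{0,0,0,0}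
  have := @_root_.LieModule.maxTrivLinearMapEquivLieModuleHom.eq_1.{0,0,0,0}
  have := @_root_.IsLieAbelian.eq_1.{0}
  have := @_root_.dotProductEquiv.eq_1.{0,0}
  have := @_root_.Matrix.indexEquivOfInv.eq_1.{0,0,0}
  have := @_root_.Matrix.indexEquivOfInv.congr_simp.{0,0,0}
  have := @_root_.LinearEquiv.det.eq_1.{0,0}
  have := @_root_.Module.Basis.det.eq_1.{0,0,0}
  have := @_root_.equivOfPiLEquivPi.eq_1.{0,0,0}
  have := @_root_.equivOfPiLEquivPi.congr_simp.{0,0,0}
  have := @_root_.LinearEquiv.ofIsUnitDet.eq_1.{0,0,0,0}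
  have := @_root_.LinearMap.equivOfDetNeZero.eq_1.{0,0}
  have := @_root_.LinearMap.equivOfDetNeZero.congr_simp.{0,0}
  have := @_root_.Polynomial.annIdeal.eq_1.{0,0}
  have := @_root_.Module.End.IsFinitelySemisimple.eq_1.{0,0}
  have := @_root_.LieHom.toNonUnitalAlgHom.eq_1.{0,0,0}
  have := @_root_.CommutatorRing.eq_1.{0}
  have := @_root_.LieDerivation.exp.eq_1.{0,0}
  have := @_root_.LieDerivation.exp.congr_simp.{0,0}
  have := @_root_.LieDerivation.congr_simp.{0,0,0}
  have := @_root_.LieDerivation.SMulBracketCommClass.mk.congr_simp.{0,0,0}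
  have := @_root_.LieDerivation.toLinearMapLieHom.eq_1.{0,0}
  have := @_root_.LieDerivation.inner.eq_1.{0,0,0}
  have := @_root_.LieDerivation.coeFnAddMonoidHom.eq_1.{0,0,0}
  have := @_root_.LieDerivation.toLinearMap.eq_1.{0,0,0}
  have := @_root_.LieDerivation.ad.eq_1.{0,0}
  have := @_root_.TensorProduct.LieModule.lift.eq_1.{0,0,0,0,0}
  have := @_root_.TensorProduct.LieModule.liftLie.eq_1.{0,0,0,0,0}
  have := @_root_.TensorProduct.LieModule.mapIncl.eq_1.{0,0,0,0}
  trivial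

theorem r14_7 : True := by
  have := @_root_.TensorProduct.LieModule.map.eq_1.{0,0,0,0,0,0}
  have := @_root_.LieAlgebra.ExtendScalars.map.eq_1.{0,0,0,0,0}
  have := @_root_.LieAlgebra.derivedAbelianOfIdeal.eq_1.{0,0}
  have := @_root_.LieAlgebra.IsSolvable.mk_int.congr_simp.{0}
  have := @_root_.LieAlgebra.radical.eq_1.{0,0}
  have := @_root_.LieAlgebra.derivedLength.eq_1.{0,0}
  have := @_root_.LieAlgebra.derivedLengthOfIdeal.eq_1.{0,0}
  have := @_root_.LieAlgebra.derivedSeries.eq_1.{0,0}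
  have := @_root_.LieAlgebra.derivedSeriesOfIdeal.eq_1.{0,0}
  have := @_root_.LieSubmodule.Quotient.lieSubmoduleInvariant.eq_1.{0,0,0}
  have := @_root_.LieSubmodule.Quotient.lieSubmoduleInvariant.congr_simp.{0,0,0}
  have := @_root_.LieSubmodule.Quotient.actionAsEndoMap.eq_1.{0,0,0}
  have := @_root_.LieSubmodule.Quotient.actionAsEndoMap.congr_simp.{0,0,0}
  have := @_root_.LieSubmodule.Quotient.mk.eq_1.{0,0,0}
  have := @_root_.LieSubmodule.Quotient.mk'.eq_1.{0,0,0}
  have := @_root_.LieHom.quotKerEquivRange.eq_1.{0,0,0}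
  have := @_root_.LieSubmodule.idealizer.eq_1.{0,0,0}
  have := @_root_.LieSubalgebra.normalizer.eq_1.{0,0}
  have := @_root_.LieSubmodule.normalizer.eq_1.{0,0,0}
  have := @_root_.LieSubmodule.ucs.eq_1.{0,0,0}
  have := @_root_.LieModule.IsNilpotent.mk_int.congr_simp.{0,0}
  have := @_root_.LieAlgebra.maxNilpotentIdeal.eq_1.{0,0}
  have := @_root_.LieIdeal.lcs.eq_1.{0,0,0}
  have := @_root_.LieModule.nilpotencyLength.eq_1.{0,0}
  have := @_root_.LieModule.maxNilpotentSubmodule.eq_1.{0,0,0}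
  have := @_root_.LieSubmodule.lcs.eq_1.{0,0,0}
  have := @_root_.LieAlgebra.IsEngelian.eq_1.{0,0,0}
  have := @_root_.MulSemiringActionHom.polynomial.eq_1.{0,0,0}
  have := @_root_.IsInvariantSubring.mk.congr_simp.{0,0}
  have := @_root_.IsInvariantSubring.subtypeHom.eq_1.{0,0}
  trivial

theorem r14_8 : True := by
  have := @_root_.FixedPoints.toAlgAutMulEquiv.eq_1.{0,0}
  have := @_root_.FixedPoints.toAlgAutMulEquiv.congr_simp.{0,0}
  have := @_root_.FixedPoints.subfield.eq_1.{0,0}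
  have := @_root_.FixedPoints.toAlgHomEquiv.eq_1.{0,0}
  have := @_root_.FixedPoints.toAlgHomEquiv.congr_simp.{0,0}
  have := @_root_.IsInvariantSubfield.mk.congr_simp.{0,0}
  have := @_root_.FixedBy.intermediateField.eq_1.{0,0,0}
  have := @_root_.LieModule.Weight.equivSetOf.eq_1.{0,0,0}
  have := @_root_.LieModule.Weight.toFun.eq_1.{0,0,0}
  have := @_root_.LieModule.Weight.IsNonZero.eq_1.{0,0,0}
  have := @_root_.LieModule.IsTriangularizable.mk.congr_simp.{0,0,0}
  have := @_root_.LieModule.Weight.equivSetOfPred.eq_1.{0,0,0}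
  have := @_root_.IsSl2Triple.mk.congr_simp.{0}
  have := @_root_.IsSl2Triple.HasPrimitiveVectorWith.mk.congr_simp.{0,0,0}
  have := @_root_.LieSubmodule.IsUcsLimit.eq_1.{0,0,0}
  have := @_root_.LieSubmodule.IsUcsLimit.congr_simp.{0,0,0}
  have := @_root_.LieSubalgebra.IsCartanSubalgebra.mk.congr_simp.{0,0}
  have := @_root_.LieAlgebra.zeroRootSubalgebra.eq_1.{0,0}
  have := @_root_.LieAlgebra.rootSpaceProduct.eq_1.{0,0}
  have := @_root_.LieAlgebra.Basis.h.eq_1.{0,0,0}
  have := @_root_.LieAlgebra.Basis.borelLower.eq_1.{0,0,0}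
  have := @_root_.LieAlgebra.Basis.symm.eq_1.{0,0,0}
  have := @_root_.LieAlgebra.Basis.e.eq_1.{0,0,0}
  have := @_root_.LieAlgebra.Basis.f.eq_1.{0,0,0}
  have := @_root_.LieAlgebra.Basis.A.eq_1.{0,0,0}
  have := @_root_.LieAlgebra.Basis.mk.congr_simp.{0,0,0}
  have := @_root_.LieAlgebra.IsSimple.mk.congr_simp.{0,0}
  have := @_root_.LieAlgebra.HasCentralRadical.mk.congr_simp.{0,0}
  have := @_root_.LieAlgebra.IsSemisimple.mk.congr_simp.{0,0}
  have := @_root_.LieAlgebra.HasTrivialRadical.mk.congr_simp.{0,0}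
  trivial

theorem r14_9 : True := by
  have := @_root_.LieModule.IsIrreducible.eq_1.{0,0,0}
  have := @_root_.LinearMap.BilinForm.flip.eq_1.{0,0}
  have := @_root_.LinearMap.BilinForm.restrict.eq_1.{0,0}
  have := @_root_.LinearMap.BilinForm.coeFnAddMonoidHom.eq_1.{0,0}
  have := @_root_.LinearMap.BilinForm.flipHom.eq_1.{0,0}
  have := @_root_.LinearMap.BilinForm.congr.eq_1.{0,0,0}
  have := @_root_.LinearMap.BilinForm.compRight.eq_1.{0,0}
  have := @_root_.LinearMap.BilinForm.comp.eq_1.{0,0,0}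
  have := @_root_.LinearMap.compBilinForm.eq_1.{0,0,0}
  have := @_root_.LinearMap.compBilinForm.congr_simp.{0,0,0}
  have := @_root_.LinearMap.BilinForm.toLinHomFlip.eq_1.{0,0}
  have := @_root_.LinearMap.BilinForm.linMulLin.eq_1.{0,0}
  have := @_root_.LinearMap.BilinForm.compLeft.eq_1.{0,0}
  have := @_root_.LinearEquiv.congrRight₂.eq_1.{0,0,0,0}
  have := @_root_.LinearMap.BilinForm.IsSymm.mk.congr_simp.{0,0}
  have := @_root_.LinearMap.BilinForm.IsRefl.eq_1.{0,0}
  have := @_root_.LinearMap.BilinForm.leftAdjointOfNondegenerate.eq_1.{0,0}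
  have := @_root_.LinearMap.BilinForm.leftAdjointOfNondegenerate.congr_simp.{0,0}
  have := @_root_.LinearMap.BilinForm.Nondegenerate.eq_1.{0,0}
  have := @_root_.LinearMap.BilinForm.IsNonneg.mk.congr_simp.{0,0}
  have := @_root_.LinearMap.BilinForm.IsAlt.eq_1.{0,0}
  have := @_root_.LinearMap.BilinForm.symmCompOfNondegenerate.congr_simp.{0,0}
  have := @_root_.LinearMap.BilinForm.IsPosSemidef.mk.congr_simp.{0,0}
  have := @_root_.LinearMap.BilinForm.iIsOrtho.eq_1.{0,0,0}
  have := @_root_.LinearMap.BilinForm.IsOrtho.eq_1.{0,0}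
  have := @_root_.LinearMap.BilinForm.orthogonal.eq_1.{0,0}
  have := @_root_.LinearMap.BilinForm.lieInvariant.eq_1.{0,0,0}
  have := @_root_.LieModule.Weight.toLinear.eq_1.{0,0,0}
  have := @_root_.LieModule.LinearWeights.mk.congr_simp.{0,0,0}
  have := @_root_.LieModule.Weight.ker.eq_1.{0,0,0}
  trivial

theorem r14_10 : True := by
  have := @_root_.LieModule.LinearWeights.congr_simp.{0,0,0}
  have := @_root_.LieModule.shiftedGenWeightSpace.eq_1.{0,0,0}
  have := @_root_.LieModule.shiftedGenWeightSpace.congr_simp.{0,0,0}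
  have := @_root_.LieModule.shiftedGenWeightSpace.shift.eq_1.{0,0,0}
  have := @_root_.Multiset.mapEquiv.eq_1.{0,0}
  have := @_root_.Multiset.cast.eq_1.{0}
  have := @_root_.Multiset.toEnumFinset.eq_1.{0}
  have := @_root_.Multiset.mkToType.eq_1.{0}
  have := @_root_.Multiset.coeEmbedding.eq_1.{0}
  have := @_root_.Multiset.coeEquiv.eq_1.{0}
  have := @_root_.Multiset.ToType.eq_1.{0}
  have := @_root_.LinearMap.BilinForm.tensorDistribEquiv.eq_1.{0,0,0}
  have := @_root_.LinearMap.BilinForm.tensorDistribEquiv.congr_simp.{0,0,0}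
  have := @_root_.LinearMap.BilinMap.tensorDistrib.eq_1.{0,0,0,0,0,0}
  have := @_root_.LinearMap.BilinMap.tensorDistrib.congr_simp.{0,0,0,0,0,0}
  have := @_root_.LinearMap.BilinMap.baseChange.eq_1.{0,0,0,0}
  have := @_root_.killingForm.eq_1.{0,0}
  have := @_root_.LieIdeal.killingCompl.eq_1.{0,0}
  have := @_root_.LieModule.traceForm.eq_1.{0,0,0}
  have := @_root_.LieAlgebra.IsKilling.mk.congr_simp.{0,0}
  have := @_root_.LieDerivation.IsKilling.rangeAdOrthogonal.eq_1.{0,0}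
  have := @_root_.LieModule.chainBot.eq_1.{0,0,0}
  have := @_root_.LieModule.chainTop.eq_1.{0,0,0}
  have := @_root_.LieAlgebra.IsKilling.corootSubmodule.eq_1.{0,0}
  have := @_root_.LieSubalgebra.root.eq_1.{0,0}
  have := @_root_.LieAlgebra.IsKilling.cartanEquivDual.eq_1.{0,0}
  have := @_root_.LieAlgebra.IsKilling.sl2SubmoduleOfRoot.eq_1.{0,0}
  have := @_root_.LinearMap.IsPerfPair.mk.congr_simp.{0,0,0}
  have := @_root_.LinearMap.IsPerfectCompl.mk.congr_simp.{0,0,0}
  have := @_root_.LinearMap.toPerfPair.eq_1.{0,0,0}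
  trivial

theorem r14_11 : True := by
  have := @_root_.LinearEquiv.flip.eq_1.{0,0,0}
  have := @_root_.Polynomial.Sequence.elems'.eq_1.{0}
  have := @_root_.Polynomial.Sequence.basis.eq_1.{0}
  have := @_root_.Module.reflection.eq_1.{0,0}
  have := @_root_.RootPairing.root.eq_1.{0,0,0,0}
  have := @_root_.RootPairing.reflectionPerm.eq_1.{0,0,0,0}
  have := @_root_.RootPairing.flipEquiv.eq_1.{0,0,0,0}
  have := @_root_.RootPairing.coreflection.eq_1.{0,0,0,0}
  have := @_root_.RootPairing.IsRootSystem.mk.congr_simp.{0,0,0,0}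
  have := @_root_.RootPairing.indexNeg.eq_1.{0,0,0,0}
  have := @_root_.RootPairing.reflection.eq_1.{0,0,0,0}
  have := @_root_.RootPairing.toLinearMap.eq_1.{0,0,0,0}
  have := @_root_.RootPairing.coroot'.eq_1.{0,0,0,0}
  have := @_root_.RootDatum.eq_1.{0,0,0}
  have := @_root_.RootPairing.coroot.eq_1.{0,0,0,0}
  have := @_root_.Submodule.tensorEquivSpan.eq_1.{0,0,0}
  have := @_root_.Submodule.tensorEquivSpan.congr_simp.{0,0,0}
  have := @_root_.Submodule.tensorSpanEquivSpan.eq_1.{0,0,0}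
  have := @_root_.Submodule.tensorSpanEquivSpan.congr_simp.{0,0,0}
  have := @_root_.Submodule.factorPowSucc.eq_1.{0,0}
  have := @_root_.Ideal.Quotient.factorPowSucc.eq_1.{0}
  have := @_root_.Ideal.Quotient.factorPow.eq_1.{0}
  have := @_root_.IsJacobsonRing.mk.congr_simp.{0}
  have := @_root_.IsLocalization.orderIsoOfMaximal.eq_1.{0,0}
  have := @_root_.IsLocalization.orderIsoOfMaximal.congr_simp.{0,0}
  have := @_root_.Ideal.associatesMulEquivIsPrincipal.eq_1.{0}
  have := @_root_.Ideal.associatesMulEquivIsPrincipal.congr_simp.{0}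
  have := @_root_.Ideal.isPrincipalSubmonoid.eq_1.{0}
  have := @_root_.Ideal.associatesNonZeroDivisorsEquivIsPrincipal.eq_1.{0}
  have := @_root_.Ideal.associatesNonZeroDivisorsMulEquivIsPrincipal.eq_1.{0}
  trivial

theorem r14_12 : True := by
  have := @_root_.Ideal.associatesNonZeroDivisorsMulEquivIsPrincipal.congr_simp.{0}
  have := @_root_.Ideal.isPrincipalNonZeroDivisorsSubmonoid.eq_1.{0}
  have := @_root_.Ideal.isoBaseOfIsPrincipal.eq_1.{0}
  have := @_root_.Ideal.associatesEquivIsPrincipal.eq_1.{0}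
  have := @_root_.RootPairing.IsValuedIn.mk.congr_simp.{0,0,0,0,0}
  have := @_root_.RootPairing.IsCrystallographic.eq_1.{0,0,0,0}
  have := @_root_.RootPairing.corootSpan.eq_1.{0,0,0,0,0}
  have := @_root_.RootPairing.corootSpanMem.eq_1.{0,0,0,0,0}
  have := @_root_.RootPairing.pairingIn.eq_1.{0,0,0,0,0}
  have := @_root_.RootPairing.root'In.congr_simp.{0,0,0,0,0}
  have := @_root_.RootPairing.rootSpanMem.eq_1.{0,0,0,0,0}
  have := @_root_.RootPairing.coroot'In.eq_1.{0,0,0,0,0}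
  have := @_root_.RootPairing.restrictScalarsRat.eq_1.{0,0,0,0}
  have := @_root_.RootPairing.restrictScalarsRat.congr_simp.{0,0,0,0}
  have := @_root_.RootPairing.IsBalanced.mk.congr_simp.{0,0,0,0}
  have := @_root_.RootPairing.restrictScalars.eq_1.{0,0,0,0,0}
  have := @_root_.RootPairing.restrictScalars.congr_simp.{0,0,0,0,0}
  have := @_root_.Subsemiring.sumSq.eq_1.{0}
  have := @_root_.IsSumSq.sq_add.congr_simp.{0}
  have := @_root_.AddSubmonoid.sumSq.eq_1.{0}
  have := @_root_.RootPairing.InvariantForm.form.eq_1.{0,0,0,0}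
  have := @_root_.RootPairing.RootPositiveForm.toInvariantForm.eq_1.{0,0,0,0,0}
  have := @_root_.RootPairing.InvariantForm.mk.congr_simp.{0,0,0,0}
  have := @_root_.RootPairing.RootPositiveForm.form.eq_1.{0,0,0,0,0}
  have := @_root_.RootPairing.CoPolarizationIn.eq_1.{0,0,0,0,0}
  have := @_root_.RootPairing.CoPolarizationIn.congr_simp.{0,0,0,0,0}
  have := @_root_.RootPairing.CoPolarization.eq_1.{0,0,0,0}
  have := @_root_.RootPairing.IsAnisotropic.mk.congr_simp.{0,0,0,0}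
  have := @_root_.RootPairing.toInvariantForm.eq_1.{0,0,0,0}
  have := @_root_.RootPairing.mk'.eq_1.{0,0,0,0}
  trivial

theorem r14_13 : True := by
  have := @_root_.RootPairing.mk'.congr_simp.{0,0,0,0}
  have := @_root_.RootPairing.mk''.eq_1.{0,0,0,0}
  have := @_root_.RootPairing.mk''.congr_simp.{0,0,0,0}
  have := @_root_.RootPairing.equiv_of_mapsTo.eq_1.{0,0,0,0}
  have := @_root_.RootPairing.IsReduced.mk.congr_simp.{0,0,0,0}
  have := @_root_.LieAlgebra.IsKilling.rootSystem.eq_1.{0,0}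
  have := @_root_.basisOfTopLeSpanOfCardEqFinrank.eq_1.{0,0,0}
  have := @_root_.finsetBasisOfTopLeSpanOfCardEqFinrank.eq_1.{0,0}
  have := @_root_.finsetBasisOfTopLeSpanOfCardEqFinrank.congr_simp.{0,0}
  have := @_root_.setBasisOfTopLeSpanOfCardEqFinrank.eq_1.{0,0}
  have := @_root_.setBasisOfTopLeSpanOfCardEqFinrank.congr_simp.{0,0}
  have := @_root_.QuadraticMap.Isometry.inr.eq_1.{0,0,0,0}
  have := @_root_.QuadraticMap.Isometry.single.eq_1.{0,0,0,0}
  have := @_root_.QuadraticMap.Isometry.inl.eq_1.{0,0,0,0}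
  have := @_root_.QuadraticMap.Isometry.proj.eq_1.{0,0,0,0}
  have := @_root_.QuadraticMap.Isometry.snd.eq_1.{0,0,0,0}
  have := @_root_.QuadraticMap.IsometryEquiv.prod.eq_1.{0,0,0,0,0,0}
  have := @_root_.QuadraticMap.IsometryEquiv.prodProdProdComm.eq_1.{0,0,0,0,0,0}
  have := @_root_.QuadraticMap.Isometry.fst.eq_1.{0,0,0,0}
  have := @_root_.QuadraticMap.prod.eq_1.{0,0,0,0}
  have := @_root_.QuadraticMap.IsometryEquiv.prodComm.eq_1.{0,0,0,0}
  have := @_root_.QuadraticMap.IsometryEquiv.pi.eq_1.{0,0,0,0,0}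
  have := @_root_.QuadraticForm.dualProdProdIsometry.eq_1.{0,0,0}
  have := @_root_.QuadraticForm.toDualProd.eq_1.{0,0}
  have := @_root_.QuadraticForm.dualProdIsometry.eq_1.{0,0,0}
  have := @_root_.QuadraticForm.dualProd.eq_1.{0,0}
  have := @_root_.LinearMap.dualProd.eq_1.{0,0}
  have := @_root_.RootPairing.Equiv.weightHom.eq_1.{0,0,0,0}
  have := @_root_.RootPairing.Aut.eq_1.{0,0,0,0}
  have := @_root_.RootPairing.Equiv.toHom.eq_1.{0,0,0,0,0,0,0}
  trivial

theorem r14_14 : True := by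
  have := @_root_.RootPairing.Hom.coweightMap.eq_1.{0,0,0,0,0,0,0}
  have := @_root_.RootPairing.Equiv.coweightEquiv.eq_1.{0,0,0,0,0,0,0}
  have := @_root_.RootPairing.Equiv.toEndUnit.eq_1.{0,0,0,0}
  have := @_root_.RootPairing.Equiv.indexHom.eq_1.{0,0,0,0}
  have := @_root_.RootPairing.Hom.indexEquiv.eq_1.{0,0,0,0,0,0,0}
  have := @_root_.RootPairing.Hom.id.eq_1.{0,0,0,0}
  have := @_root_.RootPairing.Equiv.id.eq_1.{0,0,0,0}
  have := @_root_.RootPairing.Equiv.mk'.eq_1.{0,0,0,0,0,0,0}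
  have := @_root_.RootPairing.Equiv.mk'.congr_simp.{0,0,0,0,0,0,0}
  have := @_root_.RootPairing.End.eq_1.{0,0,0,0}
  have := @_root_.RootPairing.Hom.weightMap.eq_1.{0,0,0,0,0,0,0}
  have := @_root_.RootPairing.Hom.indexHom.eq_1.{0,0,0,0}
  have := @_root_.RootPairing.Equiv.weightEquiv.eq_1.{0,0,0,0,0,0,0}
  have := @_root_.RootPairing.Hom.weightHom.eq_1.{0,0,0,0}
  have := @_root_.RootPairing.Equiv.comp.eq_1.{0,0,0,0,0,0,0,0,0,0}
  have := @_root_.RootPairing.Hom.coweightHom.eq_1.{0,0,0,0}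
  have := @_root_.RootPairing.Equiv.reflection.eq_1.{0,0,0,0}
  have := @_root_.RootPairing.Equiv.symm.eq_1.{0,0,0,0,0,0,0}
  have := @_root_.RootPairing.Equiv.coweightHom.eq_1.{0,0,0,0}
  have := @_root_.RootPairing.weylGroupRootRep.eq_1.{0,0,0,0}
  have := @_root_.RootPairing.weylGroup.ofIdx.eq_1.{0,0,0,0}
  have := @_root_.RootPairing.weylGroupCorootRep.eq_1.{0,0,0,0}
  have := @_root_.RootPairing.weylGroupToPerm.eq_1.{0,0,0,0}
  have := @_root_.RootPairing.IsIrreducible.mk.congr_simp.{0,0,0,0}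
  have := @_root_.RootPairing.Base.mk.congr_simp.{0,0,0,0}
  have := @_root_.RootPairing.Base.height.eq_1.{0,0,0,0}
  have := @_root_.RootPairing.Base.IsPos.eq_1.{0,0,0,0}
  have := @_root_.RootPairing.Base.flip.eq_1.{0,0,0,0}
  have := @_root_.RootPairing.Base.support.eq_1.{0,0,0,0}
  have := @_root_.RootPairing.Base.toCoweightBasis.eq_1.{0,0,0,0}
  trivial

theorem r14_15 : True := by
  have := @_root_.RootPairing.Base.mk'.eq_1.{0,0,0,0}
  have := @_root_.RootPairing.Base.mk'.congr_simp.{0,0,0,0}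
  have := @_root_.skewAdjointMatricesSubmodule'.eq_1.{0,0}
  have := @_root_.selfAdjointMatricesSubmodule'.eq_1.{0,0}
  have := @_root_.Matrix.toBilin'.eq_1.{0,0}
  have := @_root_.BilinForm.toMatrix.eq_1.{0,0,0}
  have := @_root_.Matrix.hadamard.eq_1.{0,0,0}
  have := @_root_.RootPairing.Base.equivOfCartanMatrixEq.eq_1.{0,0,0,0,0,0,0}
  have := @_root_.RootPairing.Base.equivOfCartanMatrixEq.congr_simp.{0,0,0,0,0,0,0}
  have := @_root_.LieAlgebra.Basis.base.eq_1.{0,0,0}
  trivial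

end CL.BaseAux
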