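import Cfsg.Agent.Base.Imports

/-! On-demand lemmas of Prelude and Mathlib definitions, produced once here so that no other file holds a copy. -/

set_option linter.all false

namespace CL.BaseAux

theorem r15_0 : True := by
  have := @_root_.LieAlgebra.Basis.baseSupportEquiv.eq_1.{0,0,0}
  have := @_root_.LieHom.snd.eq_1.{0,0,0}
  have := @_root_.LieHom.fst.eq_1.{0,0,0}
  have := @_root_.LieHom.inl.eq_1.{0,0,0}
  have := @_root_.LieEquiv.prodComm.eq_1.{0,0,0}
  have := @_root_.LieHom.prodMap.eq_1.{0,0,0,0,0}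
  have := @_root_.LieHom.prod.eq_1.{0,0,0,0}
  have := @_root_.LieHom.inr.eq_1.{0,0,0}
  have := @_root_.LieAlgebra.Basis.equivOfReindex.eq_1.{0,0,0,0,0}
  have := @_root_.LieAlgebra.Basis.equivOfReindex.congr_simp.{0,0,0,0,0}
  have := @_root_.Lagrange.interpolate.eq_1.{0,0}
  have := @_root_.Lagrange.funEquivDegreeLT.eq_1.{0,0}
  have := @_root_.Lagrange.funEquivDegreeLT.congr_simp.{0,0}
  have := @_root_.LieSubalgebra.engel.eq_1.{0,0}
  have := @_root_.LinearMap.IsNilRegular.congr_simp.{0,0,0}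
  have := @_root_.LinearMap.nilRank.eq_1.{0,0,0}
  have := @_root_.LieAlgebra.rank.eq_1.{0,0}
  have := @_root_.LieAlgebra.rank.congr_simp.{0,0}
  have := @_root_.LieAlgebra.IsRegular.eq_1.{0,0}
  have := @_root_.LieAlgebra.IsRegular.congr_simp.{0,0}
  have := @_root_.LieModule.IsRegular.eq_1.{0,0,0}
  have := @_root_.LieModule.IsRegular.congr_simp.{0,0,0}
  have := @_root_.LieModule.rank.eq_1.{0,0,0}
  have := @_root_.LieModule.rank.congr_simp.{0,0,0}
  have := @_root_.LieAlgebra.lieCharacterEquivLinearDual.eq_1.{0,0}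
  have := @_root_.LieAlgebra.lieCharacterEquivLinearDual.congr_simp.{0,0}
  have := @_root_.LieAlgebra.LieCharacter.eq_1.{0,0}
  have := @_root_.lieEquivMatrix'.eq_1.{0,0}
  have := @_root_.Matrix.reindexLieEquiv.eq_1.{0,0,0}
  have := @_root_.skewAdjointLieSubalgebra.eq_1.{0,0}
  trivial

theorem r15_1 : True := by
  have := @_root_.skewAdjointMatricesLieSubalgebra.eq_1.{0,0}
  have := @_root_.skewAdjointMatricesLieSubalgebraEquivTranspose.eq_1.{0,0}
  have := @_root_.skewAdjointMatricesLieSubalgebraEquivTranspose.congr_simp.{0,0}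
  have := @_root_.SymplecticGroup.symJ.eq_1.{0,0}
  have := @_root_.LieAlgebra.Orthogonal.typeD.eq_1.{0,0}
  have := @_root_.LieAlgebra.Symplectic.sp.eq_1.{0,0}
  have := @_root_.LieAlgebra.Orthogonal.soIndefiniteEquiv.congr_simp.{0,0,0}
  have := @_root_.LieAlgebra.Orthogonal.invertiblePso.eq_1.{0,0,0}
  have := @_root_.LieAlgebra.SpecialLinear.singleSubSingle.eq_1.{0,0}
  have := @_root_.LieAlgebra.SpecialLinear.sl.eq_1.{0,0}
  have := @_root_.LieAlgebra.Orthogonal.typeBEquivSo'.eq_1.{0,0}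
  have := @_root_.LieAlgebra.Orthogonal.JB.congr_simp.{0,0}
  have := @_root_.LieAlgebra.Orthogonal.typeB.eq_1.{0,0}
  have := @_root_.LieAlgebra.Orthogonal.typeDEquivSo'.eq_1.{0,0}
  have := @_root_.LieAlgebra.Orthogonal.PB.congr_simp.{0,0}
  have := @_root_.LieAlgebra.SpecialLinear.single.eq_1.{0,0}
  have := @_root_.LieModule.Cohomology.d₁₂.eq_1.{0,0,0}
  have := @_root_.LieModule.Cohomology.twoCocycle.congr_simp.{0,0,0}
  have := @_root_.LieModule.Cohomology.oneCochain.eq_1.{0,0,0}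
  have := @_root_.LieModule.Cohomology.twoCochain.eq_1.{0,0,0}
  have := @_root_.LieModule.Cohomology.d₂₃.eq_1.{0,0,0}
  have := @_root_.Lie.Derivation.ofDerivation.eq_1.{0,0,0}
  have := @_root_.Lie.Derivation.ofLieDerivation.eq_1.{0,0,0}
  have := @_root_.DirectSum.lieAlgebraComponent.eq_1.{0,0,0}
  have := @_root_.DirectSum.toLieAlgebra.eq_1.{0,0,0,0}
  have := @_root_.DirectSum.toLieAlgebra.congr_simp.{0,0,0,0}
  have := @_root_.DirectSum.lieModuleComponent.eq_1.{0,0,0,0}
  have := @_root_.DirectSum.lieModuleOf.eq_1.{0,0,0,0}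
  have := @_root_.DirectSum.lieAlgebraOf.eq_1.{0,0,0}
  have := @_root_.LieAlgebra.Extension.ofAlg.eq_1.{0,0,0}
  trivial

theorem r15_2 : True := by
  have := @_root_.LieAlgebra.IsExtension.mk.congr_simp.{0,0,0,0}
  have := @_root_.LieAlgebra.IsExtension.extension.eq_1.{0,0,0,0}
  have := @_root_.LieAlgebra.IsExtension.extension.congr_simp.{0,0,0,0}
  have := @_root_.LieAlgebra.ofProd.eq_1.{0,0,0}
  have := @_root_.LieAlgebra.Extension.toKer.eq_1.{0,0,0,0}
  have := @_root_.LieAlgebra.Extension.incl.eq_1.{0,0,0,0}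
  have := @_root_.LieAlgebra.Extension.mk.congr_simp.{0,0,0,0}
  have := @_root_.LieAlgebra.Extension.L.eq_1.{0,0,0,0}
  have := @_root_.LieAlgebra.Extension.instLieRing.eq_1.{0,0,0,0}
  have := @_root_.LieAlgebra.Extension.instLieAlgebra.eq_1.{0,0,0,0}
  have := @_root_.LieAlgebra.Extension.ofTwoCocycle.eq_1.{0,0,0}
  have := @_root_.LieAlgebra.Extension.ofTwoCocycle.congr_simp.{0,0,0}
  have := @_root_.LieAlgebra.Extension.ringModuleOf.eq_1.{0,0,0,0}
  have := @_root_.LieAlgebra.Extension.ringModuleOf.congr_simp.{0,0,0,0}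
  have := @_root_.LieAlgebra.Extension.proj.eq_1.{0,0,0,0}
  have := @_root_.LieAlgebra.Extension.oneCochainOfTwoSplitting.eq_1.{0,0,0,0}
  have := @_root_.LieAlgebra.ofTwoCocycle.carrier.eq_1.{0,0,0}
  have := @_root_.LieAlgebra.Extension.twoCocycleOf.eq_1.{0,0,0,0}
  have := @_root_.LieAlgebra.LieEquiv.ofCoboundary.eq_1.{0,0,0}
  have := @_root_.LieAlgebra.LieEquiv.ofCoboundary.congr_simp.{0,0,0}
  have := @_root_.UniversalEnvelopingAlgebra.lift.eq_1.{0,0,0}
  have := @_root_.UniversalEnvelopingAlgebra.ι.eq_1.{0,0}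
  have := @_root_.UniversalEnvelopingAlgebra.ringCon.eq_1.{0,0}
  have := @_root_.FreeLieAlgebra.Rel.mul_left.congr_simp.{0,0}
  have := @_root_.FreeLieAlgebra.universalEnvelopingEquivFreeAlgebra.eq_1.{0,0}
  have := @_root_.FreeLieAlgebra.Rel.mul_right.congr_simp.{0,0}
  have := @_root_.FreeLieAlgebra.Rel.add_right.congr_simp.{0,0}
  have := @_root_.FreeLieAlgebra.lift.eq_1.{0,0,0}
  have := @_root_.FreeLieAlgebra.Rel.smul.congr_simp.{0,0}
  have := @_root_.FreeLieAlgebra.mk.eq_1.{0,0}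
  trivial

theorem r15_3 : True := by
  have := @_root_.DirectSum.decomposeLieEquiv.eq_1.{0,0,0}
  have := @_root_.SetLike.GradedBracket.mk.congr_simp.{0,0,0}
  have := @_root_.GradedLieAlgebra.congr_simp.{0,0,0}
  have := @_root_.GradedLieAlgebra.mk.congr_simp.{0,0,0}
  have := @_root_.LieModule.weightSpaceOfIsLieTower.congr_simp.{0,0,0,0}
  have := @_root_.AddMonoidAlgebra.grade.eq_1.{0,0}
  have := @_root_.AddMonoidAlgebra.gradeBy.eq_1.{0,0,0}
  have := @_root_.DirectSum.decomposeTensorEquiv.eq_1.{0,0,0,0}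
  have := @_root_.DirectSum.tensorDecomposition.eq_1.{0,0,0,0}
  have := @_root_.DirectSum.decomposeTensor.eq_1.{0,0,0,0}
  have := @_root_.LieAlgebra.loopAlgebra.eq_1.{0,0,0}
  have := @_root_.LieAlgebra.LoopAlgebra.twoCochainOfBilinear.eq_1.{0,0,0}
  have := @_root_.LieAlgebra.loopAlgebraEquivLaurent.eq_1.{0,0}
  have := @_root_.LieAlgebra.LoopAlgebra.twoCocycleOfBilinear.eq_1.{0,0,0}
  have := @_root_.LieAlgebra.LoopAlgebra.twoCocycleOfBilinear.congr_simp.{0,0,0}
  have := @_root_.LieAlgebra.LoopAlgebra.residuePairing.eq_1.{0,0,0}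
  have := @_root_.LieAlgebra.SemiDirectSum.inr.eq_1.{0,0,0}
  have := @_root_.LieAlgebra.SemiDirectSum.projr.eq_1.{0,0,0}
  have := @_root_.LieAlgebra.SemiDirectSum.projl.eq_1.{0,0,0}
  have := @_root_.LieAlgebra.SemiDirectSum.right.eq_1.{0,0,0}
  have := @_root_.LieAlgebra.SemiDirectSum.toProdl.eq_1.{0,0,0}
  have := @_root_.LieAlgebra.SemiDirectSum.prod_iso.eq_1.{0,0,0}
  have := @_root_.LieAlgebra.SemiDirectSum.toProd.eq_1.{0,0,0}
  have := @_root_.LieAlgebra.SemiDirectSum.left.eq_1.{0,0,0}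
  have := @_root_.Cycle.formPerm.eq_1.{0}
  have := @_root_.Equiv.Perm.isoCycle.eq_1.{0}
  have := @_root_.Equiv.Perm.isoCycle'.eq_1.{0}
  have := @_root_.BirdDet.get.eq_1.{0}
  have := @_root_.BirdDet.Spec.stepEntry.eq_1.{0}
  have := @_root_.BirdDet.stepEntry.eq_1.{0}
  trivial

theorem r15_4 : True := by
  have := @_root_.BirdDet.sumFrom.eq_def.{0}
  have := @_root_.BirdDet.sumFrom.eq_1.{0}
  have := @_root_.BirdDet.birdDet.eq_def.{0}
  have := @_root_.BirdDet.birdDet.eq_1.{0}
  have := @_root_.BirdDet.Spec.birdDet.eq_def.{0}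
  have := @_root_.BirdDet.Spec.birdDet.eq_1.{0}
  have := @_root_.CartanMatrix.bₙ.eq_1.{0}
  have := @_root_.CartanMatrix.Relations.toIdeal.eq_1.{0,0}
  have := @_root_.CartanMatrix.Relations.HH.eq_1.{0,0}
  have := @_root_.CartanMatrix.Relations.HF.eq_1.{0,0}
  have := @_root_.CartanMatrix.dₙ.eq_1.{0}
  have := @_root_.CartanMatrix.aₙ.eq_1.{0}
  have := @_root_.CartanMatrix.Relations.EF.eq_1.{0,0}
  have := @_root_.CartanMatrix.Relations.HE.eq_1.{0,0}
  have := @_root_.LieAlgebra.e₆.eq_1.{0}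
  have := @_root_.LieAlgebra.e₈.eq_1.{0}
  have := @_root_.CartanMatrix.cₙ.eq_1.{0}
  have := @_root_.LieAlgebra.f₄.eq_1.{0}
  have := @_root_.LieAlgebra.e₇.eq_1.{0}
  have := @_root_.Matrix.ToLieAlgebra.eq_1.{0,0}
  have := @_root_.Matrix.ToLieAlgebra.congr_simp.{0,0}
  have := @_root_.LieAlgebra.g₂.eq_1.{0}
  have := @_root_.CartanMatrix.Relations.toSet.eq_1.{0,0}
  have := @_root_.CartanMatrix.Relations.toSet.congr_simp.{0,0}
  have := @_root_.Equiv.lieAlgebra.eq_1.{0,0,0}
  have := @_root_.LinearEquiv.lieAlgebra.eq_1.{0,0,0}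
  have := @_root_.Equiv.lieEquiv.eq_1.{0,0,0}
  have := @_root_.AddEquiv.lieRing.eq_1.{0,0}
  have := @_root_.Equiv.lieRing.eq_1.{0,0}
  have := @_root_.LinearEquiv.lieEquiv.eq_1.{0,0,0}
  trivial

theorem r15_5 : True := by
  have := @_root_.LieAlgebra.IsKilling.lieIdealOrderIso.eq_1.{0,0}
  have := @_root_.LieIdeal.rootSpan.congr_simp.{0,0}
  have := @_root_.LieAlgebra.IsKilling.invtSubmoduleToLieIdeal.eq_1.{0,0}
  have := @_root_.Subbimodule.toSubmodule.eq_1.{0,0,0,0}
  have := @_root_.Subbimodule.mk.eq_1.{0,0,0,0}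
  have := @_root_.Subbimodule.mk.congr_simp.{0,0,0,0}
  have := @_root_.Subbimodule.toSubbimoduleNat.eq_1.{0,0,0}
  have := @_root_.Subbimodule.toSubbimoduleInt.eq_1.{0,0,0}
  have := @_root_.Subbimodule.baseChange.eq_1.{0,0,0,0,0}
  have := @_root_.Subbimodule.toSubmodule'.eq_1.{0,0,0,0}
  have := @_root_.Module.FinitePresentation.mk.congr_simp.{0,0}
  have := @_root_.Module.FinitePresentation.linearEquivMap.eq_1.{0,0,0}
  have := @_root_.Module.FinitePresentation.linearEquivMap.congr_simp.{0,0,0}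
  have := @_root_.Module.FinitePresentation.linearEquivMapExtendScalars.eq_1.{0,0,0}
  have := @_root_.Module.FinitePresentation.linearEquivMapExtendScalars.congr_simp.{0,0,0}
  have := @_root_.DirectSum.Gmodule.mk.congr_simp.{0,0,0,0}
  have := @_root_.GradedModule.isModule.eq_1.{0,0,0,0,0,0}
  have := @_root_.GradedModule.isModule.congr_simp.{0,0,0,0,0,0}
  have := @_root_.DirectSum.gsmulHom.eq_1.{0,0,0,0}
  have := @_root_.DirectSum.GdistribMulAction.mk.congr_simp.{0,0,0,0}
  have := @_root_.GradedModule.linearEquiv.eq_1.{0,0,0,0,0,0}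
  have := @_root_.Submodule.IsLattice.mk.congr_simp.{0,0,0}
  have := @_root_.Submodule.IsLattice.congr_simp.{0,0,0}
  have := @_root_.Module.Basis.extendOfIsLattice.congr_simp.{0,0,0,0}
  have := @_root_.LinearMap.finiteRange.eq_1.{0,0,0}
  have := @_root_.LinearMap.FiniteRangeSetoid.setoid.eq_1.{0,0,0}
  have := @_root_.LinearMap.index.eq_1.{0,0,0}
  have := @_root_.IsLocalizedModule.IsInteger.eq_1.{0,0,0}
  have := @_root_.IsLocalizedModule.integerMultiple.eq_1.{0,0,0,0}
  have := @_root_.IsLocalizedModule.integerMultiple.congr_simp.{0,0,0,0}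
  trivial

theorem r15_6 : True := by
  have := @_root_.IsLocalizedModule.commonDenomOfFinset.eq_1.{0,0,0}
  have := @_root_.IsLocalizedModule.commonDenomOfFinset.congr_simp.{0,0,0}
  have := @_root_.IsLocalizedModule.commonDenom.eq_1.{0,0,0,0}
  have := @_root_.IsLocalizedModule.commonDenom.congr_simp.{0,0,0,0}
  have := @_root_.IsLocalizedModule.finsetIntegerMultiple.eq_1.{0,0,0}
  have := @_root_.IsLocalizedModule.finsetIntegerMultiple.congr_simp.{0,0,0}
  have := @_root_.Module.ofMinimalAxioms.eq_1.{0,0}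
  have := @_root_.Module.ofMinimalAxioms.congr_simp.{0,0}
  have := @_root_.Module.Presentation.CokernelData.mk.congr_simp.{0,0,0,0,0,0}
  have := @_root_.Module.Presentation.cokernel.eq_1.{0,0,0,0,0,0}
  have := @_root_.Module.Presentation.cokernel.congr_simp.{0,0,0,0,0,0}
  have := @_root_.Module.Presentation.cokernelRelations.eq_1.{0,0,0,0,0,0}
  have := @_root_.Module.Presentation.cokernelSolution.isPresentationCore.eq_1.{0,0,0,0,0,0,0}
  have := @_root_.Module.Presentation.cokernelSolution.isPresentationCore.congr_simp.{0,0,0,0,0,0,0}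
  have := @_root_.Module.Presentation.CokernelData.ofSection.eq_1.{0,0,0,0,0,0}
  have := @_root_.Module.Presentation.CokernelData.ofSection.congr_simp.{0,0,0,0,0,0}
  have := @_root_.Module.Presentation.cokernelSolution.eq_1.{0,0,0,0,0,0}
  have := @_root_.Module.Presentation.CokernelData.lift.eq_1.{0,0,0,0,0,0}
  have := @_root_.Module.Presentation.ofExact.eq_1.{0,0,0,0,0,0,0}
  have := @_root_.Module.Presentation.ofExact.congr_simp.{0,0,0,0,0,0,0}
  have := @_root_.Polynomial.mkDerivation.eq_1.{0,0}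
  have := @_root_.Polynomial.mkDerivationEquiv.eq_1.{0,0}
  have := @_root_.Derivation.compAEval.eq_1.{0,0,0}
  have := @_root_.Algebra.Presentation.differentialsSolution.eq_1.{0,0,0,0}
  have := @_root_.Algebra.Presentation.differentials.eq_1.{0,0,0,0}
  have := @_root_.Module.Relations.Solution.directSumEquiv.eq_1.{0,0,0,0,0}
  have := @_root_.Module.Relations.directSum.eq_1.{0,0,0,0}
  have := @_root_.Module.Presentation.directSum.eq_1.{0,0,0,0,0}
  have := @_root_.Module.Presentation.finsupp.eq_1.{0,0,0,0,0}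
  have := @_root_.Module.Relations.Solution.directSum.eq_1.{0,0,0,0,0}
  trivial

theorem r15_7 : True := by
  have := @_root_.Module.Relations.solutionFinsupp.isPresentationCore.eq_1.{0,0,0,0}
  have := @_root_.Module.presentationFinsupp.eq_1.{0,0,0}
  have := @_root_.Module.Relations.solutionFinsupp.eq_1.{0,0,0}
  have := @_root_.Module.Presentation.RestrictScalarsData.eq_1.{0,0,0,0,0,0,0}
  have := @_root_.Module.Presentation.RestrictScalarsData.congr_simp.{0,0,0,0,0,0,0}
  have := @_root_.Module.Presentation.restrictScalars.eq_1.{0,0,0,0,0,0,0}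
  have := @_root_.Module.Presentation.restrictScalars.congr_simp.{0,0,0,0,0,0,0}
  have := @_root_.Module.Presentation.tautologicalRelationsSolutionEquiv.eq_1.{0,0,0}
  have := @_root_.Module.Presentation.tautologicalSolution.eq_1.{0,0}
  have := @_root_.Module.Presentation.tautologicalRelations.eq_1.{0,0}
  have := @_root_.Module.Presentation.tautological.eq_1.{0,0}
  have := @_root_.Module.Presentation.tautologicalSolutionIsPresentationCore.eq_1.{0,0,0}
  have := @_root_.Module.Relations.Solution.isPresentationCoreTensor.eq_1.{0,0,0,0,0,0,0,0}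
  have := @_root_.Module.Relations.Solution.isPresentationCoreTensor.congr_simp.{0,0,0,0,0,0,0,0}
  have := @_root_.Module.Relations.Solution.tensor.eq_1.{0,0,0,0,0,0,0}
  have := @_root_.Module.Relations.tensor.eq_1.{0,0,0,0,0}
  have := @_root_.Module.Presentation.tensor.eq_1.{0,0,0,0,0,0,0}
  have := @_root_.TensorProduct.VanishesTrivially.eq_1.{0,0,0,0}
  have := @_root_.AlternatingMap.alternatizeUncurryFinLM.eq_1.{0,0,0}
  have := @_root_.MultilinearMap.domCoprod.eq_1.{0,0,0,0,0,0}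
  have := @_root_.MultilinearMap.domCoprodDep'.eq_1.{0,0,0,0,0,0}
  have := @_root_.MultilinearMap.domCoprod'.eq_1.{0,0,0,0,0,0}
  have := @_root_.MultilinearMap.domCoprodDep.eq_1.{0,0,0,0,0,0}
  have := @_root_.PiTensorProduct.tprod.eq_1.{0,0,0}
  have := @_root_.PiTensorProduct.liftAddHom.congr_simp.{0,0,0,0}
  have := @_root_.PiTensorProduct.eq_1.{0,0,0}
  have := @_root_.PiTensorProduct.lift.eq_1.{0,0,0,0}
  have := @_root_.PiTensorProduct.isEmptyEquiv.eq_1.{0,0,0}
  have := @_root_.PiTensorProduct.mapMultilinear.eq_1.{0,0,0,0}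
  have := @_root_.PiTensorProduct.subsingletonEquiv.eq_1.{0,0,0}
  trivial

theorem r15_8 : True := by
  have := @_root_.PiTensorProduct.mapMonoidHom.eq_1.{0,0,0}
  have := @_root_.PiTensorProduct.map.eq_1.{0,0,0,0}
  have := @_root_.PiTensorProduct.Eqv.of_zero.congr_simp.{0,0,0}
  have := @_root_.TensorPower.eq_1.{0,0}
  have := @_root_.TensorPower.mulEquiv.eq_1.{0,0}
  have := @_root_.exteriorPower.toTensorPower.eq_1.{0,0}
  have := @_root_.Module.Basis.exteriorPower.eq_1.{0,0,0}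
  have := @_root_.Submodule.rTensorOne.eq_1.{0,0}
  have := @_root_.Submodule.lTensorOne.eq_1.{0,0}
  have := @_root_.Submodule.mulMap.eq_1.{0,0}
  have := @_root_.Submodule.LinearDisjoint.mk.congr_simp.{0,0}
  have := @_root_.Submodule.LinearDisjoint.mulMap.eq_1.{0,0}
  have := @_root_.Submodule.LinearDisjoint.mulMap.congr_simp.{0,0}
  have := @_root_.Submodule.associatedPrimes.eq_1.{0,0}
  have := @_root_.Submodule.IsAssociatedPrime.mk.congr_simp.{0,0}
  have := @_root_.IsAssociatedPrime.eq_1.{0,0}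
  have := @_root_.associatedPrimes.eq_1.{0,0}
  have := @_root_.Submodule.IsQuotientEquivQuotientPrime.eq_1.{0,0}
  have := @_root_.Equiv.Perm.viaEmbeddingHom.eq_1.{0,0}
  have := @_root_.Equiv.Perm.viaEmbedding.eq_1.{0,0}
  have := @_root_.IsSolvable.eq_1.{0}
  have := @_root_.Group.IsSolvable.mk.congr_simp.{0}
  have := @_root_.derivedSeries.eq_def.{0}
  have := @_root_.derivedSeries.eq_1.{0}
  have := @_root_.IntermediateField.fixedField.eq_1.{0,0}
  have := @_root_.IsGalois.galoisInsertionIntermediateFieldSubgroup.eq_1.{0,0}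
  have := @_root_.IsGalois.galoisInsertionIntermediateFieldSubgroup.congr_simp.{0,0}
  have := @_root_.IntermediateField.fixingSubgroupEquiv.eq_1.{0,0}
  have := @_root_.IsGalois.galoisCoinsertionIntermediateFieldSubgroup.eq_1.{0,0}
  have := @_root_.IsGalois.galoisCoinsertionIntermediateFieldSubgroup.congr_simp.{0,0}
  trivial

theorem r15_9 : True := by
  have := @_root_.IsGalois.normalAutEquivQuotient.eq_1.{0,0}
  have := @_root_.IsGalois.normalAutEquivQuotient.congr_simp.{0,0}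
  have := @_root_.IntermediateField.subgroupEquivAlgEquiv.eq_1.{0,0}
  have := @_root_.IntermediateField.subgroupEquivAlgEquiv.congr_simp.{0,0}
  have := @_root_.IsGalois.intermediateFieldEquivSubgroup.eq_1.{0,0}
  have := @_root_.IsGalois.mk.congr_simp.{0,0}
  have := @_root_.IntermediateField.restrictRestrictAlgEquivMapHom.congr_simp.{0,0,0,0}
  have := @_root_.FixedPoints.intermediateField.eq_1.{0,0,0}
  have := @_root_.FiniteGaloisIntermediateField.toIntermediateField.eq_1.{0,0}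
  have := @_root_.FiniteGaloisIntermediateField.adjoin.eq_1.{0,0}
  have := @_root_.InfiniteGalois.GaloisCoinsertionIntermediateFieldSubgroup.eq_1.{0,0}
  have := @_root_.InfiniteGalois.GaloisCoinsertionIntermediateFieldSubgroup.congr_simp.{0,0}
  have := @_root_.InfiniteGalois.GaloisInsertionIntermediateFieldClosedSubgroup.eq_1.{0,0}
  have := @_root_.InfiniteGalois.normalAutEquivQuotient.eq_1.{0,0}
  have := @_root_.InfiniteGalois.normalAutEquivQuotient.congr_simp.{0,0}
  have := @_root_.InfiniteGalois.IntermediateFieldEquivClosedSubgroup.congr_simp.{0,0}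
  have := @_root_.LinearMap.BilinForm.dualSubmodule.eq_1.{0,0,0}
  have := @_root_.LinearMap.BilinForm.dualSubmoduleParing.eq_1.{0,0,0}
  have := @_root_.LinearMap.BilinForm.dualSubmoduleToDual.eq_1.{0,0,0}
  have := @_root_.IsGaloisGroup.mulEquivCongr.eq_1.{0,0,0,0}
  have := @_root_.IsGaloisGroup.quotientMulEquiv.eq_1.{0,0,0,0,0}
  have := @_root_.IsGaloisGroup.mulEquivCongr'.eq_1.{0,0,0,0}
  have := @_root_.IsGaloisGroup.mulEquivCongr'.congr_simp.{0,0,0,0}
  have := @_root_.IsGaloisGroup.intermediateFieldEquivSubgroup.congr_simp.{0,0,0}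
  have := @_root_.ZMod.valMinAbs.eq_def
  have := @_root_.ZMod.valMinAbs.eq_1
  have := @_root_.FiniteField.frobeniusAlgEquivOfAlgebraic.eq_1.{0,0}
  have := @_root_.FiniteField.frobeniusAlgHom.eq_1.{0,0}
  have := @_root_.Subfield.fintypeBot.eq_1.{0}
  have := @_root_.Subfield.fintypeBot.congr_simp.{0}
  trivial

theorem r15_10 : True := by
  have := @_root_.FiniteField.frobeniusAlgEquiv.eq_1.{0,0}
  have := @_root_.FiniteField.frobeniusAlgEquiv.congr_simp.{0,0}
  have := @_root_.Int.natAbsHom.eq_1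
  have := @_root_.Int.quotientSpanNatEquivZMod.eq_1
  have := @_root_.ZMod.equivPi.eq_1
  have := @_root_.ZMod.equivPi.congr_simp
  have := @_root_.Int.quotientSpanEquivZMod.eq_1
  have := @_root_.ZMod.prodEquivPi.eq_1.{0}
  have := @_root_.ZMod.prodEquivPi.congr_simp.{0}
  have := @_root_.Submodule.quotientPiLift.eq_1.{0,0,0,0}
  have := @_root_.Submodule.quotientPi.eq_1.{0,0,0}
  have := @_root_.Submodule.quotientEquivPiZMod.eq_1.{0,0}
  have := @_root_.Submodule.quotientEquivPiSpan.eq_1.{0,0,0}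
  have := @_root_.Submodule.quotientEquivDirectSum.eq_1.{0,0,0,0}
  have := @_root_.Ideal.absNorm.eq_1.{0}
  have := @_root_.AddSubmonoid.leftNegEquiv.congr_simp.{0}
  have := @_root_.List.TProd.piEquivTProd.eq_1.{0,0}
  have := @_root_.List.TProd.piEquivTProd.congr_simp.{0,0}
  have := @_root_.List.TProd.eq_1.{0,0}
  have := @_root_.IterateMulAct.val.eq_1.{0}
  have := @_root_.IterateAddAct.val.eq_1.{0}
  have := @_root_.memPartition.eq_def.{0}
  have := @_root_.memPartition.eq_1.{0}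
  have := @_root_.Subgroup.IsComplement'.QuotientMulEquiv.eq_1.{0}
  have := @_root_.Subgroup.IsComplement'.QuotientMulEquiv.congr_simp.{0}
  have := @_root_.AddSubgroup.IsComplement.rightQuotientEquiv.congr_simp.{0}
  have := @_root_.AddSubgroup.IsComplement.leftQuotientEquiv.congr_simp.{0}
  have := @_root_.Subgroup.IsComplement.toLeftFun.congr_simp.{0}
  have := @_root_.Subgroup.IsComplement.rightQuotientEquiv.congr_simp.{0}
  have := @_root_.AddSubgroup.IsComplement.toLeftFun.congr_simp.{0}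
  trivial

theorem r15_11 : True := by
  have := @_root_.AddSubgroup.IsComplement.toRightFun.congr_simp.{0}
  have := @_root_.Complex.ofRealHom.eq_1
  have := @_root_.Complex.reAddGroupHom.eq_1
  have := @_root_.Complex.re.eq_1
  have := @_root_.Complex.im.eq_1
  have := @_root_.Complex.I_pow_eq_pow_mod'.eq_1
  have := @_root_.Complex.SMul.instSMulRealComplex.eq_1.{0}
  have := @_root_.Complex.imAddGroupHom.eq_1
  have := @_root_.Complex.equivRealProdAddHom.eq_1
  have := @_root_.Complex.I.eq_1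
  have := @_root_.StarMulEquiv.refl.eq_1.{0}
  have := @_root_.StarMonoidHom.comp.eq_1.{0,0,0}
  have := @_root_.StarMulEquiv.toMulEquiv.eq_1.{0,0}
  have := @_root_.StarMonoidHom.ofClass.eq_1.{0,0,0}
  have := @_root_.StarMonoidHom.ofClass.congr_simp.{0,0,0}
  have := @_root_.StarMulEquiv.ofBijective.eq_1.{0,0}
  have := @_root_.StarMulEquiv.ofBijective.congr_simp.{0,0}
  have := @_root_.StarMulEquiv.trans.eq_1.{0,0,0}
  have := @_root_.StarMulEquiv.symm.eq_1.{0,0}
  have := @_root_.StarMulEquiv.ofClass.eq_1.{0,0,0}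
  have := @_root_.StarMulEquiv.ofClass.congr_simp.{0,0,0}
  have := @_root_.StarMulEquiv.ofStarMonoidHom.eq_1.{0,0}
  have := @_root_.StarMulEquiv.ofStarMonoidHom.congr_simp.{0,0}
  have := @_root_.StarMonoidHom.toMonoidHom.eq_1.{0,0}
  have := @_root_.StarMonoidHom.copy.eq_1.{0,0}
  have := @_root_.StarMonoidHom.copy.congr_simp.{0,0}
  have := @_root_.StarMonoidHom.id.eq_1.{0}
  have := @_root_.StarMulEquiv.toStarMonoidHom.eq_1.{0,0}
  have := @_root_.Unitary.map.eq_1.{0,0}
  have := @_root_.Unitary.mapEquiv.eq_1.{0,0}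
  trivial

theorem r15_12 : True := by
  have := @_root_.unitarySubgroup.eq_1.{0}
  have := @_root_.Unitary.toUnits.eq_1.{0}
  have := @_root_.unitarySubgroupUnitsEquiv.eq_1.{0}
  have := @_root_.Complex.reLm.eq_1
  have := @_root_.Complex.basisOneI.eq_1
  have := @_root_.skewAdjoint.negISMul.eq_1.{0}
  have := @_root_.Complex.lift.eq_1.{0}
  have := @_root_.Complex.imLm.eq_1
  have := @_root_.Complex.ofRealAm.eq_1
  have := @_root_.Complex.conjAe.eq_1
  have := @_root_.Complex.selfAdjointEquiv.eq_1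
  have := @_root_.Complex.equivRealProdLm.eq_1
  have := @_root_.Nat.nthRoot.eq_def
  have := @_root_.AffineMap.fst.eq_1.{0,0,0,0,0}
  have := @_root_.AffineMap.comp.eq_1.{0,0,0,0,0,0,0}
  have := @_root_.AffineMap.const.eq_1.{0,0,0,0,0}
  have := @_root_.LinearMap.toAffineMap.eq_1.{0,0,0}
  have := @_root_.AffineMap.toFun.eq_1.{0,0,0,0,0}
  have := @_root_.AffineMap.toConstProdLinearMap.eq_1.{0,0,0,0}
  have := @_root_.AffineMap.linearHom.eq_1.{0,0,0}
  have := @_root_.AffineMap.mk'.eq_1.{0,0,0,0,0}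
  have := @_root_.AffineMap.id.eq_1.{0,0,0}
  have := @_root_.AffineMap.homothetyAffine.eq_1.{0,0,0}
  have := @_root_.AffineMap.prod.eq_1.{0,0,0,0,0,0,0}
  have := @_root_.AffineMap.linear.eq_1.{0,0,0,0,0}
  have := @_root_.AffineMap.proj.eq_1.{0,0,0,0}
  have := @_root_.AffineMap.pi.eq_1.{0,0,0,0,0,0}
  have := @_root_.AffineMap.prodMap.eq_1.{0,0,0,0,0,0,0,0,0}
  have := @_root_.AffineMap.homothetyHom.eq_1.{0,0,0}
  have := @_root_.AffineMap.snd.eq_1.{0,0,0,0,0}
  trivial

theorem r15_13 : True := by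
  have := @_root_.AffineEquiv.ofLinearEquiv.eq_1.{0,0,0}
  have := @_root_.AffineEquiv.trans.eq_1.{0,0,0,0,0,0,0}
  have := @_root_.AffineEquiv.linear.eq_1.{0,0,0,0,0}
  have := @_root_.AffineEquiv.equivUnitsAffineMap.eq_1.{0,0,0}
  have := @_root_.AffineEquiv.ofBijective.eq_1.{0,0,0,0,0}
  have := @_root_.AffineEquiv.ofBijective.congr_simp.{0,0,0,0,0}
  have := @_root_.AffineEquiv.constVAdd.eq_1.{0,0,0}
  have := @_root_.LinearEquiv.toAffineEquiv.eq_1.{0,0,0}
  have := @_root_.AffineEquiv.congrLeft.eq_1.{0,0,0,0,0,0,0,0}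
  have := @_root_.AffineEquiv.arrowCongrₗ.eq_1.{0,0,0,0,0,0,0}
  have := @_root_.AffineEquiv.constVSub.eq_1.{0,0,0}
  have := @_root_.AffineEquiv.arrowCongrEquiv.eq_1.{0,0,0,0,0,0,0,0,0}
  have := @_root_.AffineEquiv.constVAddHom.eq_1.{0,0,0}
  have := @_root_.AffineEquiv.pointReflection.eq_1.{0,0,0}
  have := @_root_.AffineEquiv.refl.eq_1.{0,0,0}
  have := @_root_.AffineEquiv.homothetyUnitsMulHom.eq_1.{0,0,0}
  have := @_root_.AffineEquiv.prodComm.eq_1.{0,0,0,0,0}
  have := @_root_.AffineEquiv.toAffineMap.eq_1.{0,0,0,0,0}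
  have := @_root_.AffineEquiv.vaddConst.eq_1.{0,0,0}
  have := @_root_.AffineEquiv.toEquiv.eq_1.{0,0,0,0,0}
  have := @_root_.AffineEquiv.prodAssoc.eq_1.{0,0,0,0,0,0,0}
  have := @_root_.AffineEquiv.arrowCongr.eq_1.{0,0,0,0,0,0,0,0,0}
  have := @_root_.AffineEquiv.symm.eq_1.{0,0,0,0,0}
  have := @_root_.AffineEquiv.congrLeftₗ.eq_1.{0,0,0,0,0,0,0}
  have := @_root_.AffineEquiv.linearHom.eq_1.{0,0,0}
  have := @_root_.AffineEquiv.prodCongr.eq_1.{0,0,0,0,0,0,0,0,0}
  have := @_root_.AffineEquiv.mk'.eq_1.{0,0,0,0,0}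
  have := @_root_.AffineEquiv.mk'.congr_simp.{0,0,0,0,0}
  have := @_root_.AddMonoidHom.ofMapMidpoint.eq_1.{0,0,0,0}
  have := @_root_.Module.Ray.someVector.eq_1.{0,0}
  trivial

theorem r15_14 : True := by
  have := @_root_.RayVector.mapLinearEquiv.eq_1.{0,0,0}
  have := @_root_.RayVector.equiv.eq_1.{0,0}
  have := @_root_.rayOfNeZero.eq_1.{0,0}
  have := @_root_.RayVector.eq_1.{0,0}
  have := @_root_.Module.Ray.eq_1.{0,0}
  have := @_root_.Module.Ray.congr_simp.{0,0}
  have := @_root_.Module.Ray.someRayVector.eq_1.{0,0}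
  have := @_root_.Module.Ray.map.eq_1.{0,0,0}
  have := @_root_.AffineSubspace.mk.congr_simp.{0,0,0}
  have := @_root_.AffineSubspace.mk'.eq_1.{0,0,0}
  have := @_root_.AffineSubspace.gi.eq_1.{0,0,0}
  have := @_root_.AffineSubspace.directionOfNonempty.congr_simp.{0,0,0}
  have := @_root_.affineSpan.eq_1.{0,0,0}
  have := @_root_.AffineSubspace.carrier.eq_1.{0,0,0}
  have := @_root_.Submodule.toAffineSubspace.eq_1.{0,0}
  have := @_root_.AffineEquiv.ofEq.eq_1.{0,0,0}
  have := @_root_.AffineEquiv.ofEq.congr_simp.{0,0,0}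
  have := @_root_.AffineSubspace.subtype.eq_1.{0,0,0}
  have := @_root_.AffineSubspace.comap.eq_1.{0,0,0,0,0}
  have := @_root_.AffineSubspace.inclusion.eq_1.{0,0,0}
  have := @_root_.AffineSubspace.map.eq_1.{0,0,0,0,0}
  have := @_root_.AffineSubspace.Parallel.eq_1.{0,0,0}
  have := @_root_.AffineSubspace.topEquiv.eq_1.{0,0,0}
  have := @_root_.AffineSubspace.gciMapComap.eq_1.{0,0,0,0,0}
  have := @_root_.AffineSubspace.gciMapComap.congr_simp.{0,0,0,0,0}
  have := @_root_.AffineSubspace.prod.eq_1.{0,0,0,0,0}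
  have := @_root_.Finset.affineCombinationSingleWeights.congr_simp.{0,0}
  have := @_root_.AffineMap.weightedVSubOfPoint.eq_1.{0,0,0,0}
  have := @_root_.Finset.centroidWeightsIndicator.eq_1.{0,0}
  have := @_root_.AffineSubspace.pointwiseSMul.eq_1.{0,0,0}
  trivial

theorem r15_15 : True := by
  have := @_root_.AffineSubspace.pointwiseSMul.congr_simp.{0,0,0}
  have := @_root_.AffineSubspace.mulAction.eq_1.{0,0,0}
  have := @_root_.AffineSubspace.mulAction.congr_simp.{0,0,0}
  have := @_root_.AffineSubspace.pointwiseVAdd.eq_1.{0,0,0}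
  have := @_root_.AffineSubspace.pointwiseAddAction.eq_1.{0,0,0}
  have := @_root_.AffineBasis.mk.congr_simp.{0,0,0,0}
  have := @_root_.AffineBasis.reindex.eq_1.{0,0,0,0,0}
  have := @_root_.AffineBasis.toFun.eq_1.{0,0,0,0}
  have := @_root_.AffineMap.restrict.eq_1.{0,0,0,0,0}
  have := @_root_.AffineEquiv.affineSubspaceMap.eq_1.{0,0,0,0,0}
  trivial

end CL.BaseAux
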