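import Cfsg.Agent.Base.Imports

/-! On-demand lemmas of Prelude and Mathlib definitions, produced once here so that no other file holds a copy. -/

set_option linter.all false

namespace CL.BaseAux

theorem r16_0 : True := by
  have := @_root_.Affine.Triangle.eq_1.{0,0,0}
  have := @_root_.Affine.Simplex.mkOfPoint.eq_1.{0,0,0}
  have := @_root_.Affine.Simplex.map.eq_1.{0,0,0,0,0}
  have := @_root_.Affine.Simplex.restrict.eq_1.{0,0,0}
  have := @_root_.Affine.Simplex.points.eq_1.{0,0,0}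
  have := @_root_.Equiv.codRestrict.eq_1.{0,0}
  have := @_root_.Equiv.uniqueEmbeddingEquivResult.eq_1.{0,0}
  have := @_root_.Equiv.prodEmbeddingDisjointEquivSigmaEmbeddingRestricted.eq_1.{0,0,0}
  have := @_root_.Equiv.sumEmbeddingEquivProdEmbeddingDisjoint.eq_1.{0,0,0}
  have := @_root_.Equiv.sumEmbeddingEquivSigmaEmbeddingRestricted.eq_1.{0,0,0}
  have := @_root_.Matrix.unitaryGroup.eq_1.{0,0}
  have := @_root_.Matrix.specialOrthogonalGroup.eq_1.{0,0}
  have := @_root_.Matrix.UnitaryGroup.embeddingGL.eq_1.{0,0}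
  have := @_root_.Matrix.orthogonalGroup.eq_1.{0,0}
  have := @_root_.Matrix.UnitaryGroup.map_star.eq_1.{0,0}
  have := @_root_.Matrix.UnitaryGroup.toLin'.eq_1.{0,0}
  have := @_root_.Matrix.UnitaryGroup.transpose.eq_1.{0,0}
  have := @_root_.Matrix.specialUnitaryGroup.eq_1.{0,0}
  have := @_root_.Matrix.UnitaryGroup.toLinearEquiv.eq_1.{0,0}
  have := @_root_.Matrix.UnitaryGroup.toGL.eq_1.{0,0}
  have := @_root_.IsZLattice.mk.congr_simp.{0,0}
  have := @_root_.ZSpan.quotientEquiv.eq_1.{0,0,0}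
  have := @_root_.ZSpan.quotientEquiv.congr_simp.{0,0,0}
  have := @_root_.IsZLattice.basis.eq_1.{0}
  have := @_root_.IsZLattice.basis.congr_simp.{0}
  have := @_root_.ZLattice.comap.eq_1.{0,0,0}
  have := @_root_.ZSpan.fractRestrict.congr_simp.{0,0,0}
  have := @_root_.ZLattice.comap_equiv.eq_1.{0,0,0}
  have := @_root_.Module.Oriented.congr_simp.{0,0,0}
  have := @_root_.Orientation.someBasis.eq_1.{0,0,0}
  trivial

theorem r16_1 : True := by
  have := @_root_.Orientation.someBasis.congr_simp.{0,0,0}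
  have := @_root_.Orientation.eq_1.{0,0,0}
  have := @_root_.Orientation.congr_simp.{0,0,0}
  have := @_root_.Module.Oriented.positiveOrientation.eq_1.{0,0,0}
  have := @_root_.ZLattice.covolume.eq_1.{0}
  have := @_root_.ZLattice.normBound.eq_1.{0,0}
  have := @_root_.ZLattice.tsumNormRPowBound.eq_1.{0}
  have := @_root_.ZLattice.tsumNormRPowBound.congr_simp.{0}
  have := @_root_.MonoidAlgebra.instSMulForallOfIsLeftCancelSMulOfSMulWithZero.congr_simp.{0,0,0,0}
  have := @_root_.AddMonoidAlgebra.instVAddForallOfIsLeftCancelVAddOfVAddWithZero.congr_simp.{0,0,0,0}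
  have := @_root_.addMonoidAlgebraAddEquivDirectSum.eq_1.{0,0}
  have := @_root_.addMonoidAlgebraAlgEquivDirectSum.eq_1.{0,0,0}
  have := @_root_.addMonoidAlgebraEquivDirectSum.eq_1.{0,0}
  have := @_root_.AddMonoidAlgebra.toDirectSum.eq_1.{0,0}
  have := @_root_.addMonoidAlgebraRingEquivDirectSum.eq_1.{0,0}
  have := @_root_.List.decidableGetDNilNe.eq_1.{0}
  have := @_root_.List.toFinsupp.eq_1.{0}
  have := @_root_.Multiset.multinomial.eq_1
  have := @_root_.Multiset.evalMultinomial.eq_1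
  have := @_root_.List.multinomial.eq_1
  have := @_root_.MonomialOrder.syn.eq_1.{0,0}
  have := @_root_.MonomialOrder.lex.eq_1.{0}
  have := @_root_.MonomialOrder.acm.eq_1.{0,0}
  have := @_root_.MonomialOrder.mk.congr_simp.{0,0}
  have := @_root_.MonomialOrder.toWithBotSyn.eq_1.{0,0}
  have := @_root_.MonomialOrder.lo.eq_1.{0,0}
  have := @_root_.MonomialOrder.toSyn.eq_1.{0,0}
  have := @_root_.MonomialOrder.degLex.eq_1.{0}
  have := @_root_.toDegLex.eq_1.{0}
  have := @_root_.DegLex.rec.eq_1.{0,0}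
  trivial

theorem r16_2 : True := by
  have := @_root_.Finsupp.DegLex.eq_1.{0}
  have := @_root_.DegLex.eq_1.{0}
  have := @_root_.ofDegLex.eq_1.{0}
  have := @_root_.Sym.e2.eq_1
  have := @_root_.Sym.e1.eq_1
  have := @_root_.Nat.MinSqFacProp.eq_def
  have := @_root_.Nat.minSqFac.eq_1
  have := @_root_.Nat.Primes.prodNatEquiv.eq_1
  have := @_root_.Finset.addAntidiagonal.eq_1.{0}
  have := @_root_.Finset.addAntidiagonal.congr_simp.{0}
  have := @_root_.Subring.orderedSubtype.eq_1.{0}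
  have := @_root_.conjnegRingHom.eq_1.{0,0}
  have := @_root_.conjneg.eq_1.{0,0}
  have := @_root_.Polynomial.basisMonomials.eq_1.{0}
  have := @_root_.Polynomial.evalEvalRingHom.eq_1.{0}
  have := @_root_.Polynomial.Bivariate.swap.eq_1.{0}
  have := @_root_.Polynomial.CC.eq_1.{0}
  have := @_root_.AdjoinRoot.evalEval.congr_simp.{0}
  have := @_root_.Polynomial.aevalAeval.eq_1.{0,0}
  have := @_root_.Polynomial.IsMonicOfDegree.mk.congr_simp.{0}
  have := @_root_.DenomsClearable.eq_1.{0,0}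
  have := @_root_.Finsupp.fun₀.eq_1
  have := @_root_.Finsupp.fun₀.matchAlts.eq_1
  have := @_root_.Finsupp.fun₀.formatter.eq_1
  have := @_root_.Finsupp.fun₀.matchAlts.formatter.eq_1
  have := @_root_.Finsupp.fun₀.parenthesizer.eq_1
  have := @_root_.Finsupp.Internal.elabSingle₀.eq_1
  have := @_root_.Finsupp.Internal.elabUpdate₀.eq_1
  have := @_root_.Finsupp.fun₀.matchAlts.parenthesizer.eq_1
  have := @_root_.Polynomial.homogenizeLM.eq_1.{0}
  trivial

theorem r16_3 : True := by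
  have := @_root_.PolynomialModule.polynomialTensorProductLEquivPolynomialModule.eq_1.{0,0}
  have := @_root_.Polynomial.smeval.linearMap.eq_1.{0,0}
  have := @_root_.Polynomial.sumIDeriv.eq_1.{0}
  have := @_root_.Polynomial.IsUnitTrinomial.eq_1
  have := @_root_.CentroidHom.centerToCentroid.eq_1.{0}
  have := @_root_.CentroidHom.toEnd.eq_1.{0}
  have := @_root_.CentroidHomClass.mk.congr_simp.{0,0}
  have := @_root_.CentroidHom.comp.eq_1.{0}
  have := @_root_.CentroidHom.id.eq_1.{0}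
  have := @_root_.CentroidHom.copy.eq_1.{0}
  have := @_root_.CentroidHom.copy.congr_simp.{0}
  have := @_root_.CentroidHom.centerToCentroidCenter.eq_1.{0}
  have := @_root_.Module.toCentroidHom.eq_1.{0,0}
  have := @_root_.Module.toCentroidHom.congr_simp.{0,0}
  have := @_root_.CentroidHom.toAddMonoidHom.eq_1.{0}
  have := @_root_.CentroidHom.centerIsoCentroid.eq_1.{0}
  have := @_root_.CentroidHom.commRing.eq_1.{0}
  have := @_root_.CentroidHom.commRing.congr_simp.{0}
  have := @_root_.CentroidHom.toEndRingHom.eq_1.{0}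
  have := @_root_.AddSubsemigroup.sumNonzeroSq.eq_1.{0}
  have := @_root_.IsSumNonzeroSq.sq.congr_simp.{0}
  have := @_root_.IsSumNonzeroSq.sq_add.congr_simp.{0}
  have := @_root_.IsFormallyReal.mk.congr_simp.{0}
  have := @_root_.Set.hasDistribNeg.eq_1.{0}
  have := @_root_.Finset.distribNeg.eq_1.{0}
  have := @_root_.IsSemireal.mk.congr_simp.{0}
  have := @_root_.AddSubgroup.mul.eq_1.{0}
  have := @_root_.Polynomial.int.eq_1.{0}
  have := @_root_.Polynomial.int.congr_simp.{0}
  have := @_root_.IsCHSHTuple.mk.congr_simp.{0}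
  trivial

theorem r16_4 : True := by
  have := @_root_.SubStarSemigroup.toSubsemigroup.eq_1.{0}
  have := @_root_.NonUnitalStarSubsemiring.toNonUnitalSubsemiring.eq_1.{0}
  have := @_root_.NonUnitalStarSubsemiring.copy.eq_1.{0}
  have := @_root_.NonUnitalStarSubsemiring.copy.congr_simp.{0}
  have := @_root_.NonUnitalStarSubsemiring.mk.congr_simp.{0}
  have := @_root_.SubStarSemigroup.mk.congr_simp.{0}
  have := @_root_.NonUnitalStarSubsemiring.ofClass.eq_1.{0,0}
  have := @_root_.NonUnitalStarSubsemiring.ofClass.congr_simp.{0,0}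
  have := @_root_.NonUnitalStarSubsemiring.center.eq_1.{0}
  have := @_root_.StarSubsemiring.toSubsemiring.eq_1.{0}
  have := @_root_.StarSubsemiring.ofClass.eq_1.{0,0}
  have := @_root_.StarSubsemiring.ofClass.congr_simp.{0,0}
  have := @_root_.StarSubsemiring.center.eq_1.{0}
  have := @_root_.SubStarSemigroup.center.eq_1.{0}
  have := @_root_.StarSubsemiring.copy.eq_1.{0}
  have := @_root_.StarSubsemiring.copy.congr_simp.{0}
  have := @_root_.StarSubsemiring.mk.congr_simp.{0}
  have := @_root_.CentroidHom.starCenterToCentroidCenter.eq_1.{0}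
  have := @_root_.CentroidHom.starRingOfCommCentroidHom.eq_1.{0}
  have := @_root_.CentroidHom.starRingOfCommCentroidHom.congr_simp.{0}
  have := @_root_.CentroidHom.starCenterIsoCentroid.eq_1.{0}
  have := @_root_.CentroidHom.centerStarEmbedding.eq_1.{0}
  have := @_root_.CentroidHom.starCenterToCentroid.eq_1.{0}
  have := @_root_.FreeAlgebra.starHom.eq_1.{0,0}
  have := @_root_.RingQuot.starRing.eq_1.{0}
  have := @_root_.RingQuot.starRing.congr_simp.{0}
  have := @_root_.Equiv.involutiveStar.eq_1.{0,0}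
  have := @_root_.Equiv.star.eq_1.{0,0}
  have := @_root_.Equiv.starAddMonoid.eq_1.{0,0}
  have := @_root_.Equiv.starMul.eq_1.{0,0}
  trivial

theorem r16_5 : True := by
  have := @_root_.Equiv.starRing.eq_1.{0,0}
  have := @_root_.Unitary.conjStarAlgAut.eq_1.{0,0}
  have := @_root_.Function.Coequalizer.eq_1.{0,0}
  have := @_root_.Function.Coequalizer.mk.eq_1.{0,0}
  have := @_root_.Function.Coequalizer.desc.eq_1.{0,0,0}
  have := @_root_.Function.Coequalizer.desc.congr_simp.{0,0,0}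
  have := @_root_.Ideal.FiniteHeight.mk.congr_simp.{0}
  have := @_root_.Ideal.height.eq_1.{0}
  have := @_root_.Ideal.quotientEquivPiSpan.eq_1.{0,0,0}
  have := @_root_.Ideal.quotientEquivPiZMod.eq_1.{0,0}
  have := @_root_.Ideal.quotientEquivDirectSum.eq_1.{0,0,0,0}
  have := @_root_.Ideal.quotientEquivDirectSum.congr_simp.{0,0,0,0}
  have := @_root_.Nat.evenOddRec.eq_1.{0}
  have := @_root_.Nat.evenOddStrongRec.eq_1.{0}
  have := @_root_.Ideal.IsOka.mk.congr_simp.{0}
  have := @_root_.LinearOrderedCommGroup.multiplicative_int_orderMonoidIso_of_isLeast_one_lt.eq_1.{0}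
  have := @_root_.LinearOrderedCommGroup.multiplicative_int_orderMonoidIso_of_isLeast_one_lt.congr_simp.{0}
  have := @_root_.LinearOrderedCommGroup.closure_equiv_closure.congr_simp.{0,0}
  have := @_root_.LinearOrderedAddCommGroup.int_orderAddMonoidIso_of_isLeast_pos.eq_1.{0}
  have := @_root_.LinearOrderedAddCommGroup.int_orderAddMonoidIso_of_isLeast_pos.congr_simp.{0}
  have := @_root_.LinearOrderedAddCommGroup.closure_equiv_closure.congr_simp.{0,0}
  have := @_root_.Finset.finsupp.eq_1.{0,0}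
  have := @_root_.Finsupp.rangeIcc.eq_1.{0,0}
  have := @_root_.Finsupp.rangeSingleton.eq_1.{0,0}
  have := @_root_.Ideal.tensorCotangentEquiv.eq_1.{0,0,0}
  have := @_root_.Ideal.tensorCotangentHom.eq_1.{0,0,0}
  have := @_root_.GradedEquivLike.mk.congr_simp.{0,0,0,0,0,0}
  have := @_root_.GradedFunLike.mk.congr_simp.{0,0,0,0,0,0}
  have := @_root_.Graded.equiv.eq_1.{0,0,0,0,0,0}
  have := @_root_.Graded.equiv.congr_simp.{0,0,0,0,0,0}
  trivial

theorem r16_6 : True := by
  have := @_root_.Graded.subtypeMap.eq_1.{0,0,0,0,0,0}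
  have := @_root_.Graded.subtypeMap.congr_simp.{0,0,0,0,0,0}
  have := @_root_.Affine.Simplex.medial.eq_1.{0,0,0}
  have := @_root_.Matrix.planeConformalMatrix.eq_1.{0}
  have := @_root_.Matrix.ProjectiveSpecialLinearGroup.eq_1.{0,0}
  have := @_root_.Matrix.ProjectiveSpecialLinearGroup.congr_simp.{0,0}
  have := @_root_.Matrix.ProjGenLinGroup.eq_1.{0,0}
  have := @_root_.Matrix.ProjGenLinGroup.congr_simp.{0,0}
  have := @_root_.Matrix.ProjectiveSpecialLinearGroup.toPGL.eq_1.{0,0}
  have := @_root_.Matrix.SpecialLinearGroup.toPGL.eq_1.{0,0}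
  have := @_root_.Matrix.ProjGenLinGroup.mulActionOfGL.eq_1.{0,0,0}
  have := @_root_.Matrix.ProjGenLinGroup.mulActionOfGL.congr_simp.{0,0,0}
  have := @_root_.Matrix.ProjGenLinGroup.mk.eq_1.{0,0}
  have := @_root_.Matrix.ProjectiveSpecialLinearGroup.isoPSLOfAlgClosed.eq_1.{0,0}
  have := @_root_.Matrix.ProjectiveSpecialLinearGroup.isoPSLOfAlgClosed.congr_simp.{0,0}
  have := @_root_.Matrix.ProjGenLinGroup.lift.eq_1.{0,0,0}
  have := @_root_.Matrix.ProjGenLinGroup.lift.congr_simp.{0,0,0}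
  have := @_root_.Matrix.ProjectiveSpecialLinearGroup.isoPSLOfAlgClosedOfNonempty.eq_1.{0,0}
  have := @_root_.Matrix.ProjectiveSpecialLinearGroup.isoPSLOfAlgClosedOfNonempty.congr_simp.{0,0}
  have := @_root_.Matrix.ProjGenLinGroup.signDet.eq_1.{0,0}
  have := @_root_.Matrix.ProjGenLinGroup.signDet.congr_simp.{0,0}
  have := @_root_.Matrix.ProjGenLinGroup.map.eq_1.{0,0,0}
  have := @_root_.Matrix.GeneralLinearGroup.IsElliptic.eq_1.{0}
  have := @_root_.Matrix.GeneralLinearGroup.upperRightHom.eq_1.{0}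
  have := @_root_.Matrix.GeneralLinearGroup.IsHyperbolic.eq_1.{0}
  have := @_root_.List.Triplewise.cons.congr_simp.{0}
  have := @_root_.Matrix.permMatrixHom.eq_1.{0,0}
  have := @_root_.SimpleGraph.mk'.eq_1.{0}
  have := @_root_.SimpleGraph.incidenceSetEquivNeighborSet.eq_1.{0}
  have := @_root_.aesop_graph?.eq_1
  trivial

theorem r16_7 : True := by
  have := @_root_.SimpleGraph.completeGraph.eq_1.{0}
  have := @_root_.SimpleGraph.IsSubgraph.eq_1.{0}
  have := @_root_.SimpleGraph.edgeSet.eq_1.{0}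
  have := @_root_.SimpleGraph.emptyGraph.eq_1.{0}
  have := @_root_.SimpleGraph.support.eq_1.{0}
  have := @_root_.aesop_graph.eq_1
  have := @_root_.SimpleGraph.fromEdgeSet.eq_1.{0}
  have := @_root_.aesop_graph_nonterminal.eq_1
  have := @_root_.SimpleGraph.Adj.eq_1.{0}
  have := @_root_.completeBipartiteGraph.eq_1.{0,0}
  have := @_root_.Tuple.graphEquiv₁.eq_1.{0}
  have := @_root_.Tuple.graphEquiv₂.eq_1.{0}
  have := @_root_.IsPrimitiveRoot.mk.congr_simp.{0}
  have := @_root_.IsPrimitiveRoot.primitiveRootsPowEquiv.eq_1.{0}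
  have := @_root_.IsPrimitiveRoot.primitiveRootsPowEquiv.congr_simp.{0}
  have := @_root_.IsPrimitiveRoot.toRootsOfUnity.eq_1.{0}
  have := @_root_.IsPrimitiveRoot.primitiveRootsPowEquivOfCoprime.eq_1.{0}
  have := @_root_.IsPrimitiveRoot.primitiveRootsPowEquivOfCoprime.congr_simp.{0}
  have := @_root_.rootsOfUnityEquivOfPrimitiveRoots.eq_1.{0,0,0}
  have := @_root_.IsPrimitiveRoot.autToPow.eq_1.{0,0}
  have := @_root_.IsAbelianGalois.mk.congr_simp.{0,0}
  have := @_root_.FiniteField.algEquivOfCardEq.eq_1.{0,0}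
  have := @_root_.FiniteField.algEquivOfCardEq.congr_simp.{0,0}
  have := @_root_.GaloisField.eq_1
  have := @_root_.GaloisField.algEquivGaloisField.eq_1.{0}
  have := @_root_.GaloisField.algEquivGaloisField.congr_simp.{0}
  have := @_root_.GaloisField.algEquivGaloisFieldOfFintype.eq_1.{0}
  have := @_root_.GaloisField.algEquivGaloisFieldOfFintype.congr_simp.{0}
  have := @_root_.GaloisField.equivZmodP.eq_1
  have := @_root_.FiniteField.ringEquivOfCardEq.eq_1.{0,0}
  trivial

theorem r16_8 : True := by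
  have := @_root_.FiniteField.ringEquivOfCardEq.congr_simp.{0,0}
  have := @_root_.ZMod.unitOfIsCoprime.eq_1
  have := @_root_.HasEnoughRootsOfUnity.mk.congr_simp.{0}
  have := @_root_.Module.Basis.mulOpposite.eq_1.{0,0,0}
  have := @_root_.Complex.orientation.eq_1
  have := @_root_.Int.zpowLogGi.eq_1.{0}
  have := @_root_.Int.clogZPowGi.eq_1.{0}
  have := @_root_.SemidirectProduct.equivProd.eq_1.{0,0}
  have := @_root_.SemidirectProduct.inr.eq_1.{0,0}
  have := @_root_.SemidirectProduct.inl.eq_1.{0,0}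
  have := @_root_.SemidirectProduct.right.eq_1.{0,0}
  have := @_root_.instDecidableEqSemidirectProduct.decEq.eq_1.{0,0}
  have := @_root_.SemidirectProduct.mulEquivProd.eq_1.{0,0}
  have := @_root_.SemidirectProduct.mulEquivSubgroup.eq_1.{0}
  have := @_root_.SemidirectProduct.mulEquivSubgroup.congr_simp.{0}
  have := @_root_.SemidirectProduct.congr'.eq_1.{0,0,0,0}
  have := @_root_.SemidirectProduct.left.eq_1.{0,0}
  have := @_root_.SemidirectProduct.congr.eq_1.{0,0,0,0}
  have := @_root_.SemidirectProduct.congr.congr_simp.{0,0,0,0}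
  have := @_root_.SemidirectProduct.monoidHomSubgroup.eq_1.{0}
  have := @_root_.DMatrix.row.eq_1.{0,0}
  have := @_root_.DMatrix.map.eq_1.{0,0,0,0}
  have := @_root_.DMatrix.eq_1.{0,0,0}
  have := @_root_.DMatrix.transpose.eq_1.{0,0,0}
  have := @_root_.DMatrix.col.eq_1.{0,0}
  have := @_root_.AddMonoidHom.mapDMatrix.eq_1.{0,0,0,0}
  have := @_root_.EckmannHilton.addCommMonoid.congr_simp.{0}
  have := @_root_.EckmannHilton.IsUnital.mk.congr_simp.{0}
  have := @_root_.EckmannHilton.commGroup.congr_simp.{0}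
  have := @_root_.EckmannHilton.commMonoid.congr_simp.{0}
  trivial

theorem r16_9 : True := by
  have := @_root_.EckmannHilton.addCommGroup.congr_simp.{0}
  have := @_root_.SimpleGraph.DartAdj.eq_1.{0}
  have := @_root_.SimpleGraph.Dart.symm.eq_1.{0}
  have := @_root_.SimpleGraph.instDecidableEqDart.decEq.eq_1.{0}
  have := @_root_.SimpleGraph.Dart.toProd.eq_1.{0}
  have := @_root_.SimpleGraph.dartOfNeighborSet.eq_1.{0}
  have := @_root_.FunLike.fintype.eq_1.{0,0,0}
  have := @_root_.FunLike.fintype.congr_simp.{0,0,0}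
  have := @_root_.DFunLike.fintype.eq_1.{0,0,0}
  have := @_root_.DFunLike.fintype.congr_simp.{0,0,0}
  have := @_root_.SimpleGraph.completeBipartiteGraphCongr.eq_1.{0,0,0,0}
  have := @_root_.SimpleGraph.Iso.completeGraph.eq_1.{0,0}
  have := @_root_.SimpleGraph.Embedding.mapNeighborSet.eq_1.{0,0}
  have := @_root_.SimpleGraph.completeMultipartiteGraph.eq_1.{0,0}
  have := @_root_.SimpleGraph.Iso.symm.eq_1.{0,0}
  have := @_root_.SimpleGraph.induceHom.eq_1.{0,0}
  have := @_root_.SimpleGraph.Embedding.eq_1.{0,0}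
  have := @_root_.SimpleGraph.Hom.id.eq_1.{0}
  have := @_root_.SimpleGraph.Embedding.toHom.eq_1.{0,0}
  have := @_root_.SimpleGraph.Embedding.spanningCoe.eq_1.{0}
  have := @_root_.SimpleGraph.Hom.map.eq_1.{0,0}
  have := @_root_.SimpleGraph.Hom.map.congr_simp.{0,0}
  have := @_root_.SimpleGraph.spanningCoe.eq_1.{0}
  have := @_root_.SimpleGraph.Embedding.completeGraph.eq_1.{0,0}
  have := @_root_.SimpleGraph.Hom.comap.eq_1.{0,0}
  have := @_root_.SimpleGraph.Embedding.isoInduceRange.eq_1.{0,0}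
  have := @_root_.SimpleGraph.Hom.eq_1.{0,0}
  have := @_root_.SimpleGraph.map.eq_1.{0,0}
  have := @_root_.SimpleGraph.induceUnivIso.eq_1.{0}
  have := @_root_.SimpleGraph.Embedding.refl.eq_1.{0}
  trivial

theorem r16_10 : True := by
  have := @_root_.SimpleGraph.Embedding.map.eq_1.{0,0}
  have := @_root_.SimpleGraph.induceHomOfLE.eq_1.{0}
  have := @_root_.SimpleGraph.Iso.toHom.eq_1.{0,0}
  have := @_root_.SimpleGraph.Embedding.complEquiv.eq_1.{0,0}
  have := @_root_.SimpleGraph.Iso.comap.eq_1.{0,0}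
  have := @_root_.SimpleGraph.Iso.homCongr.eq_1.{0,0,0,0}
  have := @_root_.SimpleGraph.Iso.toEmbedding.eq_1.{0,0}
  have := @_root_.SimpleGraph.Hom.ofLE.eq_1.{0}
  have := @_root_.SimpleGraph.Embedding.mapEdgeSet.eq_1.{0,0}
  have := @_root_.Equiv.simpleGraph.eq_1.{0,0}
  have := @_root_.SimpleGraph.Hom.mapDart.eq_1.{0,0}
  have := @_root_.SimpleGraph.Iso.map.eq_1.{0,0}
  have := @_root_.SimpleGraph.Iso.refl.eq_1.{0}
  have := @_root_.SimpleGraph.overFinIso.eq_1.{0}
  have := @_root_.SimpleGraph.Iso.induce.eq_1.{0,0}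
  have := @_root_.SimpleGraph.Iso.induce.congr_simp.{0,0}
  have := @_root_.SimpleGraph.Embedding.comp.eq_1.{0,0,0}
  have := @_root_.SimpleGraph.Embedding.comap.eq_1.{0,0}
  have := @_root_.SimpleGraph.comap.eq_1.{0,0}
  have := @_root_.SimpleGraph.Iso.mapEdgeSet.eq_1.{0,0}
  have := @_root_.SimpleGraph.Iso.eq_1.{0,0}
  have := @_root_.SimpleGraph.Hom.mapNeighborSet.eq_1.{0,0}
  have := @_root_.SimpleGraph.Iso.comp.eq_1.{0,0,0}
  have := @_root_.SimpleGraph.Embedding.induce.eq_1.{0}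
  have := @_root_.SimpleGraph.induce.eq_1.{0}
  have := @_root_.SimpleGraph.HomClass.eq_1.{0,0,0}
  have := @_root_.SimpleGraph.Hom.comp.eq_1.{0,0,0}
  have := @_root_.SimpleGraph.overFin.eq_1.{0}
  have := @_root_.SimpleGraph.overFin.congr_simp.{0}
  have := @_root_.SimpleGraph.Iso.mapNeighborSet.eq_1.{0,0}
  trivial

theorem r16_11 : True := by
  have := @_root_.SimpleGraph.neighborSetFintype.eq_1.{0}
  have := @_root_.SimpleGraph.LocallyFinite.eq_1.{0}
  have := @_root_.Finpartition.equitabilise.eq_1.{0}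
  have := @_root_.SimpleGraph.IsUniform.eq_1.{0,0}
  have := @_root_.Finpartition.nonuniformWitnesses.eq_1.{0,0}
  have := @_root_.SimpleGraph.regularityReduced.eq_1.{0,0}
  have := @_root_.SimpleGraph.nonuniformWitness.eq_1.{0,0}
  have := @_root_.SimpleGraph.DeleteFar.eq_1.{0,0}
  have := @_root_.SimpleGraph.Subgraph.neighborSet.eq_1.{0}
  have := @_root_.SimpleGraph.Subgraph.edgeSet.eq_1.{0}
  have := @_root_.SimpleGraph.Subgraph.finiteAtOfSubgraph.eq_1.{0}
  have := @_root_.SimpleGraph.Subgraph.finiteAtOfSubgraph.congr_simp.{0}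
  have := @_root_.SimpleGraph.Subgraph.coeInduceIso.eq_1.{0}
  have := @_root_.SimpleGraph.Subgraph.coeInduceIso.congr_simp.{0}
  have := @_root_.SimpleGraph.Subgraph.coeNeighborSetEquiv.eq_1.{0}
  have := @_root_.SimpleGraph.Subgraph.verts.eq_1.{0}
  have := @_root_.SimpleGraph.Subgraph.spanningHom.eq_1.{0}
  have := @_root_.SimpleGraph.Subgraph.IsSpanning.eq_1.{0}
  have := @_root_.SimpleGraph.Subgraph.Adj.eq_1.{0}
  have := @_root_.SimpleGraph.Subgraph.coe.eq_1.{0}
  have := @_root_.SimpleGraph.Subgraph.copy.eq_1.{0}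
  have := @_root_.SimpleGraph.Subgraph.copy.congr_simp.{0}
  have := @_root_.SimpleGraph.Subgraph.hom.eq_1.{0}
  have := @_root_.SimpleGraph.subgraphOfAdj.eq_1.{0}
  have := @_root_.SimpleGraph.Subgraph.induce.eq_1.{0}
  have := @_root_.SimpleGraph.Subgraph.coeDeleteVertsIso.eq_1.{0}
  have := @_root_.SimpleGraph.Subgraph.incidenceSet.eq_1.{0}
  have := @_root_.SimpleGraph.Subgraph.deleteVerts.eq_1.{0}
  have := @_root_.SimpleGraph.Subgraph.inclusion.eq_1.{0}
  have := @_root_.SimpleGraph.Subgraph.inclusion.congr_simp.{0}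
  trivial

theorem r16_12 : True := by
  have := @_root_.SimpleGraph.Subgraph.vert.eq_1.{0}
  have := @_root_.SimpleGraph.Subgraph.vert.congr_simp.{0}
  have := @_root_.SimpleGraph.Subgraph.coeEmbeddingSpanningCoe.eq_1.{0}
  have := @_root_.SimpleGraph.Subgraph.coeSubgraph.eq_1.{0}
  have := @_root_.SimpleGraph.Subgraph.restrict.eq_1.{0}
  have := @_root_.SimpleGraph.Subgraph.spanningCoeEquivCoeOfSpanning.eq_1.{0}
  have := @_root_.SimpleGraph.Subgraph.spanningCoeEquivCoeOfSpanning.congr_simp.{0}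
  have := @_root_.SimpleGraph.Subgraph.topIso.eq_1.{0}
  have := @_root_.SimpleGraph.Subgraph.botIso.eq_1.{0}
  have := @_root_.SimpleGraph.Subgraph.comap.eq_1.{0,0}
  have := @_root_.SimpleGraph.Subgraph.support.eq_1.{0}
  have := @_root_.SimpleGraph.toSubgraph.eq_1.{0}
  have := @_root_.SimpleGraph.Subgraph.deleteEdges.eq_1.{0}
  have := @_root_.SimpleGraph.singletonSubgraph.eq_1.{0}
  have := @_root_.SimpleGraph.Copy.toEmbedding.eq_1.{0,0}
  have := @_root_.SimpleGraph.Copy.mapEdgeSet.eq_1.{0,0}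
  have := @_root_.SimpleGraph.Iso.toCopy.eq_1.{0,0}
  have := @_root_.SimpleGraph.Copy.topEmbedding.eq_1.{0,0}
  have := @_root_.SimpleGraph.IsIndContained.eq_1.{0,0}
  have := @_root_.SimpleGraph.Copy.comp.eq_1.{0,0,0}
  have := @_root_.SimpleGraph.Copy.isoSubgraphMap.eq_1.{0,0}
  have := @_root_.SimpleGraph.Copy.toSubgraph.eq_1.{0,0}
  have := @_root_.SimpleGraph.Copy.isoToSubgraph.eq_1.{0,0}
  have := @_root_.SimpleGraph.Copy.induce.eq_1.{0}
  have := @_root_.SimpleGraph.Copy.mk.congr_simp.{0,0}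
  have := @_root_.SimpleGraph.Copy.id.eq_1.{0}
  have := @_root_.SimpleGraph.Copy.mapNeighborSet.eq_1.{0,0}
  have := @_root_.SimpleGraph.Subgraph.coeCopy.eq_1.{0}
  have := @_root_.SimpleGraph.Copy.toHom.eq_1.{0,0}
  have := @_root_.SimpleGraph.Hom.toCopy.eq_1.{0,0}
  trivial

theorem r16_13 : True := by
  have := @_root_.SimpleGraph.Hom.toCopy.congr_simp.{0,0}
  have := @_root_.SimpleGraph.Copy.bot.eq_1.{0,0}
  have := @_root_.SimpleGraph.Copy.ofLE.eq_1.{0}
  have := @_root_.SimpleGraph.IsContained.eq_1.{0,0}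
  have := @_root_.SimpleGraph.Embedding.toCopy.eq_1.{0,0}
  have := @_root_.SimpleGraph.Walk.nil'.eq_1.{0}
  have := @_root_.SimpleGraph.Walk.ofDarts.eq_def.{0}
  have := @_root_.SimpleGraph.Walk.ofDarts.eq_1.{0}
  have := @_root_.SimpleGraph.Adj.toWalk.eq_1.{0}
  have := @_root_.SimpleGraph.Walk.cons'.eq_1.{0}
  have := @_root_.SimpleGraph.Walk.darts.eq_def.{0}
  have := @_root_.SimpleGraph.Walk.darts.eq_1.{0}
  have := @_root_.SimpleGraph.instDecidableEqWalk.decEq.eq_def.{0}
  have := @_root_.SimpleGraph.instDecidableEqWalk.decEq.eq_1.{0}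
  have := @_root_.SimpleGraph.Walk.notNilRec.eq_def.{0,0}
  have := @_root_.SimpleGraph.Walk.notNilRec.eq_1.{0,0}
  have := @_root_.SimpleGraph.Walk.ofSupport.eq_def.{0}
  have := @_root_.SimpleGraph.Walk.ofSupport.eq_1.{0}
  have := @_root_.SimpleGraph.Walk.snd.eq_1.{0}
  have := @_root_.SimpleGraph.Walk.lastDart.eq_1.{0}
  have := @_root_.SimpleGraph.Walk.firstDart.eq_1.{0}
  have := @_root_.SimpleGraph.Walk.append.eq_def.{0}
  have := @_root_.SimpleGraph.Walk.append.eq_1.{0}
  have := @_root_.SimpleGraph.Walk.induce.eq_def.{0}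
  have := @_root_.SimpleGraph.Walk.induce.eq_1.{0}
  have := @_root_.SimpleGraph.Walk.toDeleteEdges.eq_1.{0}
  have := @_root_.SimpleGraph.Walk.toDeleteEdges.congr_simp.{0}
  have := @_root_.SimpleGraph.Walk.toDeleteEdge.eq_1.{0}
  have := @_root_.SimpleGraph.Walk.toDeleteEdge.congr_simp.{0}
  have := @_root_.SimpleGraph.Walk.mapLe.eq_1.{0}
  trivial

theorem r16_14 : True := by
  have := @_root_.SimpleGraph.Path.reverse.eq_1.{0}
  have := @_root_.SimpleGraph.Walk.IsPath.mk.congr_simp.{0}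
  have := @_root_.SimpleGraph.Walk.IsTrail.mk.congr_simp.{0}
  have := @_root_.SimpleGraph.Walk.IsCycle.mk.congr_simp.{0}
  have := @_root_.SimpleGraph.Path.mapEmbedding.eq_1.{0,0}
  have := @_root_.SimpleGraph.Path.eq_1.{0}
  have := @_root_.SimpleGraph.Walk.cycleBypass.eq_def.{0}
  have := @_root_.SimpleGraph.Walk.cycleBypass.eq_1.{0}
  have := @_root_.SimpleGraph.Path.map.congr_simp.{0,0}
  have := @_root_.SimpleGraph.Path.nil.eq_1.{0}
  have := @_root_.SimpleGraph.Walk.toPath.eq_1.{0}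
  have := @_root_.SimpleGraph.Walk.IsCircuit.mk.congr_simp.{0}
  have := @_root_.SimpleGraph.completeMultipartiteGraph.topEmbedding.eq_1.{0,0}
  have := @_root_.SimpleGraph.topEmbeddingOfNotCliqueFree.eq_1.{0}
  have := @_root_.SimpleGraph.topEmbeddingOfNotCliqueFree.congr_simp.{0}
  have := @_root_.SimpleGraph.IsMaximumClique.mk.congr_simp.{0}
  have := @_root_.SimpleGraph.cliqueSet.eq_1.{0}
  have := @_root_.SimpleGraph.indepSetFinset.eq_1.{0}
  have := @_root_.SimpleGraph.indepSetFinset.congr_simp.{0}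
  have := @_root_.SimpleGraph.IsNIndepSet.mk.congr_simp.{0}
  have := @_root_.SimpleGraph.indepSetSet.eq_1.{0}
  have := @_root_.SimpleGraph.IndepSetFreeOn.eq_1.{0}
  have := @_root_.SimpleGraph.IsClique.eq_1.{0}
  have := @_root_.SimpleGraph.IsNClique.mk.congr_simp.{0}
  have := @_root_.SimpleGraph.IsMaximumIndepSet.mk.congr_simp.{0}
  have := @_root_.SimpleGraph.FarFromTriangleFree.eq_1.{0,0}
  have := @_root_.SimpleGraph.TripartiteFromTriangles.ExplicitDisjoint.mk.congr_simp.{0,0,0}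
  have := @_root_.SimpleGraph.TripartiteFromTriangles.Rel.in₁₂.congr_simp.{0,0,0}
  have := @_root_.SimpleGraph.TripartiteFromTriangles.Rel.in₀₂.congr_simp.{0,0,0}
  have := @_root_.SimpleGraph.TripartiteFromTriangles.Rel.in₀₁.congr_simp.{0,0,0}
  trivial

theorem r16_15 : True := by
  have := @_root_.SimpleGraph.TripartiteFromTriangles.toTriangle.eq_1.{0,0,0}
  have := @_root_.SimpleGraph.TripartiteFromTriangles.Rel.in₂₀.congr_simp.{0,0,0}
  have := @_root_.SimpleGraph.TripartiteFromTriangles.NoAccidental.mk.congr_simp.{0,0,0}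
  have := @_root_.SimpleGraph.TripartiteFromTriangles.Rel.in₂₁.congr_simp.{0,0,0}
  have := @_root_.SimpleGraph.TripartiteFromTriangles.graph.eq_1.{0,0,0}
  have := @_root_.SimpleGraph.TripartiteFromTriangles.Rel.in₁₀.congr_simp.{0,0,0}
  have := @_root_.Cross.lieRing.eq_1.{0}
  have := @_root_.crossProduct.eq_1.{0}
  have := @_root_.Projectivization.eq_1.{0,0}
  have := @_root_.Projectivization.submodule.eq_1.{0,0}
  trivial

end CL.BaseAux
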