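import Cfsg.Agent.Base.Imports

/-! On-demand lemmas of Prelude and Mathlib definitions, produced once here so that no other file holds a copy. -/

set_option linter.all false

namespace CL.BaseAux

theorem r18_0 : True := by
  have := @_root_.Subgroup.transferFocal.congr_simp.{0}
  have := @_root_.AddSubgroup.transferFocal.congr_simp.{0}
  have := @_root_.Group.IsNilpotent.mk.congr_simp.{0}
  have := @_root_.commGroupOfNilpotencyClass.congr_simp.{0}
  have := @_root_.addCommGroupOfNilpotencyClass.congr_simp.{0}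
  have := @_root_.AddSubgroup.lowerCentralSeries.eq_def.{0}
  have := @_root_.AddSubgroup.lowerCentralSeries.eq_1.{0}
  have := @_root_.AddGroup.IsNilpotent.mk.congr_simp.{0}
  have := @_root_.lowerCentralSeries.eq_1.{0}
  have := @_root_.upperCentralSeriesStep.eq_1.{0}
  have := @_root_.upperCentralSeriesStep.congr_simp.{0}
  have := @_root_.Subgroup.lowerCentralSeries.eq_def.{0}
  have := @_root_.Subgroup.lowerCentralSeries.eq_1.{0}
  have := @_root_.upperCentralSeries.eq_1.{0}
  have := @_root_.IsDescendingCentralSeries.eq_1.{0}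
  have := @_root_.IsAscendingCentralSeries.eq_1.{0}
  have := @_root_.Equiv.ofIsFreeGroupEquiv.eq_1.{0,0}
  have := @_root_.Equiv.ofFreeGroupEquiv.eq_1.{0,0}
  have := @_root_.FreeAbelianGroup.basis.eq_1.{0}
  have := @_root_.Equiv.ofFreeAbelianGroupLinearEquiv.eq_1.{0,0}
  have := @_root_.Equiv.ofFreeAbelianGroupEquiv.eq_1.{0,0}
  have := @_root_.IsFreeGroupoid.of.eq_1.{0,0}
  have := @_root_.IsFreeGroupoid.mk.congr_simp.{0,0}
  have := @_root_.IsFreeGroupoid.Generators.eq_1.{0,0}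
  have := @_root_.Group.Generators.val.eq_1.{0,0}
  have := @_root_.Group.Generators.mk.congr_simp.{0,0}
  have := @_root_.Group.Generators.ofSet.eq_1.{0}
  have := @_root_.Group.Generators.ofSet.congr_simp.{0}
  have := @_root_.Group.Generators.reindex.eq_1.{0,0,0}
  have := @_root_.Group.Generators.map.eq_1.{0,0,0}
  trivial

theorem r18_1 : True := by
  have := @_root_.Group.Generators.map.congr_simp.{0,0,0}
  have := @_root_.AddAction.block_stabilizerOrderIso.congr_simp.{0,0}
  have := @_root_.MulAction.block_stabilizerOrderIso.congr_simp.{0,0}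
  have := @_root_.MulAction.IwasawaStructure.mk.congr_simp.{0,0}
  have := @_root_.MulAction.IwasawaStructure.T.eq_1.{0,0}
  have := @_root_.alternatingGroup.ofSubtype.eq_1.{0}
  have := @_root_.Equiv.altCongrHom.eq_1.{0,0}
  have := @_root_.SubAddAction.ofStabilizer.conjMap.eq_1.{0,0}
  have := @_root_.SubMulAction.ofStabilizer.conjMap.eq_1.{0,0}
  have := @_root_.SubAddAction.ofFixingAddSubgroup.append.congr_simp.{0,0}
  have := @_root_.SubAddAction.fixingAddSubgroupEquivFixingAddSubgroup.congr_simp.{0,0}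
  have := @_root_.Function.Injective.addActionHom_embedding.congr_simp.{0,0,0,0,0}
  have := @_root_.Set.powersetCard.mulActionHom_compl.eq_1.{0,0}
  have := @_root_.AddGroupExtension.Splitting.mk.congr_simp.{0,0,0}
  have := @_root_.GroupExtension.Equiv.toMulEquiv.eq_1.{0,0,0,0}
  have := @_root_.AddGroupExtension.rightHom.eq_1.{0,0,0}
  have := @_root_.AddGroupExtension.Equiv.mk.congr_simp.{0,0,0,0}
  have := @_root_.AddGroupExtension.Splitting.toSection.eq_1.{0,0,0}
  have := @_root_.SemidirectProduct.inr_splitting.eq_1.{0,0}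
  have := @_root_.GroupExtension.Splitting.toSection.eq_1.{0,0,0}
  have := @_root_.AddGroupExtension.mk.congr_simp.{0,0,0}
  have := @_root_.GroupExtension.Splitting.mk.congr_simp.{0,0,0}
  have := @_root_.GroupExtension.Equiv.mk.congr_simp.{0,0,0,0}
  have := @_root_.AddGroupExtension.Section.mk.congr_simp.{0,0,0}
  have := @_root_.AddGroupExtension.inl.eq_1.{0,0,0}
  have := @_root_.GroupExtension.inl.eq_1.{0,0,0}
  have := @_root_.AddGroupExtension.Splitting.toAddMonoidHom.eq_1.{0,0,0}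
  have := @_root_.GroupExtension.rightHom.eq_1.{0,0,0}
  have := @_root_.AddGroupExtension.Section.toFun.eq_1.{0,0,0}
  have := @_root_.GroupExtension.Splitting.toMonoidHom.eq_1.{0,0,0}
  trivial

theorem r18_2 : True := by
  have := @_root_.AddGroupExtension.Equiv.toAddEquiv.eq_1.{0,0,0,0}
  have := @_root_.GroupExtension.Section.toFun.eq_1.{0,0,0}
  have := @_root_.GroupExtension.Section.mk.congr_simp.{0,0,0}
  have := @_root_.GroupExtension.Equiv.ofMonoidHom.congr_simp.{0,0,0,0}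
  have := @_root_.AddGroupExtension.Equiv.ofAddMonoidHom.congr_simp.{0,0,0,0}
  have := @_root_.GroupExtension.Splitting.semidirectProductMulEquiv.eq_1.{0,0,0}
  have := @_root_.GroupExtension.Splitting.semidirectProductToGroupExtensionEquiv.eq_1.{0,0,0}
  have := @_root_.HNNExtension.NormalWord.TransversalPair.mk.congr_simp.{0}
  have := @_root_.HNNExtension.NormalWord.TransversalPair.set.eq_1.{0}
  have := @_root_.HNNExtension.eq_1.{0}
  have := @_root_.HNNExtension.NormalWord.empty.eq_1.{0}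
  have := @_root_.HNNExtension.NormalWord.consRecOn.eq_1.{0,0}
  have := @_root_.HNNExtension.NormalWord.equiv.eq_1.{0}
  have := @_root_.HNNExtension.con.eq_1.{0}
  have := @_root_.HNNExtension.toSubgroupEquiv.eq_1.{0}
  have := @_root_.HNNExtension.NormalWord.ReducedWord.empty.eq_1.{0}
  have := @_root_.HNNExtension.NormalWord.ReducedWord.head.eq_1.{0}
  have := @_root_.HNNExtension.NormalWord.unitsSMulEquiv.eq_1.{0}
  have := @_root_.HNNExtension.NormalWord.toReducedWord.eq_1.{0}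
  have := @_root_.HNNExtension.NormalWord.ReducedWord.toList.eq_1.{0}
  have := @_root_.Group.IsPerfect.mk.congr_simp.{0}
  have := @_root_.AddSubgroup.IsSubnormal.step.congr_simp.{0}
  have := @_root_.Subgroup.IsSubnormal.step.congr_simp.{0}
  have := @_root_.MulHom.noncommCoprod.congr_simp.{0,0,0}
  have := @_root_.AddMonoidHom.noncommCoprod.congr_simp.{0,0,0}
  have := @_root_.AddHom.noncommCoprod.congr_simp.{0,0,0}
  have := @_root_.DomMulAct.stabilizerMulEquiv.eq_1.{0,0}
  have := @_root_.DomMulAct.stabilizerEquiv_invFun.eq_1.{0,0}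
  have := @_root_.Equiv.Perm.Basis.ofPermHom.eq_1.{0}
  have := @_root_.Equiv.Perm.OnCycleFactors.Subgroup.Centralizer.cycleFactorsFinset_mulAction.eq_1.{0}
  trivial

theorem r18_3 : True := by
  have := @_root_.Equiv.Perm.Basis.toFun.eq_1.{0}
  have := @_root_.Equiv.Perm.Basis.mk.congr_simp.{0}
  have := @_root_.Equiv.Perm.OnCycleFactors.instMulActionSubtypeMemSubgroupCentralizerSingletonSetFinsetCycleFactorsFinset.eq_1.{0}
  have := @_root_.Equiv.Perm.Basis.congr_simp.{0}
  have := @_root_.Equiv.Perm.OnCycleFactors.range_toPermHom'.eq_1.{0}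
  have := @_root_.Equiv.Perm.subgroupOfMulAction.eq_1.{0,0}
  have := @_root_.Equiv.Perm.subgroupOfMulAction.congr_simp.{0,0}
  have := @_root_.Monoid.PushoutI.NormalWord.equiv.eq_1.{0,0,0}
  have := @_root_.Monoid.PushoutI.NormalWord.head.eq_1.{0,0,0}
  have := @_root_.Monoid.PushoutI.base.eq_1.{0,0,0}
  have := @_root_.Monoid.PushoutI.NormalWord.Pair.toPair.eq_1.{0,0,0}
  have := @_root_.Monoid.PushoutI.NormalWord.Transversal.set.eq_1.{0,0,0}
  have := @_root_.Monoid.PushoutI.NormalWord.toWord.eq_1.{0,0,0}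
  have := @_root_.Monoid.PushoutI.of.eq_1.{0,0,0}
  have := @_root_.Monoid.PushoutI.eq_1.{0,0,0}
  have := @_root_.Monoid.PushoutI.NormalWord.Transversal.mk.congr_simp.{0,0,0}
  have := @_root_.Monoid.PushoutI.con.eq_1.{0,0,0}
  have := @_root_.Monoid.PushoutI.lift.eq_1.{0,0,0,0}
  have := @_root_.Monoid.PushoutI.NormalWord.consRecOn.eq_1.{0,0,0,0}
  have := @_root_.Monoid.PushoutI.homEquiv.eq_1.{0,0,0,0}
  have := @_root_.IteratedWreathProduct.eq_def.{0}
  have := @_root_.IteratedWreathProduct.eq_1.{0}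
  have := @_root_.RegularWreathProduct.inl.eq_1.{0,0}
  have := @_root_.RegularWreathProduct.congr.eq_1.{0,0,0,0}
  have := @_root_.RegularWreathProduct.rightHom.eq_1.{0,0}
  have := @_root_.Sylow.mulEquivIteratedWreathProduct.eq_1.{0,0}
  have := @_root_.Sylow.mulEquivIteratedWreathProduct.congr_simp.{0,0}
  have := @_root_.RegularWreathProduct.left.eq_1.{0,0}
  have := @_root_.iteratedWreathToPermHom.eq_def.{0}
  have := @_root_.iteratedWreathToPermHom.eq_1.{0}
  trivial

theorem r18_4 : True := by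
  have := @_root_.RegularWreathProduct.equivProd.eq_1.{0,0}
  have := @_root_.RegularWreathProduct.toPerm.eq_1.{0,0,0}
  have := @_root_.RegularWreathProduct.right.eq_1.{0,0}
  have := @_root_.Group.ResiduallyFinite.mk.congr_simp.{0}
  have := @_root_.AddGroup.ResiduallyFinite.mk.congr_simp.{0}
  have := @_root_.Subgroup.QuotientDiff.eq_1.{0}
  have := @_root_.Subgroup.QuotientDiff.congr_simp.{0}
  have := @_root_.alternatingGroup.iwasawaStructure_three.eq_1.{0}
  have := @_root_.alternatingGroup.iwasawaStructure_four.eq_1.{0}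
  have := @_root_.alternatingGroup.iwasawaStructure_four.congr_simp.{0}
  have := @_root_.Equiv.Perm.iwasawaStructure_two.eq_1.{0}
  have := @_root_.Equiv.Perm.iwasawaStructure_two.congr_simp.{0}
  have := @_root_.QuaternionGroup.quaternionGroupZeroEquivDihedralGroupZero.eq_1
  have := @_root_.instDecidableEqQuaternionGroup.decEq.eq_def
  have := @_root_.instDecidableEqQuaternionGroup.decEq.eq_1
  have := @_root_.IsZGroup.mk.congr_simp.{0}
  have := @_root_.Subgroup.Saturated.eq_1.{0}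
  have := @_root_.AddSubgroup.Saturated.eq_1.{0}
  have := @_root_.AffineSubspace.shift.eq_1.{0,0,0}
  have := @_root_.AffineBasis.toMatrix.eq_1.{0,0,0,0,0}
  have := @_root_.Equiv.Perm.ModSumCongr.eq_1.{0,0}
  have := @_root_.AlternatingMap.domCoprod.eq_1.{0,0,0,0,0,0}
  have := @_root_.AlternatingMap.domCoprod'.eq_1.{0,0,0,0,0,0}
  have := @_root_.Module.Basis.toFlag.eq_1.{0,0}
  have := @_root_.LinearMap.BilinForm.Isometry.toLinearMap.eq_1.{0,0,0}
  have := @_root_.LinearMap.BilinForm.Isometry.mk.congr_simp.{0,0,0}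
  have := @_root_.LinearMap.BilinForm.Isometry.id.eq_1.{0,0}
  have := @_root_.LinearMap.BilinForm.Isometry.comp.eq_1.{0,0,0,0}
  have := @_root_.LinearMap.BilinForm.Isometry.ofEq.eq_1.{0,0}
  have := @_root_.LinearMap.BilinForm.Isometry.ofEq.congr_simp.{0,0}
  trivial

theorem r18_5 : True := by
  have := @_root_.LinearMap.BilinForm.IsometryEquiv.trans.eq_1.{0,0,0,0}
  have := @_root_.LinearMap.BilinForm.IsometryEquiv.refl.eq_1.{0,0}
  have := @_root_.LinearMap.BilinForm.IsometryEquiv.toLinearEquiv.eq_1.{0,0,0}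
  have := @_root_.LinearMap.BilinForm.IsometryEquiv.toIsometry.eq_1.{0,0,0}
  have := @_root_.LinearMap.BilinForm.isometryEquivOfCompLinearEquiv.eq_1.{0,0,0}
  have := @_root_.LinearMap.BilinForm.Equivalent.eq_1.{0,0,0}
  have := @_root_.LinearMap.BilinForm.IsometryEquiv.symm.eq_1.{0,0,0}
  have := @_root_.Module.Dual.baseChange.eq_1.{0,0,0}
  have := @_root_.Module.Dual.congr.eq_1.{0,0,0}
  have := @_root_.IsBaseChange.toDualBaseChange.congr_simp.{0,0,0,0}
  have := @_root_.LinearEquiv.fixedReduce.eq_1.{0,0}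
  have := @_root_.LinearEquiv.reduce.eq_1.{0,0}
  have := @_root_.LinearEquiv.transvections.eq_1.{0,0}
  have := @_root_.QuadraticMap.tensorDistrib.eq_1.{0,0,0,0,0,0}
  have := @_root_.QuadraticMap.tensorDistrib.congr_simp.{0,0,0,0,0,0}
  have := @_root_.QuadraticForm.tensorDistrib.eq_1.{0,0,0,0}
  have := @_root_.QuadraticForm.tensorDistrib.congr_simp.{0,0,0,0}
  have := @_root_.QuadraticForm.tmul.eq_1.{0,0,0,0}
  have := @_root_.Algebra.TensorProduct.opAlgEquiv.eq_1.{0,0,0,0}
  have := @_root_.CliffordAlgebra.toBaseChange.eq_1.{0,0,0}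
  have := @_root_.CliffordAlgebra.equivBaseChange.eq_1.{0,0,0}
  have := @_root_.CliffordAlgebra.ofBaseChange.eq_1.{0,0,0}
  have := @_root_.QuadraticModuleCat.form.eq_1.{0,0}
  have := @_root_.CategoryTheory.Iso.toIsometryEquiv.eq_1.{0,0}
  have := @_root_.QuadraticModuleCat.Hom.toIsometry.eq_1.{0,0}
  have := @_root_.QuadraticModuleCat.ofHom.eq_1.{0,0}
  have := @_root_.QuadraticModuleCat.Hom.toIsometry'.eq_1.{0,0}
  have := @_root_.QuadraticModuleCat.toModuleCat.eq_1.{0,0}
  have := @_root_.QuadraticModuleCat.of.eq_1.{0,0}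
  have := @_root_.QuadraticModuleCat.ofIso.eq_1.{0,0}
  trivial

theorem r18_6 : True := by
  have := @_root_.QuadraticModuleCat.cliffordAlgebra.eq_1.{0}
  have := @_root_.CliffordAlgebra.contractRight.eq_1.{0,0}
  have := @_root_.CliffordAlgebra.changeForm.eq_1.{0,0}
  have := @_root_.CliffordAlgebra.contractLeft.eq_1.{0,0}
  have := @_root_.CliffordAlgebra.changeFormEquiv.eq_1.{0,0}
  have := @_root_.CliffordAlgebraQuaternion.equiv.eq_1.{0}
  have := @_root_.CliffordAlgebraQuaternion.ofQuaternion.eq_1.{0}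
  have := @_root_.CliffordAlgebraRing.equiv.eq_1.{0}
  have := @_root_.CliffordAlgebraQuaternion.toQuaternion.eq_1.{0}
  have := @_root_.CliffordAlgebraQuaternion.quaternionBasis.eq_1.{0}
  have := @_root_.CliffordAlgebraComplex.ofComplex.eq_1
  have := @_root_.CliffordAlgebraDualNumber.equiv.eq_1.{0}
  have := @_root_.CliffordAlgebraComplex.Q.eq_1
  have := @_root_.CliffordAlgebraComplex.equiv.eq_1
  have := @_root_.CliffordAlgebraComplex.toComplex.eq_1
  have := @_root_.CliffordAlgebraQuaternion.Q.eq_1.{0}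
  have := @_root_.CliffordAlgebra.even.ι.eq_1.{0,0}
  have := @_root_.CliffordAlgebra.EvenHom.mk.congr_simp.{0,0,0}
  have := @_root_.CliffordAlgebra.even.eq_1.{0,0}
  have := @_root_.CliffordAlgebra.EvenHom.bilin.eq_1.{0,0,0}
  have := @_root_.CliffordAlgebra.EvenHom.compr₂.eq_1.{0,0,0,0}
  have := @_root_.CliffordAlgebra.even.lift.eq_1.{0,0,0}
  have := @_root_.CliffordAlgebra.ofEven.eq_1.{0,0}
  have := @_root_.CliffordAlgebra.evenToNeg.eq_1.{0,0}
  have := @_root_.CliffordAlgebra.evenEquivEvenNeg.eq_1.{0,0}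
  have := @_root_.CliffordAlgebra.EquivEven.Q'.eq_1.{0,0}
  have := @_root_.CliffordAlgebra.equivEven.eq_1.{0,0}
  have := @_root_.CliffordAlgebra.invertibleOfInvertibleι.eq_1.{0,0}
  have := @_root_.CliffordAlgebra.invertibleιOfInvertible.eq_1.{0,0}
  have := @_root_.GradedTensorProduct.includeRight.eq_1.{0,0,0,0}
  trivial

theorem r18_7 : True := by
  have := @_root_.GradedTensorProduct.tmul.eq_1.{0,0,0,0}
  have := @_root_.GradedTensorProduct.mulHom.eq_1.{0,0,0,0}
  have := @_root_.GradedTensorProduct.lift.eq_1.{0,0,0,0,0}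
  have := @_root_.GradedTensorProduct.lift.congr_simp.{0,0,0,0,0}
  have := @_root_.GradedTensorProduct.eq_1.{0,0,0,0}
  have := @_root_.GradedTensorProduct.includeLeft.eq_1.{0,0,0,0}
  have := @_root_.GradedTensorProduct.of.eq_1.{0,0,0,0}
  have := @_root_.GradedTensorProduct.liftEquiv.eq_1.{0,0,0,0,0}
  have := @_root_.GradedTensorProduct.includeLeftRingHom.eq_1.{0,0,0,0}
  have := @_root_.GradedTensorProduct.comm.eq_1.{0,0,0,0}
  have := @_root_.CliffordAlgebra.prodEquiv.eq_1.{0,0,0}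
  have := @_root_.spinGroup.toUnits.eq_1.{0,0}
  have := @_root_.spinGroup.eq_1.{0,0}
  have := @_root_.pinGroup.toUnits.eq_1.{0,0}
  have := @_root_.lipschitzGroup.eq_1.{0,0}
  have := @_root_.pinGroup.eq_1.{0,0}
  have := @_root_.ExteriorAlgebra.GradedAlgebra.ι.eq_1.{0,0}
  have := @_root_.ModN.liftEquiv.eq_1.{0,0}
  have := @_root_.ModN.basis.congr_simp.{0,0}
  have := @_root_.ModN.eq_1.{0}
  have := @_root_.ModN.liftEquiv'.eq_1.{0,0}
  have := @_root_.TensorPower.toTensorAlgebra.eq_1.{0,0}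
  have := @_root_.TensorAlgebra.equivDirectSum.eq_1.{0,0}
  have := @_root_.TensorAlgebra.ofDirectSum.eq_1.{0,0}
  have := @_root_.LinearAlgebra.FreeProduct.asPowers.eq_1.{0,0,0}
  have := @_root_.LinearAlgebra.FreeProduct.asPowers.congr_simp.{0,0,0}
  have := @_root_.LinearAlgebra.FreeProduct.eq_1.{0,0,0}
  have := @_root_.LinearAlgebra.FreeProduct.congr_simp.{0,0,0}
  have := @_root_.LinearAlgebra.FreeProduct.asPowersEquiv.eq_1.{0,0,0}
  have := @_root_.LinearAlgebra.FreeProduct.lift.eq_1.{0,0,0,0}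
  trivial

theorem r18_8 : True := by
  have := @_root_.LinearAlgebra.FreeProduct.mkAlgHom.eq_1.{0,0,0}
  have := @_root_.LinearAlgebra.FreeProduct.rel'.congr_simp.{0,0,0}
  have := @_root_.LinearAlgebra.FreeProduct.PowerAlgebra.eq_1.{0,0,0}
  have := @_root_.LinearAlgebra.FreeProduct.powerAlgebraEquivFreeTensorAlgebra.eq_1.{0,0,0}
  have := @_root_.LinearAlgebra.FreeProduct.FreeTensorAlgebra.eq_1.{0,0,0}
  have := @_root_.Matrix.circulant.eq_1.{0,0}
  have := @_root_.Matrix.IsTotallyUnimodular.eq_1.{0,0,0}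
  have := @_root_.Matrix.IsReducedRowEchelon.mk.congr_simp.{0,0,0}
  have := @_root_.Matrix.IsRowEchelon.eq_1.{0,0,0}
  have := @_root_.Matrix.IsPivotedBy.mk.congr_simp.{0,0,0}
  have := @_root_.Echelon.Decomposition.pivot.eq_1.{0,0,0}
  have := @_root_.Echelon.Decomposition.L.eq_1.{0,0,0}
  have := @_root_.Echelon.Decomposition.mk.congr_simp.{0,0,0}
  have := @_root_.Echelon.Decomposition.σ.eq_1.{0,0,0}
  have := @_root_.FixedDetMatrix.eq_1.{0,0}
  have := @_root_.FixedDetMatrices.reduce_rec.eq_1.{0}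
  have := @_root_.Matrix.equiv_GL_linearindependent.eq_1.{0}
  have := @_root_.Matrix.IsHadamard.mk.congr_simp.{0,0}
  have := @_root_.Matrix.IsPrimitive.congr_simp.{0,0}
  have := @_root_.Matrix.IsPrimitive.mk.congr_simp.{0,0}
  have := @_root_.Matrix.toQuiver.eq_1.{0,0}
  have := @_root_.Matrix.IsIrreducible.mk.congr_simp.{0,0}
  have := @_root_.Matrix.HasOrthogonalCols.eq_1.{0,0,0}
  have := @_root_.Matrix.HasOrthogonalRows.eq_1.{0,0,0}
  have := @_root_.Matrix.IsDiag.eq_1.{0,0}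
  have := @_root_.LinearMap.mapMatrixModule.eq_1.{0,0,0,0}
  have := @_root_.Matrix.Module.matrixModule.eq_1.{0,0,0}
  have := @_root_.Matrix.uniqueAddEquiv.eq_1.{0,0,0}
  have := @_root_.Matrix.uniqueAlgEquiv.eq_1.{0,0,0}
  have := @_root_.Matrix.uniqueEquiv.eq_1.{0,0,0}
  trivial

theorem r18_9 : True := by
  have := @_root_.Matrix.uniqueLinearEquiv.eq_1.{0,0,0,0}
  have := @_root_.Matrix.uniqueRingEquiv.eq_1.{0,0}
  have := @_root_.WithConv.matrixToLin'StarAlgEquiv.eq_1.{0,0,0}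
  have := @_root_.MultilinearMap.piFamilyₗ.eq_1.{0,0,0,0,0}
  have := @_root_.MultilinearMap.piFamily.eq_1.{0,0,0,0,0}
  have := @_root_.PiTensorProduct.ofDirectSumEquiv.congr_simp.{0,0,0,0}
  have := @_root_.PiTensorProduct.dualDistribEquiv.congr_simp.{0,0,0}
  have := @_root_.PiTensorProduct.dualDistribEquivOfBasis.eq_1.{0,0,0,0}
  have := @_root_.PiTensorProduct.dualDistribEquivOfBasis.congr_simp.{0,0,0,0}
  have := @_root_.PiTensorProduct.equivPiTensorComplSingletonTensor.eq_1.{0,0,0}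
  have := @_root_.SpecialLinearGroup.baseChange.eq_1.{0,0,0}
  have := @_root_.SpecialLinearGroup.baseChange.congr_simp.{0,0,0}
  have := @_root_.SpecialLinearGroup.dualMap.eq_1.{0,0}
  have := @_root_.SpecialLinearGroup.dualMap.congr_simp.{0,0}
  have := @_root_.Matrix.SpecialLinearGroup.toLin'_equiv.eq_1.{0,0}
  have := @_root_.Matrix.SpecialLinearGroup.toLin_equiv.eq_1.{0,0,0}
  have := @_root_.SpecialLinearGroup.toLinearEquiv.eq_1.{0,0}
  have := @_root_.SpecialLinearGroup.eq_1.{0,0}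
  have := @_root_.SpecialLinearGroup.congr_linearEquiv.eq_1.{0,0,0}
  have := @_root_.Projectivization.nonZeroEquivProjectivizationProdUnits.eq_1.{0,0}
  have := @_root_.Projectivization.equivQuotientOrbitRel.eq_1.{0,0}
  have := @_root_.Projectivization.Subspace.spanCarrier.of.congr_simp.{0,0}
  have := @_root_.Projectivization.Subspace.gi.eq_1.{0,0}
  have := @_root_.Projectivization.Subspace.submodule.eq_1.{0,0}
  have := @_root_.Projectivization.Subspace.spanCarrier.mem_add.congr_simp.{0,0}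
  have := @_root_.Projectivization.Subspace.carrier.eq_1.{0,0}
  have := @_root_.Projectivization.Subspace.span.eq_1.{0,0}
  have := @_root_.Submodule.projectivization.eq_1.{0,0}
  have := @_root_.Projectivization.Dependent.mk.congr_simp.{0,0,0}
  have := @_root_.Projectivization.Independent.mk.congr_simp.{0,0,0}
  trivial

theorem r18_10 : True := by
  have := @_root_.Projectivization.IsCollinear.eq_1.{0,0}
  have := @_root_.PSL.iwasawaT.eq_1.{0,0}
  have := @_root_.Matrix.SpecialLinearGroup.lineStab.eq_1.{0,0}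
  have := @_root_.PSL2.Iwasawa.eq_1.{0}
  have := @_root_.QuadraticForm.isometryEquivSumSquares.eq_1.{0,0}
  have := @_root_.QuadraticForm.isometryEquivSumSquares.congr_simp.{0,0}
  have := @_root_.QuadraticForm.isometryEquivSumSquaresUnits.eq_1.{0,0}
  have := @_root_.QuadraticForm.isometryEquivSumSquaresUnits.congr_simp.{0,0}
  have := @_root_.QuadraticMap.toBilinHom.eq_1.{0,0,0,0,0}
  have := @_root_.QuadraticForm.tensorComm.eq_1.{0,0,0}
  have := @_root_.QuadraticForm.tensorLId.eq_1.{0,0}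
  have := @_root_.QuadraticMap.Isometry.tmul.eq_1.{0,0,0,0,0}
  have := @_root_.QuadraticForm.tensorAssoc.eq_1.{0,0,0,0}
  have := @_root_.QuadraticForm.tensorRId.eq_1.{0,0}
  have := @_root_.QuadraticModuleCat.instMonoidalCategory.tensorHom.eq_1.{0}
  have := @_root_.QuadraticModuleCat.instMonoidalCategory.tensorObj.eq_1.{0}
  have := @_root_.LinearMap.liftQ₂.eq_1.{0,0,0,0,0,0,0}
  have := @_root_.LinearMap.IsRefl.liftQ₂.eq_1.{0,0,0,0}
  have := @_root_.LinearMap.IsRefl.liftQ₂.congr_simp.{0,0,0,0}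
  have := @_root_.QuadraticMap.Nondegenerate.mk.congr_simp.{0,0,0}
  have := @_root_.QuadraticMap.lift.eq_1.{0,0,0}
  have := @_root_.QuadraticMap.lift.congr_simp.{0,0,0}
  have := @_root_.QuadraticForm.isometryEquivSignWeightedSumSquares.eq_1.{0}
  have := @_root_.sigPos.eq_1.{0,0}
  have := @_root_.sigNeg.eq_1.{0,0}
  have := @_root_.RootPairing.IsG2.mk.congr_simp.{0,0,0,0}
  have := @_root_.RootPairing.EmbeddedG2.twoShortAddLongRoot.eq_1.{0,0,0,0}
  have := @_root_.RootPairing.EmbeddedG2.threeShortAddLongRoot.eq_1.{0,0,0,0}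
  have := @_root_.RootPairing.IsNotG2.mk.congr_simp.{0,0,0,0}
  have := @_root_.RootPairing.IsG2.toEmbeddedG2.eq_1.{0,0,0,0}
  trivial

theorem r18_11 : True := by
  have := @_root_.RootPairing.IsG2.toEmbeddedG2.congr_simp.{0,0,0,0}
  have := @_root_.RootPairing.EmbeddedG2.short.eq_1.{0,0,0,0}
  have := @_root_.RootPairing.EmbeddedG2.mk.congr_simp.{0,0,0,0}
  have := @_root_.RootPairing.EmbeddedG2.longRoot.eq_1.{0,0,0,0}
  have := @_root_.RootPairing.EmbeddedG2.ofPairingInThree.eq_1.{0,0,0,0}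
  have := @_root_.RootPairing.EmbeddedG2.ofPairingInThree.congr_simp.{0,0,0,0}
  have := @_root_.RootPairing.EmbeddedG2.shortAddLongRoot.eq_1.{0,0,0,0}
  have := @_root_.RootPairing.EmbeddedG2.shortRoot.eq_1.{0,0,0,0}
  have := @_root_.RootPairing.EmbeddedG2.indexEquivAllRoots.eq_1.{0,0,0,0}
  have := @_root_.RootPairing.EmbeddedG2.indexEquivAllRoots.congr_simp.{0,0,0,0}
  have := @_root_.RootPairing.EmbeddedG2.allCoeffs.eq_1
  have := @_root_.RootPairing.EmbeddedG2.allRoots.eq_1.{0,0,0,0}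
  have := @_root_.RootPairing.EmbeddedG2.long.eq_1.{0,0,0,0}
  have := @_root_.RootPairing.EmbeddedG2.basis.eq_1.{0,0,0,0}
  have := @_root_.RootPairing.EmbeddedG2.basis.congr_simp.{0,0,0,0}
  have := @_root_.RootPairing.EmbeddedG2.threeShortAddTwoLongRoot.eq_1.{0,0,0,0}
  have := @_root_.RootPairing.GeckConstruction.v.eq_1.{0,0,0,0}
  have := @_root_.RootPairing.GeckConstruction.ωConjLieSubmodule.eq_1.{0,0,0,0}
  have := @_root_.RootPairing.GeckConstruction.ωConj.eq_1.{0,0,0,0}
  have := @_root_.RootPairing.GeckConstruction.h'.eq_1.{0,0,0,0}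
  have := @_root_.RootPairing.GeckConstruction.u.eq_1.{0,0,0,0}
  have := @_root_.RootPairing.GeckConstruction.equivRootSystem.eq_1.{0,0,0,0}
  have := @_root_.RootPairing.GeckConstruction.basis.eq_1.{0,0,0,0}
  have := @_root_.LinearMap.IsReflective.mk.congr_simp.{0,0}
  have := @_root_.LinearMap.IsReflective.coroot.eq_1.{0,0}
  have := @_root_.RootPairing.ofBilinear.eq_1.{0,0}
  have := @_root_.RootPairing.ofBilinear.congr_simp.{0,0}
  have := @_root_.RootPairingCat.weight.eq_1.{0,0}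
  have := @_root_.RootPairingCat.pairing.eq_1.{0,0}
  have := @_root_.RootPairingCat.coweight.eq_1.{0,0}
  trivial

theorem r18_12 : True := by
  have := @_root_.RootPairingCat.index.eq_1.{0,0}
  have := @_root_.TensorAlgebra.symRingCon.eq_1.{0,0}
  have := @_root_.SymmetricAlgebra.algHom.eq_1.{0,0}
  have := @_root_.IsSymmetricAlgebra.equiv.eq_1.{0,0,0}
  have := @_root_.SymmetricAlgebra.eq_1.{0,0}
  have := @_root_.SymmetricAlgebra.equivMvPolynomial.eq_1.{0,0,0}
  have := @_root_.Module.Basis.symmetricAlgebra.eq_1.{0,0,0}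
  have := @_root_.TensorAlgebra.equivFreeAlgebra.eq_1.{0,0,0}
  have := @_root_.Module.Basis.tensorAlgebra.eq_1.{0,0,0}
  have := @_root_.TensorAlgebra.GradedAlgebra.ι.eq_1.{0,0}
  have := @_root_.SymmetricPower.eq_1.{0,0}
  have := @_root_.SymmetricPower.smul'.eq_1.{0,0}
  have := @_root_.SymmetricPower.mk.eq_1.{0,0}
  have := @_root_.Algebra.TensorProduct.equivFinsuppOfBasis.eq_1.{0,0,0,0}
  have := @_root_.Algebra.TensorProduct.equivPiOfFiniteBasis.eq_1.{0,0,0,0}
  have := @_root_.Algebra.TensorProduct.equivPiOfFiniteBasis.congr_simp.{0,0,0,0}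
  have := @_root_.LinearEquiv.IsExceptional.eq_1.{0,0}
  have := @_root_.Equiv.arrayEquivList.eq_1.{0}
  have := @_root_.Equiv.boolNot.eq_1
  have := @_root_.Ring.HasFiniteQuotients.mk.congr_simp.{0}
  have := @_root_.Ideal.relNorm.eq_1.{0,0}
  have := @_root_.Ideal.quotEquivPowQuotPowSuccEquiv.eq_1.{0}
  have := @_root_.Ideal.quotEquivPowQuotPowSuccEquiv.congr_simp.{0}
  have := @_root_.Ideal.quotEquivPowQuotPowSucc.eq_1.{0}
  have := @_root_.Ideal.quotEquivPowQuotPowSucc.congr_simp.{0}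
  have := @_root_.LinearMap.intertwiningMap_of_isIntertwiningMap.eq_1.{0,0,0,0}
  have := @_root_.Rep.toAdditive.eq_1.{0,0}
  have := @_root_.Rep.MonoidalClosed.linearHomEquivComm.eq_1.{0,0}
  have := @_root_.Rep.ofDistribMulAction.eq_1.{0,0,0}
  have := @_root_.Rep.ofDistribMulAction.congr_simp.{0,0,0}
  trivial

theorem r18_13 : True := by
  have := @_root_.Rep.finsuppTensorRight.eq_1.{0,0}
  have := @_root_.Rep.linearizationOfMulActionIso.eq_1.{0,0}
  have := @_root_.Rep.forgetNatIsoActionForget.eq_1.{0,0,0}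
  have := @_root_.Rep.ActionToRep_RepToAction.eq_1.{0,0,0}
  have := @_root_.Rep.IsTrivial.eq_1.{0,0,0}
  have := @_root_.Rep.leftRegularHom.eq_1.{0,0}
  have := @_root_.Rep.ofHom.eq_1.{0,0,0}
  have := @_root_.Rep.leftRegular.eq_1.{0,0}
  have := @_root_.Rep.Hom.toModuleCatHom.eq_1.{0,0,0}
  have := @_root_.Rep.Hom.hom'.eq_1.{0,0,0}
  have := @_root_.Rep.ihom.eq_1.{0,0,0,0}
  have := @_root_.Rep.trivial.eq_1.{0,0,0}
  have := @_root_.Rep.mkQ.eq_1.{0,0,0}
  have := @_root_.Rep.tensorHomEquiv.eq_1.{0,0}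
  have := @_root_.Rep.normNatTrans.eq_1.{0,0,0}
  have := @_root_.Rep.diagonalOneIsoLeftRegular.eq_1.{0,0}
  have := @_root_.Rep.ρ.eq_1.{0,0,0}
  have := @_root_.Rep.leftRegularHomEquiv.eq_1.{0,0}
  have := @_root_.Rep.V.eq_1.{0,0,0}
  have := @_root_.Rep.mkIso.eq_1.{0,0,0}
  have := @_root_.Rep.quotient.eq_1.{0,0,0}
  have := @_root_.Rep.quotient.congr_simp.{0,0,0}
  have := @_root_.Rep.Hom.hom.eq_1.{0,0,0}
  have := @_root_.Rep.freeLift.eq_1.{0,0,0}
  have := @_root_.Rep.diagonal.eq_1.{0,0}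
  have := @_root_.Rep.linearizationTrivialIso.eq_1.{0,0}
  have := @_root_.Rep.ofMulActionSubsingletonIsoTrivial.eq_1.{0,0}
  have := @_root_.Rep.ofMulActionSubsingletonIsoTrivial.congr_simp.{0,0}
  have := @_root_.Rep.ActionToRep.eq_1.{0,0,0}
  have := @_root_.Rep.linearization.eq_1.{0,0,0}
  trivial

theorem r18_14 : True := by
  have := @_root_.Rep.repIsoAction.eq_1.{0,0,0}
  have := @_root_.Rep.freeLiftLEquiv.eq_1.{0,0,0}
  have := @_root_.Rep.of.eq_1.{0,0,0}
  have := @_root_.Rep.leftRegularTensorTrivialIsoFree.eq_1.{0}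
  have := @_root_.Rep.RepToAction_ActionToRep.eq_1.{0,0,0}
  have := @_root_.Rep.ofMulAction.eq_1.{0,0,0}
  have := @_root_.Rep.ofMulDistribMulAction.eq_1.{0,0}
  have := @_root_.Rep.subtype.eq_1.{0,0,0}
  have := @_root_.Rep.homLinearEquiv.eq_1.{0,0,0}
  have := @_root_.Rep.free.eq_1.{0,0,0}
  have := @_root_.Rep.RepToAction.eq_1.{0,0,0}
  have := @_root_.Rep.finsuppTensorLeft.eq_1.{0,0}
  have := @_root_.Rep.finsupp.eq_1.{0,0,0,0}
  have := @_root_.FDRep.of.eq_1.{0,0}
  have := @_root_.FDRep.of.congr_simp.{0,0}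
  have := @_root_.FDRep.ρ.eq_1.{0,0}
  have := @_root_.FDRep.eq_1.{0,0}
  have := @_root_.FDRep.dualTensorIsoLinHom.eq_1.{0,0}
  have := @_root_.FDRep.forget₂HomLinearEquiv.eq_1.{0,0}
  have := @_root_.Rep.diagonalHomEquiv.eq_1.{0}
  have := @_root_.Rep.counitIso.eq_1.{0,0,0}
  have := @_root_.Rep.equivalenceModuleMonoidAlgebra.eq_1.{0,0,0}
  have := @_root_.Rep.toModuleMonoidAlgebraMap.eq_1.{0,0,0}
  have := @_root_.Rep.unitIso.eq_1.{0,0,0}
  have := @_root_.Rep.diagonalSuccIsoTensorTrivial.eq_1.{0}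
  have := @_root_.Rep.diagonalSuccIsoFree.eq_1.{0}
  have := @_root_.Rep.resOfQuotientIso.eq_1.{0,0,0}
  have := @_root_.Rep.liftHomOfSurj.eq_1.{0,0,0,0}
  have := @_root_.Rep.resFunctor.eq_1.{0,0,0,0}
  have := @_root_.Rep.res.eq_1.{0,0,0,0}
  trivial

theorem r18_15 : True := by
  have := @_root_.Rep.ofQuotient.eq_1.{0,0,0}
  have := @_root_.Rep.ofQuotient.congr_simp.{0,0,0}
  have := @_root_.Rep.resMap.eq_1.{0,0,0,0}
  have := @_root_.Rep.quotientToInvariants.eq_1.{0,0,0}
  have := @_root_.Rep.invariantsAdjunction.eq_1.{0,0,0}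
  have := @_root_.Rep.quotientToInvariantsFunctor.eq_1.{0,0,0}
  have := @_root_.Rep.toInvariants.eq_1.{0,0,0}
  have := @_root_.Rep.toInvariants.congr_simp.{0,0,0}
  have := @_root_.Rep.invariantsFunctor.eq_1.{0,0,0}
  have := @_root_.Rep.coind.eq_1.{0,0,0,0}
  trivial

end CL.BaseAux
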