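import Cfsg.Agent.Base.Imports

/-! On-demand lemmas of Prelude and Mathlib definitions, produced once here so that no other file holds a copy. -/

set_option linter.all false

namespace CL.BaseAux

theorem r19_0 : True := by
  have := @_root_.Rep.coind'.eq_1.{0,0,0}
  have := @_root_.Rep.coindVEquiv.eq_1.{0,0,0}
  have := @_root_.Rep.resCoindAdjunction.eq_1.{0,0,0,0}
  have := @_root_.Rep.coindFunctor'.eq_1.{0,0,0}
  have := @_root_.Rep.coindFunctorIso.eq_1.{0,0,0}
  have := @_root_.Rep.coindMap.eq_1.{0,0,0,0}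
  have := @_root_.Rep.coindFunctor.eq_1.{0,0,0,0}
  have := @_root_.Rep.toCoinvariants.eq_1.{0,0,0}
  have := @_root_.Rep.desc.eq_1.{0,0,0}
  have := @_root_.Rep.coinvariantsTensor.eq_1.{0,0}
  have := @_root_.Rep.coinvariantsFunctor.eq_1.{0,0,0}
  have := @_root_.Rep.coinvariantsTensorMk.eq_1.{0,0}
  have := @_root_.Rep.coinvariantsShortComplex.eq_1.{0,0,0}
  have := @_root_.Rep.coinvariantsShortComplex.congr_simp.{0,0,0}
  have := @_root_.Rep.coinvariantsMk.eq_1.{0,0,0}
  have := @_root_.Rep.toCoinvariantsKer.eq_1.{0,0,0}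
  have := @_root_.Rep.toCoinvariantsKer.congr_simp.{0,0,0}
  have := @_root_.Rep.quotientToCoinvariants.eq_1.{0,0,0}
  have := @_root_.Rep.coinvariantsTensorFreeLEquiv.eq_1.{0}
  have := @_root_.Rep.quotientToCoinvariantsFunctor.eq_1.{0,0,0}
  have := @_root_.Rep.toCoinvariantsMkQ.eq_1.{0,0,0}
  have := @_root_.ContIntertwiningMap.mapInvariants.eq_1.{0,0,0,0}
  have := @_root_.ContIntertwiningMap.comp.eq_1.{0,0,0,0,0}
  have := @_root_.ContIntertwiningMap.mk.congr_simp.{0,0,0,0}
  have := @_root_.ContIntertwiningMap.id.eq_1.{0,0,0}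
  have := @_root_.ContIntertwiningMap.mapInvariantsOfRes.eq_1.{0,0,0,0,0}
  have := @_root_.ContIntertwiningMap.toContinuousLinearMap.eq_1.{0,0,0,0}
  have := @_root_.ContIntertwiningMap.restrict.eq_1.{0,0,0,0,0}
  have := @_root_.ContIntertwiningMap.toIntertwiningMap.eq_1.{0,0,0,0}
  have := @_root_.LinearMap.equivariantProjection.congr_simp.{0,0,0,0}
  trivial

theorem r19_1 : True := by
  have := @_root_.LinearMap.sumOfConjugates.eq_1.{0,0,0,0}
  have := @_root_.LinearMap.conjugate.eq_1.{0,0,0,0}
  have := @_root_.LinearMap.sumOfConjugatesEquivariant.eq_1.{0,0,0,0}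
  have := @_root_.Rep.coinvariantsTensorIndNatIso.eq_1.{0}
  have := @_root_.Rep.coinvariantsTensorIndIso.eq_1.{0}
  have := @_root_.Rep.indFunctor.eq_1.{0,0,0,0}
  have := @_root_.Rep.ind.eq_1.{0,0,0,0}
  have := @_root_.Rep.indCoindNatIso.eq_1.{0,0,0}
  have := @_root_.Rep.indCoindIso.eq_1.{0,0,0}
  have := @_root_.Rep.coindResAdjunction.congr_simp.{0,0,0}
  have := @_root_.Rep.resIndAdjunction.congr_simp.{0,0,0}
  have := @_root_.Rep.coindToInd.eq_1.{0,0,0}
  have := @_root_.Rep.indToCoind.eq_1.{0,0,0}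
  have := @_root_.continuousCohomology.eq_1.{0,0,0}
  have := @_root_.continuousCohomology.congr_simp.{0,0,0}
  have := @_root_.ContinuousCohomology.π.eq_1.{0,0,0}
  have := @_root_.ContinuousCohomology.cocycles.eq_1.{0,0,0}
  have := @_root_.ContinuousCohomology.cocycles.congr_simp.{0,0,0}
  have := @_root_.ContinuousCohomology.cochainsMap.eq_1.{0,0,0}
  have := @_root_.ContinuousCohomology.cocyclesMap.eq_1.{0,0,0}
  have := @_root_.ContinuousCohomology.resolutionMap.eq_def.{0,0,0}
  have := @_root_.ContinuousCohomology.resolutionMap.eq_1.{0,0,0}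
  have := @_root_.ContinuousCohomology.map.eq_1.{0,0,0}
  have := @_root_.ContinuousCohomology.cocycles₀Iso.eq_1.{0,0,0}
  have := @_root_.ContinuousCohomology.zeroIso.eq_1.{0,0,0}
  have := @_root_.ContinuousCohomology.d₀kerIso.eq_1.{0,0,0}
  have := @_root_.Rep.FiniteCyclicGroup.resolution.eq_1.{0}
  have := @_root_.Rep.FiniteCyclicGroup.resolution.congr_simp.{0}
  have := @_root_.Rep.FiniteCyclicGroup.subCompNormHom.eq_1.{0,0}
  have := @_root_.Rep.FiniteCyclicGroup.moduleCatCochainComplex.eq_1.{0,0}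
  trivial

theorem r19_2 : True := by
  have := @_root_.Rep.FiniteCyclicGroup.chainComplexFunctor.eq_1.{0,0}
  have := @_root_.Rep.FiniteCyclicGroup.moduleCatChainComplex.eq_1.{0,0}
  have := @_root_.Rep.FiniteCyclicGroup.normHomCompSub.eq_1.{0,0}
  have := @_root_.classifyingSpaceUniversalCover.cechNerveTerminalFromIsoCompForget.eq_1.{0}
  have := @_root_.Rep.barComplex.eq_1.{0}
  have := @_root_.classifyingSpaceUniversalCover.extraDegeneracyCompForgetAugmented.eq_1.{0}
  have := @_root_.Rep.standardComplex.εToSingle₀.eq_1.{0}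
  have := @_root_.classifyingSpaceUniversalCover.cechNerveTerminalFromIso.eq_1.{0}
  have := @_root_.Rep.barComplex.isoStandardComplex.eq_1.{0}
  have := @_root_.Rep.standardResolution.eq_1.{0}
  have := @_root_.classifyingSpaceUniversalCover.extraDegeneracyCompForgetAugmentedToModule.eq_1.{0}
  have := @_root_.classifyingSpaceUniversalCover.eq_1.{0}
  have := @_root_.Rep.standardComplex.forget₂ToModuleCat.eq_1.{0}
  have := @_root_.classifyingSpaceUniversalCover.extraDegeneracyAugmentedCechNerve.eq_1.{0}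
  have := @_root_.Rep.standardResolution.extIso.eq_1.{0}
  have := @_root_.Rep.barResolution.extIso.eq_1.{0}
  have := @_root_.Rep.standardComplex.xIso.eq_1.{0}
  have := @_root_.Rep.barResolution.eq_1.{0}
  have := @_root_.groupCohomology.inhomogeneousCochainsIso.eq_1.{0}
  have := @_root_.groupCohomology.toCocycles.eq_1.{0}
  have := @_root_.groupCohomology.inhomogeneousCochains.eq_1.{0}
  have := @_root_.groupCohomologyIsoExt.eq_1.{0}
  have := @_root_.groupCohomologyIso.eq_1.{0}
  have := @_root_.groupCohomology.iCocycles.eq_1.{0}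
  have := @_root_.groupCohomology.π.eq_1.{0}
  have := @_root_.groupCohomology.cocyclesMk.eq_1.{0}
  have := @_root_.groupCohomology.cocycles.eq_1.{0}
  have := @_root_.groupCohomology.eq_1.{0}
  have := @_root_.groupCohomology.coboundariesOfIsCoboundary₂.eq_1.{0}
  have := @_root_.groupCohomology.coboundariesOfIsCoboundary₂.congr_simp.{0}
  trivial

theorem r19_3 : True := by
  have := @_root_.groupCohomology.cocyclesOfIsCocycle₁.eq_1.{0}
  have := @_root_.groupCohomology.cocyclesOfIsCocycle₁.congr_simp.{0}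
  have := @_root_.groupCohomology.coboundariesOfIsMulCoboundary₁.eq_1
  have := @_root_.groupCohomology.coboundariesOfIsMulCoboundary₁.congr_simp
  have := @_root_.groupCohomology.shortComplexH0.eq_1.{0,0}
  have := @_root_.groupCohomology.coboundariesOfIsMulCoboundary₂.eq_1
  have := @_root_.groupCohomology.coboundariesOfIsMulCoboundary₂.congr_simp
  have := @_root_.groupCohomology.IsMulCoboundary₂.eq_1.{0,0}
  have := @_root_.groupCohomology.IsMulCoboundary₁.eq_1.{0,0}
  have := @_root_.groupCohomology.H0IsoOfIsTrivial.eq_1.{0}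
  have := @_root_.groupCohomology.coboundariesOfIsCoboundary₁.eq_1.{0}
  have := @_root_.groupCohomology.coboundariesOfIsCoboundary₁.congr_simp.{0}
  have := @_root_.groupCohomology.H0.eq_1.{0}
  have := @_root_.groupCohomology.cochainsIso₃.eq_1.{0}
  have := @_root_.groupCohomology.H1.eq_1.{0}
  have := @_root_.groupCohomology.coboundariesToCocycles₁.eq_1.{0,0}
  have := @_root_.groupCohomology.IsCoboundary₂.eq_1.{0,0}
  have := @_root_.groupCohomology.IsCoboundary₁.eq_1.{0,0}
  have := @_root_.groupCohomology.isoShortComplexH1.eq_1.{0}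
  have := @_root_.groupCohomology.IsCocycle₁.eq_1.{0,0}
  have := @_root_.groupCohomology.cocyclesOfIsMulCocycle₁.eq_1
  have := @_root_.groupCohomology.cocyclesOfIsMulCocycle₁.congr_simp
  have := @_root_.groupCohomology.d₂₃.eq_1.{0,0}
  have := @_root_.groupCohomology.IsMulCocycle₂.eq_1.{0,0}
  have := @_root_.groupCohomology.cocyclesOfIsMulCocycle₂.eq_1
  have := @_root_.groupCohomology.cocyclesOfIsMulCocycle₂.congr_simp
  have := @_root_.groupCohomology.dArrowIso₀₁.eq_1.{0}
  have := @_root_.groupCohomology.cocyclesIso₀.eq_1.{0}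
  have := @_root_.groupCohomology.coboundariesToCocycles₂.eq_1.{0,0}
  have := @_root_.groupCohomology.cocyclesOfIsCocycle₂.eq_1.{0}
  trivial

theorem r19_4 : True := by
  have := @_root_.groupCohomology.cocyclesOfIsCocycle₂.congr_simp.{0}
  have := @_root_.groupCohomology.cochainsIso₂.eq_1.{0}
  have := @_root_.groupCohomology.isoShortComplexH2.eq_1.{0}
  have := @_root_.groupCohomology.H2.eq_1.{0}
  have := @_root_.groupCohomology.IsCocycle₂.eq_1.{0,0}
  have := @_root_.groupCohomology.cocycles₁IsoOfIsTrivial.eq_1.{0,0}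
  have := @_root_.Rep.FiniteCyclicGroup.groupCohomologyIsoEven.eq_1.{0}
  have := @_root_.Rep.FiniteCyclicGroup.homResolutionIso.eq_1.{0}
  have := @_root_.Rep.FiniteCyclicGroup.groupCohomologyIsoOdd.eq_1.{0}
  have := @_root_.Rep.FiniteCyclicGroup.groupCohomologyIso₀.eq_1.{0}
  have := @_root_.Rep.FiniteCyclicGroup.groupCohomologyIso₀.congr_simp.{0}
  have := @_root_.Rep.FiniteCyclicGroup.groupCohomologyπOdd.eq_1.{0}
  have := @_root_.Rep.FiniteCyclicGroup.groupCohomologyπOdd.congr_simp.{0}
  have := @_root_.Rep.FiniteCyclicGroup.groupCohomologyπEven.eq_1.{0}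
  have := @_root_.Rep.FiniteCyclicGroup.groupCohomologyπEven.congr_simp.{0}
  have := @_root_.groupCohomology.H1InfRes.eq_1.{0}
  have := @_root_.groupCohomology.H1InfRes.congr_simp.{0}
  have := @_root_.groupCohomology.infNatTrans.eq_1.{0}
  have := @_root_.groupCohomology.mapCocycles₁.eq_1.{0,0}
  have := @_root_.groupCohomology.cochainsMap₂.eq_1.{0,0}
  have := @_root_.groupCohomology.mapIso.eq_1.{0}
  have := @_root_.groupCohomology.mapIso.congr_simp.{0}
  have := @_root_.groupCohomology.cocyclesMap.eq_1.{0}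
  have := @_root_.groupCohomology.cochainsMap.eq_1.{0}
  have := @_root_.groupCohomology.resNatTrans.eq_1.{0}
  have := @_root_.groupCohomology.cochainsFunctor.eq_1.{0}
  have := @_root_.groupCohomology.cochainsMap₃.eq_1.{0,0}
  have := @_root_.groupCohomology.cochainsMap₁.eq_1.{0,0}
  have := @_root_.groupCohomology.mapCocycles₂.eq_1.{0,0}
  have := @_root_.groupCohomology.functor.eq_1.{0}
  trivial

theorem r19_5 : True := by
  have := @_root_.groupCohomology.mapShortComplex₂.eq_1.{0}
  have := @_root_.groupCohomology.cocyclesMkOfCompEqD.eq_1.{0}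
  have := @_root_.groupCohomology.mapShortComplex₁.eq_1.{0}
  have := @_root_.groupCohomology.mapShortComplex₁.congr_simp.{0}
  have := @_root_.groupCohomology.mapShortComplex₃.eq_1.{0}
  have := @_root_.groupCohomology.mapShortComplex₃.congr_simp.{0}
  have := @_root_.groupCohomology.δ.eq_1.{0}
  have := @_root_.groupCohomology.linearYonedaObjResProjectiveResolutionIso.eq_1.{0}
  have := @_root_.groupCohomology.coindIso.eq_1.{0}
  have := @_root_.groupHomologyIso.eq_1.{0}
  have := @_root_.Rep.Tor.eq_1.{0}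
  have := @_root_.groupHomology.inhomogeneousChainsIso.eq_1.{0}
  have := @_root_.groupHomology.toCycles.eq_1.{0}
  have := @_root_.HomologicalComplex.coinvariantsTensorObj.eq_1.{0,0}
  have := @_root_.groupHomology.inhomogeneousChains.eq_1.{0}
  have := @_root_.groupHomology.iCycles.eq_1.{0}
  have := @_root_.groupHomologyIsoTor.eq_1.{0}
  have := @_root_.groupHomology.cycles.eq_1.{0}
  have := @_root_.groupHomology.π.eq_1.{0}
  have := @_root_.Rep.torIso.eq_1.{0}
  have := @_root_.groupHomology.cyclesMk.eq_1.{0}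
  have := @_root_.groupHomology.isoShortComplexH1.eq_1.{0}
  have := @_root_.groupHomology.mkH1OfIsTrivial.eq_1.{0}
  have := @_root_.groupHomology.boundariesToCycles₂.eq_1.{0}
  have := @_root_.groupHomology.IsBoundary₀.eq_1.{0,0}
  have := @_root_.groupHomology.opcyclesIso₀.eq_1.{0}
  have := @_root_.groupHomology.boundariesOfIsBoundary₂.eq_1.{0}
  have := @_root_.groupHomology.boundariesOfIsBoundary₂.congr_simp.{0}
  have := @_root_.groupHomology.H1.eq_1.{0}
  have := @_root_.groupHomology.isoShortComplexH2.eq_1.{0}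
  trivial

theorem r19_6 : True := by
  have := @_root_.groupHomology.IsBoundary₁.eq_1.{0,0}
  have := @_root_.groupHomology.H2.eq_1.{0}
  have := @_root_.groupHomology.d₁₀ArrowIso.eq_1.{0}
  have := @_root_.groupHomology.IsBoundary₂.eq_1.{0,0}
  have := @_root_.groupHomology.boundariesOfIsBoundary₁.eq_1.{0}
  have := @_root_.groupHomology.boundariesOfIsBoundary₁.congr_simp.{0}
  have := @_root_.groupHomology.shortComplexH0.eq_1.{0}
  have := @_root_.groupHomology.cyclesOfIsCycle₁.eq_1.{0}
  have := @_root_.groupHomology.cyclesOfIsCycle₁.congr_simp.{0}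
  have := @_root_.groupHomology.cyclesOfIsCycle₂.eq_1.{0}
  have := @_root_.groupHomology.cyclesOfIsCycle₂.congr_simp.{0}
  have := @_root_.groupHomology.H1AddEquivOfIsTrivial.eq_1.{0}
  have := @_root_.groupHomology.H1AddEquivOfIsTrivial.congr_simp.{0}
  have := @_root_.groupHomology.coinvariantsKerOfIsBoundary₀.eq_1.{0}
  have := @_root_.groupHomology.coinvariantsKerOfIsBoundary₀.congr_simp.{0}
  have := @_root_.groupHomology.boundariesToCycles₁.eq_1.{0}
  have := @_root_.groupHomology.H0.eq_1.{0}
  have := @_root_.Rep.FiniteCyclicGroup.groupHomologyπOdd.eq_1.{0}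
  have := @_root_.Rep.FiniteCyclicGroup.groupHomologyπOdd.congr_simp.{0}
  have := @_root_.Rep.FiniteCyclicGroup.groupHomologyIso₀.eq_1.{0}
  have := @_root_.Rep.FiniteCyclicGroup.groupHomologyIso₀.congr_simp.{0}
  have := @_root_.Rep.FiniteCyclicGroup.groupHomologyIsoEven.eq_1.{0}
  have := @_root_.Rep.FiniteCyclicGroup.coinvariantsTensorResolutionIso.eq_1.{0}
  have := @_root_.Rep.FiniteCyclicGroup.groupHomologyIsoOdd.eq_1.{0}
  have := @_root_.Rep.FiniteCyclicGroup.groupHomologyπEven.eq_1.{0}
  have := @_root_.Rep.FiniteCyclicGroup.groupHomologyπEven.congr_simp.{0}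
  have := @_root_.groupHomology.coresNatTrans.eq_1.{0}
  have := @_root_.groupHomology.functor.eq_1.{0}
  have := @_root_.groupHomology.mapCycles₂.eq_1.{0}
  have := @_root_.groupHomology.mapIso.eq_1.{0}
  trivial

theorem r19_7 : True := by
  have := @_root_.groupHomology.mapIso.congr_simp.{0}
  have := @_root_.groupHomology.chainsFunctor.eq_1.{0}
  have := @_root_.groupHomology.chainsMap.eq_1.{0}
  have := @_root_.groupHomology.chainsMap₃.eq_1.{0,0}
  have := @_root_.groupHomology.H1CoresCoinfOfTrivial.eq_1.{0}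
  have := @_root_.groupHomology.H1CoresCoinfOfTrivial.congr_simp.{0}
  have := @_root_.groupHomology.H1CoresCoinf.eq_1.{0}
  have := @_root_.groupHomology.H1CoresCoinf.congr_simp.{0}
  have := @_root_.groupHomology.coinfNatTrans.eq_1.{0}
  have := @_root_.groupHomology.chainsMap₁.eq_1.{0,0}
  have := @_root_.groupHomology.mapCycles₁.eq_1.{0}
  have := @_root_.groupHomology.cyclesMap.eq_1.{0}
  have := @_root_.groupHomology.chainsMap₂.eq_1.{0,0}
  have := @_root_.groupHomology.cyclesMkOfCompEqD.eq_1.{0}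
  have := @_root_.groupHomology.δ.eq_1.{0}
  have := @_root_.groupHomology.mapShortComplex₂.eq_1.{0}
  have := @_root_.groupHomology.mapShortComplex₁.eq_1.{0}
  have := @_root_.groupHomology.mapShortComplex₁.congr_simp.{0}
  have := @_root_.groupHomology.mapShortComplex₃.eq_1.{0}
  have := @_root_.groupHomology.mapShortComplex₃.congr_simp.{0}
  have := @_root_.groupHomology.coinvariantsTensorResProjectiveResolutionIso.eq_1.{0}
  have := @_root_.groupHomology.indIso.eq_1.{0}
  have := @_root_.TateCohomology.isoGroupHomology.eq_1.{0}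
  have := @_root_.TateCohomology.isoGroupHomology.congr_simp.{0}
  have := @_root_.TateCohomology.isoGroupCohomology.eq_1.{0}
  have := @_root_.TateCohomology.isoGroupCohomology.congr_simp.{0}
  have := @_root_.TateCohomology.tateComplex.evalNonneg.eq_1.{0}
  have := @_root_.TateCohomology.tateComplex.evalNeg.eq_1.{0}
  have := @_root_.tateComplexFunctor.eq_1.{0}
  have := @_root_.tateComplexConnectData.eq_1.{0}
  trivial

theorem r19_8 : True := by
  have := @_root_.tateComplex.map.eq_1.{0}
  have := @_root_.TateCohomology.δ.eq_1.{0}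
  have := @_root_.TateCohomology.δ.congr_simp.{0}
  have := @_root_.tateComplex.eq_1.{0}
  have := @_root_.tateCohomology.eq_1.{0}
  have := @_root_.TannakaDuality.FiniteGroup.equivApp.eq_1.{0}
  have := @_root_.TannakaDuality.FiniteGroup.sumSMulInv.eq_1.{0}
  have := @_root_.TannakaDuality.FiniteGroup.rightRegular.eq_1.{0}
  have := @_root_.TannakaDuality.FiniteGroup.algHomOfRightFDRepComp.eq_1.{0}
  have := @_root_.TannakaDuality.FiniteGroup.forget.eq_1.{0}
  have := @_root_.TannakaDuality.FiniteGroup.equivHom.eq_1.{0}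
  have := @_root_.TannakaDuality.FiniteGroup.leftRegular.eq_1.{0}
  have := @_root_.TannakaDuality.FiniteGroup.leftRegularFDRepHom.eq_1.{0}
  have := @_root_.TannakaDuality.FiniteGroup.rightFDRep.congr_simp.{0}
  have := @_root_.TannakaDuality.FiniteGroup.mulRepHom.eq_1.{0}
  have := @_root_.TannakaDuality.FiniteGroup.ofRightFDRep.eq_1.{0}
  have := @_root_.TannakaDuality.FiniteGroup.equiv.eq_1.{0}
  have := @_root_.TannakaDuality.FiniteGroup.equiv.congr_simp.{0}
  have := @_root_.Algebra.HasGoingUp.mk.congr_simp.{0,0}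
  have := @_root_.iSupIndep.algEquiv.eq_1.{0,0,0,0}
  have := @_root_.iSupIndep.algEquiv.congr_simp.{0,0,0,0}
  have := @_root_.IsSemisimpleModule.endRingEquiv.eq_1.{0,0}
  have := @_root_.IsSemisimpleModule.endRingEquiv.congr_simp.{0,0}
  have := @_root_.GaloisCoinsertion.setIsotypicComponents.eq_1.{0,0}
  have := @_root_.iSupIndep.ringEquiv.eq_1.{0,0,0}
  have := @_root_.iSupIndep.ringEquiv.congr_simp.{0,0,0}
  have := @_root_.OrderIso.setIsotypicComponents.congr_simp.{0,0}
  have := @_root_.IsSemisimpleModule.endAlgEquiv.eq_1.{0,0,0}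
  have := @_root_.IsSemisimpleModule.endAlgEquiv.congr_simp.{0,0,0}
  have := @_root_.IsIsotypicOfType.eq_1.{0,0,0}
  trivial

theorem r19_9 : True := by
  have := @_root_.fullyInvariantSubmodule.eq_1.{0,0}
  have := @_root_.isotypicComponents.eq_1.{0,0}
  trivial

end CL.BaseAux
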