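import Cfsg.Agent.Base.Imports

/-! On-demand lemmas of Prelude and Mathlib definitions, produced once here so that no other file holds a copy. -/

set_option linter.all false

namespace CL.BaseAux

theorem r2_0 : True := by
  have := @_root_.Cfsg.Lie.chevE8Chain32.eq_1
  have := @_root_.Cfsg.Lie.chevE8Chain33.eq_1
  have := @_root_.Cfsg.Lie.chevE8Chain34.eq_1
  have := @_root_.Cfsg.Lie.chevE8Chain35.eq_1
  have := @_root_.Cfsg.Lie.chevE8Chain36.eq_1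
  have := @_root_.Cfsg.Lie.chevE8Chain37.eq_1
  have := @_root_.Cfsg.Lie.chevE8Chain38.eq_1
  have := @_root_.Cfsg.Lie.chevE8Chain39.eq_1
  have := @_root_.Cfsg.Lie.chevE8Chain4.eq_1
  have := @_root_.Cfsg.Lie.chevE8Chain40.eq_1
  have := @_root_.Cfsg.Lie.chevE8Chain41.eq_1
  have := @_root_.Cfsg.Lie.chevE8Chain42.eq_1
  have := @_root_.Cfsg.Lie.chevE8Chain43.eq_1
  have := @_root_.Cfsg.Lie.chevE8Chain44.eq_1
  have := @_root_.Cfsg.Lie.chevE8Chain45.eq_1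
  have := @_root_.Cfsg.Lie.chevE8Chain46.eq_1
  have := @_root_.Cfsg.Lie.chevE8Chain47.eq_1
  have := @_root_.Cfsg.Lie.chevE8Chain48.eq_1
  have := @_root_.Cfsg.Lie.chevE8Chain49.eq_1
  have := @_root_.Cfsg.Lie.chevE8Chain5.eq_1
  have := @_root_.Cfsg.Lie.chevE8Chain50.eq_1
  have := @_root_.Cfsg.Lie.chevE8Chain51.eq_1
  have := @_root_.Cfsg.Lie.chevE8Chain52.eq_1
  have := @_root_.Cfsg.Lie.chevE8Chain53.eq_1
  have := @_root_.Cfsg.Lie.chevE8Chain54.eq_1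
  have := @_root_.Cfsg.Lie.chevE8Chain55.eq_1
  have := @_root_.Cfsg.Lie.chevE8Chain56.eq_1
  have := @_root_.Cfsg.Lie.chevE8Chain57.eq_1
  have := @_root_.Cfsg.Lie.chevE8Chain58.eq_1
  have := @_root_.Cfsg.Lie.chevE8Chain59.eq_1
  trivial

theorem r2_1 : True := by
  have := @_root_.Cfsg.Lie.chevE8Chain6.eq_1
  have := @_root_.Cfsg.Lie.chevE8Chain60.eq_1
  have := @_root_.Cfsg.Lie.chevE8Chain61.eq_1
  have := @_root_.Cfsg.Lie.chevE8Chain62.eq_1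
  have := @_root_.Cfsg.Lie.chevE8Chain63.eq_1
  have := @_root_.Cfsg.Lie.chevE8Chain64.eq_1
  have := @_root_.Cfsg.Lie.chevE8Chain65.eq_1
  have := @_root_.Cfsg.Lie.chevE8Chain66.eq_1
  have := @_root_.Cfsg.Lie.chevE8Chain67.eq_1
  have := @_root_.Cfsg.Lie.chevE8Chain68.eq_1
  have := @_root_.Cfsg.Lie.chevE8Chain69.eq_1
  have := @_root_.Cfsg.Lie.chevE8Chain7.eq_1
  have := @_root_.Cfsg.Lie.chevE8Chain70.eq_1
  have := @_root_.Cfsg.Lie.chevE8Chain71.eq_1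
  have := @_root_.Cfsg.Lie.chevE8Chain72.eq_1
  have := @_root_.Cfsg.Lie.chevE8Chain73.eq_1
  have := @_root_.Cfsg.Lie.chevE8Chain74.eq_1
  have := @_root_.Cfsg.Lie.chevE8Chain75.eq_1
  have := @_root_.Cfsg.Lie.chevE8Chain76.eq_1
  have := @_root_.Cfsg.Lie.chevE8Chain77.eq_1
  have := @_root_.Cfsg.Lie.chevE8Chain78.eq_1
  have := @_root_.Cfsg.Lie.chevE8Chain79.eq_1
  have := @_root_.Cfsg.Lie.chevE8Chain8.eq_1
  have := @_root_.Cfsg.Lie.chevE8Chain80.eq_1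
  have := @_root_.Cfsg.Lie.chevE8Chain81.eq_1
  have := @_root_.Cfsg.Lie.chevE8Chain82.eq_1
  have := @_root_.Cfsg.Lie.chevE8Chain83.eq_1
  have := @_root_.Cfsg.Lie.chevE8Chain84.eq_1
  have := @_root_.Cfsg.Lie.chevE8Chain85.eq_1
  have := @_root_.Cfsg.Lie.chevE8Chain86.eq_1
  trivial

theorem r2_2 : True := by
  have := @_root_.Cfsg.Lie.chevE8Chain87.eq_1
  have := @_root_.Cfsg.Lie.chevE8Chain88.eq_1
  have := @_root_.Cfsg.Lie.chevE8Chain89.eq_1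
  have := @_root_.Cfsg.Lie.chevE8Chain9.eq_1
  have := @_root_.Cfsg.Lie.chevE8Chain90.eq_1
  have := @_root_.Cfsg.Lie.chevE8Chain91.eq_1
  have := @_root_.Cfsg.Lie.chevE8Chain92.eq_1
  have := @_root_.Cfsg.Lie.chevE8Chain93.eq_1
  have := @_root_.Cfsg.Lie.chevE8Chain94.eq_1
  have := @_root_.Cfsg.Lie.chevE8Chain95.eq_1
  have := @_root_.Cfsg.Lie.chevE8Chain96.eq_1
  have := @_root_.Cfsg.Lie.chevE8Chain97.eq_1
  have := @_root_.Cfsg.Lie.chevE8Chain98.eq_1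
  have := @_root_.Cfsg.Lie.chevE8Chain99.eq_1
  have := @_root_.Cfsg.Lie.chevE8Coroot.eq_1
  have := @_root_.Cfsg.Lie.chevE8NegIdx.eq_1
  have := @_root_.Cfsg.Lie.chevE8SimpleIdx.eq_1
  have := @_root_.Cfsg.Lie.chevF4.eq_1
  have := @_root_.Cfsg.Lie.chevF4CartanSR.eq_1
  have := @_root_.Cfsg.Lie.chevF4Chain.eq_1
  have := @_root_.Cfsg.Lie.chevF4Chain0.eq_1
  have := @_root_.Cfsg.Lie.chevF4Chain1.eq_1
  have := @_root_.Cfsg.Lie.chevF4Chain10.eq_1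
  have := @_root_.Cfsg.Lie.chevF4Chain11.eq_1
  have := @_root_.Cfsg.Lie.chevF4Chain12.eq_1
  have := @_root_.Cfsg.Lie.chevF4Chain13.eq_1
  have := @_root_.Cfsg.Lie.chevF4Chain14.eq_1
  have := @_root_.Cfsg.Lie.chevF4Chain15.eq_1
  have := @_root_.Cfsg.Lie.chevF4Chain16.eq_1
  have := @_root_.Cfsg.Lie.chevF4Chain17.eq_1
  trivial

theorem r2_3 : True := by
  have := @_root_.Cfsg.Lie.chevF4Chain18.eq_1
  have := @_root_.Cfsg.Lie.chevF4Chain19.eq_1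
  have := @_root_.Cfsg.Lie.chevF4Chain2.eq_1
  have := @_root_.Cfsg.Lie.chevF4Chain20.eq_1
  have := @_root_.Cfsg.Lie.chevF4Chain21.eq_1
  have := @_root_.Cfsg.Lie.chevF4Chain22.eq_1
  have := @_root_.Cfsg.Lie.chevF4Chain23.eq_1
  have := @_root_.Cfsg.Lie.chevF4Chain24.eq_1
  have := @_root_.Cfsg.Lie.chevF4Chain25.eq_1
  have := @_root_.Cfsg.Lie.chevF4Chain26.eq_1
  have := @_root_.Cfsg.Lie.chevF4Chain27.eq_1
  have := @_root_.Cfsg.Lie.chevF4Chain28.eq_1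
  have := @_root_.Cfsg.Lie.chevF4Chain29.eq_1
  have := @_root_.Cfsg.Lie.chevF4Chain3.eq_1
  have := @_root_.Cfsg.Lie.chevF4Chain30.eq_1
  have := @_root_.Cfsg.Lie.chevF4Chain31.eq_1
  have := @_root_.Cfsg.Lie.chevF4Chain32.eq_1
  have := @_root_.Cfsg.Lie.chevF4Chain33.eq_1
  have := @_root_.Cfsg.Lie.chevF4Chain34.eq_1
  have := @_root_.Cfsg.Lie.chevF4Chain35.eq_1
  have := @_root_.Cfsg.Lie.chevF4Chain36.eq_1
  have := @_root_.Cfsg.Lie.chevF4Chain37.eq_1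
  have := @_root_.Cfsg.Lie.chevF4Chain38.eq_1
  have := @_root_.Cfsg.Lie.chevF4Chain39.eq_1
  have := @_root_.Cfsg.Lie.chevF4Chain4.eq_1
  have := @_root_.Cfsg.Lie.chevF4Chain40.eq_1
  have := @_root_.Cfsg.Lie.chevF4Chain41.eq_1
  have := @_root_.Cfsg.Lie.chevF4Chain42.eq_1
  have := @_root_.Cfsg.Lie.chevF4Chain43.eq_1
  have := @_root_.Cfsg.Lie.chevF4Chain44.eq_1
  trivial

theorem r2_4 : True := by
  have := @_root_.Cfsg.Lie.chevF4Chain45.eq_1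
  have := @_root_.Cfsg.Lie.chevF4Chain46.eq_1
  have := @_root_.Cfsg.Lie.chevF4Chain47.eq_1
  have := @_root_.Cfsg.Lie.chevF4Chain5.eq_1
  have := @_root_.Cfsg.Lie.chevF4Chain6.eq_1
  have := @_root_.Cfsg.Lie.chevF4Chain7.eq_1
  have := @_root_.Cfsg.Lie.chevF4Chain8.eq_1
  have := @_root_.Cfsg.Lie.chevF4Chain9.eq_1
  have := @_root_.Cfsg.Lie.chevF4Coroot.eq_1
  have := @_root_.Cfsg.Lie.chevF4NegIdx.eq_1
  have := @_root_.Cfsg.Lie.chevF4SimpleIdx.eq_1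
  have := @_root_.Cfsg.Lie.chevG2.eq_1
  have := @_root_.Cfsg.Lie.chevG2CartanSR.eq_1
  have := @_root_.Cfsg.Lie.chevG2Chain.eq_1
  have := @_root_.Cfsg.Lie.chevG2Chain0.eq_1
  have := @_root_.Cfsg.Lie.chevG2Chain1.eq_1
  have := @_root_.Cfsg.Lie.chevG2Chain10.eq_1
  have := @_root_.Cfsg.Lie.chevG2Chain11.eq_1
  have := @_root_.Cfsg.Lie.chevG2Chain2.eq_1
  have := @_root_.Cfsg.Lie.chevG2Chain3.eq_1
  have := @_root_.Cfsg.Lie.chevG2Chain4.eq_1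
  have := @_root_.Cfsg.Lie.chevG2Chain5.eq_1
  have := @_root_.Cfsg.Lie.chevG2Chain6.eq_1
  have := @_root_.Cfsg.Lie.chevG2Chain7.eq_1
  have := @_root_.Cfsg.Lie.chevG2Chain8.eq_1
  have := @_root_.Cfsg.Lie.chevG2Chain9.eq_1
  have := @_root_.Cfsg.Lie.chevG2Coroot.eq_1
  have := @_root_.Cfsg.Lie.chevG2NegIdx.eq_1
  have := @_root_.Cfsg.Lie.chevG2SimpleIdx.eq_1
  have := @_root_.Cfsg.Lie.coxeterD4.eq_1
  trivial

theorem r2_5 : True := by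
  have := @_root_.Cfsg.Lie.cubicT.eq_1.{0}
  have := @_root_.Cfsg.Lie.d4Words.eq_1.{0}
  have := @_root_.Cfsg.Lie.d4m1.eq_1
  have := @_root_.Cfsg.Lie.d4m2.eq_1
  have := @_root_.Cfsg.Lie.d4m3.eq_1
  have := @_root_.Cfsg.Lie.d4m4.eq_1
  have := @_root_.Cfsg.Lie.d4p1.eq_1
  have := @_root_.Cfsg.Lie.d4p2.eq_1
  have := @_root_.Cfsg.Lie.d4p3.eq_1
  have := @_root_.Cfsg.Lie.d4p4.eq_1
  have := @_root_.Cfsg.Lie.e6Words.eq_1.{0}
  have := @_root_.Cfsg.Lie.e6m1.eq_1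
  have := @_root_.Cfsg.Lie.e6m2.eq_1
  have := @_root_.Cfsg.Lie.e6m3.eq_1
  have := @_root_.Cfsg.Lie.e6m4.eq_1
  have := @_root_.Cfsg.Lie.e6m5.eq_1
  have := @_root_.Cfsg.Lie.e6m6.eq_1
  have := @_root_.Cfsg.Lie.e6p1.eq_1
  have := @_root_.Cfsg.Lie.e6p2.eq_1
  have := @_root_.Cfsg.Lie.e6p3.eq_1
  have := @_root_.Cfsg.Lie.e6p4.eq_1
  have := @_root_.Cfsg.Lie.e6p5.eq_1
  have := @_root_.Cfsg.Lie.e6p6.eq_1
  have := @_root_.Cfsg.Lie.f4PairWord.eq_1.{0}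
  have := @_root_.Cfsg.Lie.f4Words.eq_1.{0}
  have := @_root_.Cfsg.Lie.f4a.eq_1
  have := @_root_.Cfsg.Lie.f4aab.eq_1
  have := @_root_.Cfsg.Lie.f4ab.eq_1
  have := @_root_.Cfsg.Lie.f4b.eq_1
  have := @_root_.Cfsg.Lie.f4m1.eq_1
  trivial

theorem r2_6 : True := by
  have := @_root_.Cfsg.Lie.f4m4.eq_1
  have := @_root_.Cfsg.Lie.f4ma.eq_1
  have := @_root_.Cfsg.Lie.f4maab.eq_1
  have := @_root_.Cfsg.Lie.f4mab.eq_1
  have := @_root_.Cfsg.Lie.f4mb.eq_1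
  have := @_root_.Cfsg.Lie.f4p1.eq_1
  have := @_root_.Cfsg.Lie.f4p4.eq_1
  have := @_root_.Cfsg.Lie.formStab.eq_1.{0}
  have := @_root_.Cfsg.Lie.funStab.eq_1.{0}
  have := @_root_.Cfsg.Lie.g2Words.eq_1.{0}
  have := @_root_.Cfsg.Lie.g2a.eq_1
  have := @_root_.Cfsg.Lie.g2aaab.eq_1
  have := @_root_.Cfsg.Lie.g2aaabb.eq_1
  have := @_root_.Cfsg.Lie.g2aab.eq_1
  have := @_root_.Cfsg.Lie.g2ab.eq_1
  have := @_root_.Cfsg.Lie.g2b.eq_1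
  have := @_root_.Cfsg.Lie.g2ma.eq_1
  have := @_root_.Cfsg.Lie.g2maaab.eq_1
  have := @_root_.Cfsg.Lie.g2maaabb.eq_1
  have := @_root_.Cfsg.Lie.g2maab.eq_1
  have := @_root_.Cfsg.Lie.g2mab.eq_1
  have := @_root_.Cfsg.Lie.g2mb.eq_1
  have := @_root_.Cfsg.Lie.mat3.eq_1.{0}
  have := @_root_.Cfsg.Lie.pairOf.eq_1
  have := @_root_.Cfsg.Lie.reeWordU.eq_1.{0}
  have := @_root_.Cfsg.Lie.reeWordV.eq_1.{0}
  have := @_root_.Cfsg.Lie.star4.eq_1.{0}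
  have := @_root_.Cfsg.Lie.twistedD4.eq_1.{0}
  have := @_root_.Cfsg.Lie.twistedE6.eq_1.{0}
  have := @_root_.Cfsg.Lie.twistedF4.eq_1.{0}
  trivial

theorem r2_7 : True := by
  have := @_root_.Cfsg.Lie.twistedG2.eq_1.{0}
  have := @_root_.Cfsg.NearField.mk.congr_simp.{0}
  have := @_root_.Cfsg.NearField.toAddGroup.eq_1.{0}
  have := @_root_.Cfsg.NearField.toMonoid.eq_1.{0}
  have := @_root_.Cfsg.Spor.BabyMonster.eq_1
  have := @_root_.Cfsg.Spor.Bimonster.eq_1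
  have := @_root_.Cfsg.Spor.Co1.eq_1
  have := @_root_.Cfsg.Spor.Co2.eq_1
  have := @_root_.Cfsg.Spor.Co3.eq_1
  have := @_root_.Cfsg.Spor.CoxPresented.eq_1.{0}
  have := @_root_.Cfsg.Spor.CoxPresented.congr_simp.{0}
  have := @_root_.Cfsg.Spor.F9.eq_1
  have := @_root_.Cfsg.Spor.Fi22.eq_1
  have := @_root_.Cfsg.Spor.Fi23.eq_1
  have := @_root_.Cfsg.Spor.Fi24.eq_1
  have := @_root_.Cfsg.Spor.Fi24'.eq_1
  have := @_root_.Cfsg.Spor.HN.eq_1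
  have := @_root_.Cfsg.Spor.HS.eq_1
  have := @_root_.Cfsg.Spor.He.eq_1
  have := @_root_.Cfsg.Spor.IsIcoReflection.eq_1
  have := @_root_.Cfsg.Spor.IsoB.eq_1.{0}
  have := @_root_.Cfsg.Spor.IsoCo1.eq_1.{0}
  have := @_root_.Cfsg.Spor.IsoCo2.eq_1.{0}
  have := @_root_.Cfsg.Spor.IsoCo3.eq_1.{0}
  have := @_root_.Cfsg.Spor.IsoFi22.eq_1.{0}
  have := @_root_.Cfsg.Spor.IsoFi23.eq_1.{0}
  have := @_root_.Cfsg.Spor.IsoFi24'.eq_1.{0}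
  have := @_root_.Cfsg.Spor.IsoHN.eq_1.{0}
  have := @_root_.Cfsg.Spor.IsoHS.eq_1.{0}
  have := @_root_.Cfsg.Spor.IsoHe.eq_1.{0}
  trivial

theorem r2_8 : True := by
  have := @_root_.Cfsg.Spor.IsoJ1.eq_1.{0}
  have := @_root_.Cfsg.Spor.IsoJ2.eq_1.{0}
  have := @_root_.Cfsg.Spor.IsoJ3.eq_1.{0}
  have := @_root_.Cfsg.Spor.IsoJ4.eq_1.{0}
  have := @_root_.Cfsg.Spor.IsoLy.eq_1.{0}
  have := @_root_.Cfsg.Spor.IsoM.eq_1.{0}
  have := @_root_.Cfsg.Spor.IsoM11.eq_1.{0}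
  have := @_root_.Cfsg.Spor.IsoM12.eq_1.{0}
  have := @_root_.Cfsg.Spor.IsoM22.eq_1.{0}
  have := @_root_.Cfsg.Spor.IsoM23.eq_1.{0}
  have := @_root_.Cfsg.Spor.IsoM24.eq_1.{0}
  have := @_root_.Cfsg.Spor.IsoMcL.eq_1.{0}
  have := @_root_.Cfsg.Spor.IsoON.eq_1.{0}
  have := @_root_.Cfsg.Spor.IsoRu.eq_1.{0}
  have := @_root_.Cfsg.Spor.IsoSuz.eq_1.{0}
  have := @_root_.Cfsg.Spor.IsoTh.eq_1.{0}
  have := @_root_.Cfsg.Spor.J1.eq_1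
  have := @_root_.Cfsg.Spor.J2.eq_1
  have := @_root_.Cfsg.Spor.J3.eq_1.{0}
  have := @_root_.Cfsg.Spor.J4.eq_1
  have := @_root_.Cfsg.Spor.Ly.eq_1
  have := @_root_.Cfsg.Spor.M11.eq_1
  have := @_root_.Cfsg.Spor.M12.eq_1
  have := @_root_.Cfsg.Spor.M22.eq_1
  have := @_root_.Cfsg.Spor.M23.eq_1
  have := @_root_.Cfsg.Spor.McL.eq_1
  have := @_root_.Cfsg.Spor.Monster.eq_1
  have := @_root_.Cfsg.Spor.ON.eq_1
  have := @_root_.Cfsg.Spor.Ru.eq_1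
  have := @_root_.Cfsg.Spor.RuIdx.eq_1
  trivial

theorem r2_9 : True := by
  have := @_root_.Cfsg.Spor.RuVec.eq_1
  have := @_root_.Cfsg.Spor.Suz.eq_1
  have := @_root_.Cfsg.Spor.Th.eq_1
  have := @_root_.Cfsg.Spor.coxLabel.eq_1.{0}
  have := @_root_.Cfsg.Spor.coxLabel.congr_simp.{0}
  have := @_root_.Cfsg.Spor.coxNodes.eq_1.{0}
  have := @_root_.Cfsg.Spor.coxRelators.eq_1.{0}
  have := @_root_.Cfsg.Spor.coxRelators.congr_simp.{0}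
  have := @_root_.Cfsg.Spor.fourRu.eq_1
  have := @_root_.Cfsg.Spor.gI.eq_1
  have := @_root_.Cfsg.Spor.icoH.eq_1
  have := @_root_.Cfsg.Spor.icoLeech.eq_1
  have := @_root_.Cfsg.Spor.icosians.eq_1
  have := @_root_.Cfsg.Spor.j3A.eq_1.{0}
  have := @_root_.Cfsg.Spor.j3B.eq_1.{0}
  have := @_root_.Cfsg.Spor.j3C.eq_1.{0}
  have := @_root_.Cfsg.Spor.j3D.eq_1.{0}
  have := @_root_.Cfsg.Spor.j3E.eq_1.{0}
  have := @_root_.Cfsg.Spor.j3Gens.eq_1.{0}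
  have := @_root_.Cfsg.Spor.j3Lam.eq_1.{0}
  have := @_root_.Cfsg.Spor.jankoX.eq_1
  have := @_root_.Cfsg.Spor.jankoY.eq_1
  have := @_root_.Cfsg.Spor.leechU.eq_1
  have := @_root_.Cfsg.Spor.leechU'.eq_1
  have := @_root_.Cfsg.Spor.leechV.eq_1
  have := @_root_.Cfsg.Spor.leftIdeal.eq_1
  have := @_root_.Cfsg.Spor.omegaPow.eq_1.{0}
  have := @_root_.Cfsg.Spor.qI.eq_1
  have := @_root_.Cfsg.Spor.qip.eq_1
  have := @_root_.Cfsg.Spor.qrefl.eq_1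
  trivial

theorem r2_10 : True := by
  have := @_root_.Cfsg.Spor.ruClosed.eq_1
  have := @_root_.Cfsg.Spor.ruI.eq_1
  have := @_root_.Cfsg.Spor.ruNorm.eq_1
  have := @_root_.Cfsg.Spor.ruOfArray.eq_1
  have := @_root_.Cfsg.Spor.ruRj.eq_1
  have := @_root_.Cfsg.Spor.ruRk.eq_1
  have := @_root_.Cfsg.Spor.ruShift.eq_1
  have := @_root_.Cfsg.Spor.ruSign.eq_1
  have := @_root_.Cfsg.Spor.ruTable.eq_1
  have := @_root_.Cfsg.Spor.sig.eq_1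
  have := @_root_.Cfsg.Spor.squareDodecad.eq_1
  have := @_root_.Cfsg.Spor.tau.eq_1
  have := @_root_.Cfsg.Spor.threeJ3.eq_1.{0}
  have := @_root_.Cfsg.Spor.twoJ2.eq_1
  have := @_root_.Cfsg.Spor.vecU.eq_1
  have := @_root_.Cfsg.Spor.vecU'.eq_1
  have := @_root_.Cfsg.Spor.vecV.eq_1
  have := @_root_.Cfsg.Lie.ChevalleyDatum.CurtisTitsGroup.eq_1.{0}
  have := @_root_.Cfsg.Lie.ChevalleyDatum.Idx.eq_1
  have := @_root_.Cfsg.Lie.ChevalleyDatum.InRankTwoSub.eq_1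
  have := @_root_.Cfsg.Lie.ChevalleyDatum.InRootSub.eq_1
  have := @_root_.Cfsg.Lie.ChevalleyDatum.IsGroupOver.eq_1.{0}
  have := @_root_.Cfsg.Lie.ChevalleyDatum.IsNegRoot.eq_1
  have := @_root_.Cfsg.Lie.ChevalleyDatum.IsPosRoot.eq_1
  have := @_root_.Cfsg.Lie.ChevalleyDatum.SteinbergGroup.eq_1.{0}
  have := @_root_.Cfsg.Lie.ChevalleyDatum.borelSubgroup.eq_1.{0}
  have := @_root_.Cfsg.Lie.ChevalleyDatum.cartan.eq_1
  have := @_root_.Cfsg.Lie.ChevalleyDatum.cartanSR.eq_1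
  have := @_root_.Cfsg.Lie.ChevalleyDatum.chain.eq_1
  have := @_root_.Cfsg.Lie.ChevalleyDatum.chainCoeff.eq_1
  trivial

theorem r2_11 : True := by
  have := @_root_.Cfsg.Lie.ChevalleyDatum.chainEntry.eq_1
  have := @_root_.Cfsg.Lie.ChevalleyDatum.chainM.eq_1
  have := @_root_.Cfsg.Lie.ChevalleyDatum.chainRoot.eq_1
  have := @_root_.Cfsg.Lie.ChevalleyDatum.commTerms.eq_1
  have := @_root_.Cfsg.Lie.ChevalleyDatum.commWord.eq_1.{0}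
  have := @_root_.Cfsg.Lie.ChevalleyDatum.coroot.eq_1
  have := @_root_.Cfsg.Lie.ChevalleyDatum.curtisTitsRels.eq_1.{0}
  have := @_root_.Cfsg.Lie.ChevalleyDatum.diagonalSubgroup.eq_1.{0}
  have := @_root_.Cfsg.Lie.ChevalleyDatum.genSubgroup.eq_1.{0}
  have := @_root_.Cfsg.Lie.ChevalleyDatum.group.eq_1.{0}
  have := @_root_.Cfsg.Lie.ChevalleyDatum.hMat.eq_1.{0}
  have := @_root_.Cfsg.Lie.ChevalleyDatum.hWord.eq_1.{0}
  have := @_root_.Cfsg.Lie.ChevalleyDatum.instDecidableIsNegRoot.eq_1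
  have := @_root_.Cfsg.Lie.ChevalleyDatum.instDecidableIsPosRoot.eq_1
  have := @_root_.Cfsg.Lie.ChevalleyDatum.leviSubgroup.eq_1.{0}
  have := @_root_.Cfsg.Lie.ChevalleyDatum.monomialSubgroup.eq_1.{0}
  have := @_root_.Cfsg.Lie.ChevalleyDatum.nMat.eq_1.{0}
  have := @_root_.Cfsg.Lie.ChevalleyDatum.nWord.eq_1.{0}
  have := @_root_.Cfsg.Lie.ChevalleyDatum.neg.eq_1
  have := @_root_.Cfsg.Lie.ChevalleyDatum.negIdx.eq_1
  have := @_root_.Cfsg.Lie.ChevalleyDatum.negRoots.eq_1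
  have := @_root_.Cfsg.Lie.ChevalleyDatum.negUnipotent.eq_1.{0}
  have := @_root_.Cfsg.Lie.ChevalleyDatum.negWord.eq_1.{0}
  have := @_root_.Cfsg.Lie.ChevalleyDatum.nroots.eq_1
  have := @_root_.Cfsg.Lie.ChevalleyDatum.parabolicSubgroup.eq_1.{0}
  have := @_root_.Cfsg.Lie.ChevalleyDatum.posRoots.eq_1
  have := @_root_.Cfsg.Lie.ChevalleyDatum.posUnipotent.eq_1.{0}
  have := @_root_.Cfsg.Lie.ChevalleyDatum.rank.eq_1
  have := @_root_.Cfsg.Lie.ChevalleyDatum.reflectRoot.eq_1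
  have := @_root_.Cfsg.Lie.ChevalleyDatum.rootSubgroup.eq_1.{0}
  trivial

theorem r2_12 : True := by
  have := @_root_.Cfsg.Lie.ChevalleyDatum.simple.eq_1
  have := @_root_.Cfsg.Lie.ChevalleyDatum.simpleIdx.eq_1
  have := @_root_.Cfsg.Lie.ChevalleyDatum.stGen.eq_1.{0}
  have := @_root_.Cfsg.Lie.ChevalleyDatum.stH.eq_1.{0}
  have := @_root_.Cfsg.Lie.ChevalleyDatum.stN.eq_1.{0}
  have := @_root_.Cfsg.Lie.ChevalleyDatum.stWord.eq_1.{0}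
  have := @_root_.Cfsg.Lie.ChevalleyDatum.stX.eq_1.{0}
  have := @_root_.Cfsg.Lie.ChevalleyDatum.steinbergRels.eq_1.{0}
  have := @_root_.Cfsg.Lie.ChevalleyDatum.unipotentRadical.eq_1.{0}
  have := @_root_.Cfsg.Lie.ChevalleyDatum.wordMat.eq_1.{0}
  have := @_root_.Cfsg.Lie.ChevalleyDatum.x.eq_1.{0}
  have := @_root_.Cfsg.Lie.ChevalleyDatum.xMat.eq_1.{0}
  have := @_root_.Cfsg.Spor.BabyMonster.edges.eq_1
  have := @_root_.Cfsg.Spor.BabyMonster.extra.eq_1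
  have := @_root_.Cfsg.Spor.BabyMonster.instDecidableEqGen.eq_1
  have := @_root_.Cfsg.Spor.BabyMonster.t1.eq_1
  have := @_root_.Cfsg.Spor.BabyMonster.t10.eq_1
  have := @_root_.Cfsg.Spor.BabyMonster.t11.eq_1
  have := @_root_.Cfsg.Spor.BabyMonster.t2.eq_1
  have := @_root_.Cfsg.Spor.BabyMonster.t3.eq_1
  have := @_root_.Cfsg.Spor.BabyMonster.t4.eq_1
  have := @_root_.Cfsg.Spor.BabyMonster.t5.eq_1
  have := @_root_.Cfsg.Spor.BabyMonster.t6.eq_1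
  have := @_root_.Cfsg.Spor.BabyMonster.t7.eq_1
  have := @_root_.Cfsg.Spor.BabyMonster.t8.eq_1
  have := @_root_.Cfsg.Spor.BabyMonster.t9.eq_1
  have := @_root_.Cfsg.Spor.Bimonster.a.eq_1
  have := @_root_.Cfsg.Spor.Bimonster.b1.eq_1
  have := @_root_.Cfsg.Spor.Bimonster.b2.eq_1
  have := @_root_.Cfsg.Spor.Bimonster.b3.eq_1
  trivial

theorem r2_13 : True := by
  have := @_root_.Cfsg.Spor.Bimonster.c1.eq_1
  have := @_root_.Cfsg.Spor.Bimonster.c2.eq_1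
  have := @_root_.Cfsg.Spor.Bimonster.c3.eq_1
  have := @_root_.Cfsg.Spor.Bimonster.d1.eq_1
  have := @_root_.Cfsg.Spor.Bimonster.d2.eq_1
  have := @_root_.Cfsg.Spor.Bimonster.d3.eq_1
  have := @_root_.Cfsg.Spor.Bimonster.e1.eq_1
  have := @_root_.Cfsg.Spor.Bimonster.e2.eq_1
  have := @_root_.Cfsg.Spor.Bimonster.e3.eq_1
  have := @_root_.Cfsg.Spor.Bimonster.edges.eq_1
  have := @_root_.Cfsg.Spor.Bimonster.extra.eq_1
  have := @_root_.Cfsg.Spor.Bimonster.f1.eq_1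
  have := @_root_.Cfsg.Spor.Bimonster.f2.eq_1
  have := @_root_.Cfsg.Spor.Bimonster.f3.eq_1
  have := @_root_.Cfsg.Spor.Bimonster.instDecidableEqGen.eq_1
  have := @_root_.Cfsg.Spor.F9.I.eq_1
  have := @_root_.Cfsg.Spor.F9.div.eq_1
  have := @_root_.Cfsg.Spor.F9.inv.eq_1
  have := @_root_.Cfsg.Spor.F9.mul.eq_1
  have := @_root_.Cfsg.Spor.F9.one.eq_1
  have := @_root_.Cfsg.Spor.Fi22.a.eq_1
  have := @_root_.Cfsg.Spor.Fi22.b.eq_1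
  have := @_root_.Cfsg.Spor.Fi22.c.eq_1
  have := @_root_.Cfsg.Spor.Fi22.d.eq_1
  have := @_root_.Cfsg.Spor.Fi22.e.eq_1
  have := @_root_.Cfsg.Spor.Fi22.edges.eq_1
  have := @_root_.Cfsg.Spor.Fi22.extra.eq_1
  have := @_root_.Cfsg.Spor.Fi22.f.eq_1
  have := @_root_.Cfsg.Spor.Fi22.g.eq_1
  have := @_root_.Cfsg.Spor.Fi22.h.eq_1
  trivial

theorem r2_14 : True := by
  have := @_root_.Cfsg.Spor.Fi22.i.eq_1
  have := @_root_.Cfsg.Spor.Fi22.instDecidableEqGen.eq_1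
  have := @_root_.Cfsg.Spor.Fi23.a.eq_1
  have := @_root_.Cfsg.Spor.Fi23.b.eq_1
  have := @_root_.Cfsg.Spor.Fi23.c.eq_1
  have := @_root_.Cfsg.Spor.Fi23.d.eq_1
  have := @_root_.Cfsg.Spor.Fi23.e.eq_1
  have := @_root_.Cfsg.Spor.Fi23.edges.eq_1
  have := @_root_.Cfsg.Spor.Fi23.extra.eq_1
  have := @_root_.Cfsg.Spor.Fi23.f.eq_1
  have := @_root_.Cfsg.Spor.Fi23.g.eq_1
  have := @_root_.Cfsg.Spor.Fi23.h.eq_1
  have := @_root_.Cfsg.Spor.Fi23.i.eq_1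
  have := @_root_.Cfsg.Spor.Fi23.instDecidableEqGen.eq_1
  have := @_root_.Cfsg.Spor.Fi23.j.eq_1
  have := @_root_.Cfsg.Spor.Fi24.a.eq_1
  have := @_root_.Cfsg.Spor.Fi24.b.eq_1
  have := @_root_.Cfsg.Spor.Fi24.c.eq_1
  have := @_root_.Cfsg.Spor.Fi24.d.eq_1
  have := @_root_.Cfsg.Spor.Fi24.e.eq_1
  have := @_root_.Cfsg.Spor.Fi24.edges.eq_1
  have := @_root_.Cfsg.Spor.Fi24.extra.eq_1
  have := @_root_.Cfsg.Spor.Fi24.f.eq_1
  have := @_root_.Cfsg.Spor.Fi24.g.eq_1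
  have := @_root_.Cfsg.Spor.Fi24.h.eq_1
  have := @_root_.Cfsg.Spor.Fi24.i.eq_1
  have := @_root_.Cfsg.Spor.Fi24.instDecidableEqGen.eq_1
  have := @_root_.Cfsg.Spor.Fi24.j.eq_1
  have := @_root_.Cfsg.Spor.Fi24.k.eq_1
  have := @_root_.Cfsg.Spor.Fi24.l.eq_1
  trivial

theorem r2_15 : True := by
  have := @_root_.Cfsg.Spor.HN.edges.eq_1
  have := @_root_.Cfsg.Spor.HN.extra.eq_1
  have := @_root_.Cfsg.Spor.HN.instDecidableEqGen.eq_1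
  have := @_root_.Cfsg.Spor.HN.t.eq_1
  have := @_root_.Cfsg.Spor.HN.x.eq_1
  have := @_root_.Cfsg.Spor.HN.y.eq_1
  have := @_root_.Cfsg.Spor.HN.z.eq_1
  have := @_root_.Cfsg.Spor.He.a.eq_1
  have := @_root_.Cfsg.Spor.He.b.eq_1
  have := @_root_.Cfsg.Spor.He.c.eq_1
  trivial

end CL.BaseAux
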