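import Cfsg.Agent.Base.Imports

/-! On-demand lemmas of Prelude and Mathlib definitions, produced once here so that no other file holds a copy. -/

set_option linter.all false

namespace CL.BaseAux

theorem r3_0 : True := by
  have := @_root_.Cfsg.Spor.He.d.eq_1
  have := @_root_.Cfsg.Spor.He.e.eq_1
  have := @_root_.Cfsg.Spor.He.edges.eq_1
  have := @_root_.Cfsg.Spor.He.extra.eq_1
  have := @_root_.Cfsg.Spor.He.f.eq_1
  have := @_root_.Cfsg.Spor.He.g.eq_1
  have := @_root_.Cfsg.Spor.He.instDecidableEqGen.eq_1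
  have := @_root_.Cfsg.Spor.J4.edges.eq_1
  have := @_root_.Cfsg.Spor.J4.extra.eq_1
  have := @_root_.Cfsg.Spor.J4.instDecidableEqGen.eq_1
  have := @_root_.Cfsg.Spor.J4.t.eq_1
  have := @_root_.Cfsg.Spor.J4.x.eq_1
  have := @_root_.Cfsg.Spor.J4.y.eq_1
  have := @_root_.Cfsg.Spor.Ly.a.eq_1
  have := @_root_.Cfsg.Spor.Ly.a1.eq_1
  have := @_root_.Cfsg.Spor.Ly.a2.eq_1
  have := @_root_.Cfsg.Spor.Ly.a3.eq_1
  have := @_root_.Cfsg.Spor.Ly.a4.eq_1
  have := @_root_.Cfsg.Spor.Ly.b.eq_1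
  have := @_root_.Cfsg.Spor.Ly.c.eq_1
  have := @_root_.Cfsg.Spor.Ly.c1.eq_1
  have := @_root_.Cfsg.Spor.Ly.c2.eq_1
  have := @_root_.Cfsg.Spor.Ly.c3.eq_1
  have := @_root_.Cfsg.Spor.Ly.c4.eq_1
  have := @_root_.Cfsg.Spor.Ly.c5.eq_1
  have := @_root_.Cfsg.Spor.Ly.d.eq_1
  have := @_root_.Cfsg.Spor.Ly.e.eq_1
  have := @_root_.Cfsg.Spor.Ly.edges.eq_1
  have := @_root_.Cfsg.Spor.Ly.extra.eq_1
  have := @_root_.Cfsg.Spor.Ly.instDecidableEqGen.eq_1
  trivial

theorem r3_1 : True := by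
  have := @_root_.Cfsg.Spor.Ly.u.eq_1
  have := @_root_.Cfsg.Spor.Ly.x129.eq_1
  have := @_root_.Cfsg.Spor.Ly.x162.eq_1
  have := @_root_.Cfsg.Spor.Ly.x163.eq_1
  have := @_root_.Cfsg.Spor.Ly.x164.eq_1
  have := @_root_.Cfsg.Spor.Ly.x165.eq_1
  have := @_root_.Cfsg.Spor.Ly.x166.eq_1
  have := @_root_.Cfsg.Spor.Ly.x167.eq_1
  have := @_root_.Cfsg.Spor.Ly.x168.eq_1
  have := @_root_.Cfsg.Spor.Ly.x169.eq_1
  have := @_root_.Cfsg.Spor.Ly.x23.eq_1
  have := @_root_.Cfsg.Spor.Ly.x24.eq_1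
  have := @_root_.Cfsg.Spor.Ly.x25.eq_1
  have := @_root_.Cfsg.Spor.Ly.x29.eq_1
  have := @_root_.Cfsg.Spor.Ly.x364.eq_1
  have := @_root_.Cfsg.Spor.Ly.x365.eq_1
  have := @_root_.Cfsg.Spor.Ly.x366.eq_1
  have := @_root_.Cfsg.Spor.Ly.x367.eq_1
  have := @_root_.Cfsg.Spor.Ly.x368.eq_1
  have := @_root_.Cfsg.Spor.Ly.x369.eq_1
  have := @_root_.Cfsg.Spor.Ly.x370.eq_1
  have := @_root_.Cfsg.Spor.Ly.x371.eq_1
  have := @_root_.Cfsg.Spor.Ly.x47.eq_1
  have := @_root_.Cfsg.Spor.Ly.x96.eq_1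
  have := @_root_.Cfsg.Spor.Ly.z.eq_1
  have := @_root_.Cfsg.Spor.ON.a.eq_1
  have := @_root_.Cfsg.Spor.ON.b.eq_1
  have := @_root_.Cfsg.Spor.ON.c.eq_1
  have := @_root_.Cfsg.Spor.ON.d.eq_1
  have := @_root_.Cfsg.Spor.ON.e.eq_1
  trivial

theorem r3_2 : True := by
  have := @_root_.Cfsg.Spor.ON.edges.eq_1
  have := @_root_.Cfsg.Spor.ON.extra.eq_1
  have := @_root_.Cfsg.Spor.ON.f.eq_1
  have := @_root_.Cfsg.Spor.ON.g.eq_1
  have := @_root_.Cfsg.Spor.ON.instDecidableEqGen.eq_1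
  have := @_root_.Cfsg.Spor.Suz.a.eq_1
  have := @_root_.Cfsg.Spor.Suz.b.eq_1
  have := @_root_.Cfsg.Spor.Suz.c.eq_1
  have := @_root_.Cfsg.Spor.Suz.d.eq_1
  have := @_root_.Cfsg.Spor.Suz.e.eq_1
  have := @_root_.Cfsg.Spor.Suz.edges.eq_1
  have := @_root_.Cfsg.Spor.Suz.extra.eq_1
  have := @_root_.Cfsg.Spor.Suz.f.eq_1
  have := @_root_.Cfsg.Spor.Suz.g.eq_1
  have := @_root_.Cfsg.Spor.Suz.instDecidableEqGen.eq_1
  have := @_root_.Cfsg.Spor.Th.a.eq_1
  have := @_root_.Cfsg.Spor.Th.b.eq_1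
  have := @_root_.Cfsg.Spor.Th.c.eq_1
  have := @_root_.Cfsg.Spor.Th.d.eq_1
  have := @_root_.Cfsg.Spor.Th.e.eq_1
  have := @_root_.Cfsg.Spor.Th.edges.eq_1
  have := @_root_.Cfsg.Spor.Th.extra.eq_1
  have := @_root_.Cfsg.Spor.Th.instDecidableEqGen.eq_1
  have := @_root_.Cfsg.Spor.Th.s.eq_1
  have := @_root_.Cfsg.Spor.Th.t.eq_1
  have := @_root_.Cfsg.Spor.Th.u.eq_1
  have := @_root_.Nat.bitCasesOn.eq_1.{0}
  have := @_root_.InvOneClass.mk.congr_simp.{0}
  have := @_root_.CancelMonoid.mk.congr_simp.{0}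
  have := @_root_.DivisionCommMonoid.mk.congr_simp.{0}
  trivial

theorem r3_3 : True := by
  have := @_root_.ZPow.zpow.eq_1.{0}
  have := @_root_.CommGroup.mk.congr_simp.{0}
  have := @_root_.zpowRec.eq_def.{0}
  have := @_root_.zpowRec.eq_1.{0}
  have := @_root_.DivInvOneMonoid.mk.congr_simp.{0}
  have := @_root_.CommMagma.mk.congr_simp.{0}
  have := @_root_.Monoid.toOne.eq_1.{0}
  have := @_root_.IsAddCommutative.mk.congr_simp.{0}
  have := @_root_.IsMulCommutative.instDivisionCommMonoid.congr_simp.{0}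
  have := @_root_.IsMulTorsionFree.mk.congr_simp.{0}
  have := @_root_.CommSemigroup.mk.congr_simp.{0}
  have := @_root_.AddSemigroup.mk.congr_simp.{0}
  have := @_root_.LibraryNote.forgetful_inheritance.eq_1
  have := @_root_.AddGroup.mk.congr_simp.{0}
  have := @_root_.IsCyclic.mk.congr_simp.{0}
  have := @_root_.DivisionMonoid.mk.congr_simp.{0}
  have := @_root_.RightCancelMonoid.mk.congr_simp.{0}
  have := @_root_.IsLeftCancelMul.mk.congr_simp.{0}
  have := @_root_.AddCancelCommMonoid.mk.congr_simp.{0}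
  have := @_root_.LibraryNote.lower_cancel_priority.eq_1
  have := @_root_.IsCancelMul.mk.congr_simp.{0}
  have := @_root_.AddZeroClass.mk.congr_simp.{0}
  have := @_root_.DivInvMonoid.mk.congr_simp.{0}
  have := @_root_.SubNegZeroMonoid.mk.congr_simp.{0}
  have := @_root_.DivInvMonoid.div'.eq_1.{0}
  have := @_root_.MulOneClass.mk.congr_simp.{0}
  have := @_root_.SubtractionCommMonoid.mk.congr_simp.{0}
  have := @_root_.RightCancelSemigroup.mk.congr_simp.{0}
  have := @_root_.SubNegMonoid.mk.congr_simp.{0}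
  have := @_root_.AddLeftCancelSemigroup.mk.congr_simp.{0}
  trivial

theorem r3_4 : True := by
  have := @_root_.AddCommMagma.mk.congr_simp.{0}
  have := @_root_.AddRightCancelMonoid.mk.congr_simp.{0}
  have := @_root_.IsMulCommutative.instCommSemigroup.congr_simp.{0}
  have := @_root_.IsDedekindFiniteAddMonoid.mk.congr_simp.{0}
  have := @_root_.AddMonoid.mk.congr_simp.{0}
  have := @_root_.ZSMul.zsmul.eq_1.{0}
  have := @_root_.IsAddCommutative.instAddCommMagma.congr_simp.{0}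
  have := @_root_.SubtractionMonoid.mk.congr_simp.{0}
  have := @_root_.LeftCancelMonoid.mk.congr_simp.{0}
  have := @_root_.IsDedekindFiniteMonoid.mk.congr_simp.{0}
  have := @_root_.IsMulCommutative.instCommMonoid.congr_simp.{0}
  have := @_root_.zsmulRec.eq_def.{0}
  have := @_root_.NSMul.nsmul.eq_1.{0}
  have := @_root_.AddRightCancelSemigroup.mk.congr_simp.{0}
  have := @_root_.IsAddTorsionFree.mk.congr_simp.{0}
  have := @_root_.IsMulCommutative.mk.congr_simp.{0}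
  have := @_root_.AddCommMonoid.mk.congr_simp.{0}
  have := @_root_.IsAddCommutative.instAddCommMonoid.congr_simp.{0}
  have := @_root_.IsMulCommutative.instCommMagma.congr_simp.{0}
  have := @_root_.IsAddCommutative.instAddCommSemigroup.congr_simp.{0}
  have := @_root_.NegZeroClass.mk.congr_simp.{0}
  have := @_root_.Group.mk.congr_simp.{0}
  have := @_root_.IsAddCommutative.instDivisionAddCommMonoid.congr_simp.{0}
  have := @_root_.SubNegMonoid.sub'.eq_1.{0}
  have := @_root_.AddMonoid.toZero.eq_1.{0}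
  have := @_root_.IsAddCyclic.mk.congr_simp.{0}
  have := @_root_.LeftCancelSemigroup.mk.congr_simp.{0}
  have := @_root_.AddLeftCancelMonoid.mk.congr_simp.{0}
  have := @_root_.IsCancelAdd.mk.congr_simp.{0}
  have := @_root_.IsMulCommutative.instCommGroup.congr_simp.{0}
  trivial

theorem r3_5 : True := by
  have := @_root_.IsRightCancelAdd.mk.congr_simp.{0}
  have := @_root_.AddCommSemigroup.mk.congr_simp.{0}
  have := @_root_.AddCancelMonoid.mk.congr_simp.{0}
  have := @_root_.IsAddCommutative.instAddCommGroup.congr_simp.{0}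
  have := @_root_.IsRightCancelMul.mk.congr_simp.{0}
  have := @_root_.InvolutiveNeg.mk.congr_simp.{0}
  have := @_root_.Semigroup.mk.congr_simp.{0}
  have := @_root_.NPow.npow.eq_1.{0}
  have := @_root_.IsLeftCancelAdd.mk.congr_simp.{0}
  have := @_root_.AddCommGroup.mk.congr_simp.{0}
  have := @_root_.InvolutiveInv.mk.congr_simp.{0}
  have := @_root_.Set.union.eq_1.{0}
  have := @_root_.setOf.eq_1.{0}
  have := @_root_.Set.eq_1.{0}
  have := @_root_.Set.diff.eq_1.{0}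
  have := @_root_.Set.univ.eq_1.{0}
  have := @_root_.Set.inter.eq_1.{0}
  have := @_root_.Set.singleton.eq_1.{0}
  have := @_root_.Set.compl.eq_1.{0}
  have := @_root_.Set.Subset.eq_1.{0}
  have := @_root_.Function.diag.eq_1.{0}
  have := @_root_.Function.bicompl.eq_1.{0,0,0,0,0}
  have := @_root_.Pi.map.eq_1.{0,0,0}
  have := @_root_.Function.dcomp.eq_1.{0,0,0}
  have := @_root_.Function.bicompr.eq_1.{0,0,0,0}
  have := @_root_.Function.prod.eq_1.{0,0,0}
  have := @_root_.Function.HasUncurry.uncurry.eq_1.{0,0,0}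
  have := @_root_.Function.sometimes.eq_1.{0,0}
  have := @_root_.Function.sometimes.congr_simp.{0,0}
  have := @_root_.Set.SeparatesPoints.eq_1.{0,0}
  trivial

theorem r3_6 : True := by
  have := @_root_.Function.Injective2.eq_1.{0,0,0}
  have := @_root_.Function.partialInv.eq_1.{0,0}
  have := @_root_.Function.Injective.decidableEq.eq_1.{0,0}
  have := @_root_.Function.Injective.decidableEq.congr_simp.{0,0}
  have := @_root_.Function.IsPartialInv.eq_1.{0,0}
  have := @_root_.Function.eval.eq_1.{0,0}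
  have := @_root_.FunLike.eq_1.{0,0,0}
  have := @_root_.DFunLike.coe.eq_1.{0,0,0}
  have := @_root_.DFunLike.mk.congr_simp.{0,0,0}
  have := @_root_.EmbeddingLike.mk.congr_simp.{0,0,0}
  have := @_root_.EquivLike.coe.eq_1.{0,0,0}
  have := @_root_.EquivLike.inv.eq_1.{0,0,0}
  have := @_root_.EquivLike.mk.congr_simp.{0,0,0}
  have := @_root_.Quotient.map'.eq_1.{0,0}
  have := @_root_.Quotient.map₂.eq_1.{0,0,0}
  have := @_root_.trueSetoid.eq_1.{0}
  have := @_root_.Quotient.hrecOn₂'.eq_1.{0,0,0}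
  have := @_root_.Quotient.hrecOn₂'.congr_simp.{0,0,0}
  have := @_root_.Quot.hrecOn₂.eq_1.{0,0,0}
  have := @_root_.Quot.hrecOn₂.congr_simp.{0,0,0}
  have := @_root_.Quotient.hrecOn'.eq_1.{0,0}
  have := @_root_.Quotient.hrecOn'.congr_simp.{0,0}
  have := @_root_.Quot.factor.eq_1.{0}
  have := @_root_.Quot.factor.congr_simp.{0}
  have := @_root_.Quot.mapRight.eq_1.{0}
  have := @_root_.Quot.mapRight.congr_simp.{0}
  have := @_root_.Trunc.bind.eq_1.{0,0}
  have := @_root_.Quot.lift₂.eq_1.{0,0,0}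
  have := @_root_.Quot.lift₂.congr_simp.{0,0,0}
  have := @_root_.Trunc.rec.eq_1.{0,0}
  trivial

theorem r3_7 : True := by
  have := @_root_.Trunc.rec.congr_simp.{0,0}
  have := @_root_.Trunc.recOnSubsingleton.eq_1.{0,0}
  have := @_root_.Trunc.recOnSubsingleton.congr_simp.{0,0}
  have := @_root_.Quotient.choice.eq_1.{0,0}
  have := @_root_.Quotient.recOnSubsingleton₂'.eq_1.{0,0,0}
  have := @_root_.Quotient.recOnSubsingleton₂'.congr_simp.{0,0,0}
  have := @_root_.Quotient.out.eq_1.{0}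
  have := @_root_.Quot.recOnSubsingleton₂.eq_1.{0,0,0}
  have := @_root_.Quot.recOnSubsingleton₂.congr_simp.{0,0,0}
  have := @_root_.Quotient.liftOn'.eq_1.{0,0}
  have := @_root_.Quot.map₂.eq_1.{0,0,0}
  have := @_root_.Trunc.out.eq_1.{0}
  have := @_root_.Quotient.hrecOn₂.eq_1.{0,0,0}
  have := @_root_.Quotient.hrecOn₂.congr_simp.{0,0,0}
  have := @_root_.Quot.liftOn₂.eq_1.{0,0,0}
  have := @_root_.Quot.liftOn₂.congr_simp.{0,0,0}
  have := @_root_.Quotient.mk''.eq_1.{0}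
  have := @_root_.Trunc.mk.eq_1.{0}
  have := @_root_.Trunc.map.eq_1.{0,0}
  have := @_root_.Trunc.eq_1.{0}
  have := @_root_.Quotient.map₂'.eq_1.{0,0,0}
  have := @_root_.Quotient.map₂'.congr_simp.{0,0,0}
  have := @_root_.Trunc.liftOn.eq_1.{0,0}
  have := @_root_.Trunc.liftOn.congr_simp.{0,0}
  have := @_root_.Quot.out.eq_1.{0}
  have := @_root_.Quotient.map.eq_1.{0,0}
  have := @_root_.Quotient.eval.eq_1.{0,0}
  have := @_root_.Quotient.liftOn₂'.eq_1.{0,0,0}
  have := @_root_.Quotient.recOnSubsingleton'.eq_1.{0,0}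
  have := @_root_.Quotient.recOnSubsingleton'.congr_simp.{0,0}
  trivial

theorem r3_8 : True := by
  have := @_root_.Subtype.coind.eq_1.{0,0}
  have := @_root_.Subtype.restrict.eq_1.{0,0}
  have := @_root_.Equiv.sigmaPLiftEquivSubtype.eq_1.{0}
  have := @_root_.Equiv.equivEmptyEquiv.eq_1.{0}
  have := @_root_.finOneEquiv.eq_1
  have := @_root_.finZeroEquiv.eq_1
  have := @_root_.Equiv.psigmaEquivSigmaPLift.eq_1.{0,0}
  have := @_root_.Equiv.toFun.eq_1.{0,0}
  have := @_root_.Equiv.equivEmpty.eq_1.{0}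
  have := @_root_.Equiv.sigmaEquivProd.eq_1.{0,0}
  have := @_root_.Equiv.arrowPUnitOfIsEmpty.eq_1.{0,0,0}
  have := @_root_.Equiv.arrowPUnitOfIsEmpty.congr_simp.{0,0,0}
  have := @_root_.Equiv.piUnique.eq_1.{0,0}
  have := @_root_.Equiv.ord.eq_1.{0,0}
  have := @_root_.finZeroEquiv'.eq_1.{0}
  have := @_root_.Equiv.sigmaEquivProdOfEquiv.eq_1.{0,0,0}
  have := @_root_.Equiv.plift.eq_1.{0}
  have := @_root_.Equiv.equivPUnit.eq_1.{0,0}
  have := @_root_.Quotient.congr.eq_1.{0,0}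
  have := @_root_.Quotient.congr.congr_simp.{0,0}
  have := @_root_.Equiv.propEquivBool.eq_1
  have := @_root_.Quot.congrLeft.eq_1.{0,0}
  have := @_root_.Equiv.equivOfIsEmpty.eq_1.{0,0}
  have := @_root_.Equiv.Perm.sigmaCongrRight.eq_1.{0,0}
  have := @_root_.Equiv.sumIsRight.eq_1.{0,0}
  have := @_root_.Equiv.trueArrowEquiv.eq_1.{0}
  have := @_root_.Equiv.cast.eq_1.{0}
  have := @_root_.Equiv.lt.eq_1.{0,0}
  have := @_root_.Equiv.psigmaCongrRight.eq_1.{0,0,0}
  have := @_root_.Equiv.sigmaCongrLeft'.eq_1.{0,0,0}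
  trivial

theorem r3_9 : True := by
  have := @_root_.Equiv.equivCongr.eq_1.{0,0,0,0}
  have := @_root_.Equiv.decidableEq.eq_1.{0,0}
  have := @_root_.Equiv.decidableEq.congr_simp.{0,0}
  have := @_root_.Quot.congrRight.eq_1.{0}
  have := @_root_.Quot.congrRight.congr_simp.{0}
  have := @_root_.Equiv.pemptyArrowEquivPUnit.eq_1.{0,0,0}
  have := @_root_.Equiv.psigmaEquivSigma.eq_1.{0,0}
  have := @_root_.Equiv.emptyArrowEquivPUnit.eq_1.{0,0}
  have := @_root_.Equiv.conj.eq_1.{0,0}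
  have := @_root_.Equiv.functionSwap.eq_1.{0,0,0}
  have := @_root_.Equiv.ofUnique.eq_1.{0,0}
  have := @_root_.Equiv.sumIsLeft.eq_1.{0,0}
  have := @_root_.Equiv.invFun.eq_1.{0,0}
  have := @_root_.Equiv.min.eq_1.{0,0}
  have := @_root_.Equiv.symmEquiv.eq_1.{0,0}
  have := @_root_.EquivLike.toEquiv.eq_1.{0,0,0}
  have := @_root_.Equiv.bijectiveEquiv.eq_1.{0,0}
  have := @_root_.Equiv.le.eq_1.{0,0}
  have := @_root_.Equiv.psigmaEquivSubtype.eq_1.{0}
  have := @_root_.Equiv.arrowPUnitEquivPUnit.eq_1.{0,0,0}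
  have := @_root_.Equiv.punitArrowEquiv.eq_1.{0,0}
  have := @_root_.Equiv.unique.eq_1.{0,0}
  have := @_root_.Quot.congr.eq_1.{0,0}
  have := @_root_.Quot.congr.congr_simp.{0,0}
  have := @_root_.Equiv.sigmaCongrRight.eq_1.{0,0,0}
  have := @_root_.Equiv.propEquivPEmpty.eq_1.{0}
  have := @_root_.Equiv.propEquivPEmpty.congr_simp.{0}
  have := @_root_.Equiv.equivPEmpty.eq_1.{0,0}
  have := @_root_.Equiv.equivPEmpty.congr_simp.{0,0}
  have := @_root_.Equiv.max.eq_1.{0,0}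
  trivial

theorem r3_10 : True := by
  have := @_root_.Equiv.Perm.eq_1.{0}
  have := @_root_.Equiv.inhabited.eq_1.{0,0}
  have := @_root_.Equiv.propEquivPUnit.eq_1
  have := @_root_.Equiv.propEquivPUnit.congr_simp
  have := @_root_.Equiv.falseArrowEquivPUnit.eq_1.{0,0}
  have := @_root_.Equiv.pSigmaAssoc.eq_1.{0,0,0}
  have := @_root_.Equiv.sigmaULiftPLiftEquivSubtype.eq_1.{0,0}
  have := @_root_.Quotient.congrRight.eq_1.{0}
  have := @_root_.Quotient.congrRight.congr_simp.{0}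
  have := @_root_.Equiv.ofIff.eq_1
  have := @_root_.Equiv.ofIff.congr_simp
  have := @_root_.Equiv.trans.eq_1.{0,0,0}
  have := @_root_.finTwoEquiv.eq_1
  have := @_root_.Equiv.punitEquivPUnit.eq_1.{0,0}
  have := @_root_.Equiv.permCongr.eq_1.{0,0}
  have := @_root_.Equiv.symm.eq_1.{0,0}
  have := @_root_.Function.Semiconj₂.eq_1.{0,0}
  have := @_root_.Function.Iterate.rec.eq_def.{0,0}
  have := @_root_.Function.Iterate.rec.eq_1.{0,0}
  have := @_root_.Function.Injective.addAction.congr_simp.{0,0,0}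
  have := @_root_.MulDistribMulAction.mk.congr_simp.{0,0}
  have := @_root_.SemigroupAction.mk.congr_simp.{0,0}
  have := @_root_.IsScalarTower.mk.congr_simp.{0,0,0}
  have := @_root_.IsCancelVAdd.mk.congr_simp.{0,0}
  have := @_root_.SMulCommClass.mk.congr_simp.{0,0,0}
  have := @_root_.VAddCommClass.mk.congr_simp.{0,0,0}
  have := @_root_.Function.Surjective.mulAction.congr_simp.{0,0,0}
  have := @_root_.IsCancelSMul.mk.congr_simp.{0,0}
  have := @_root_.VAddAssocClass.mk.congr_simp.{0,0,0}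
  have := @_root_.IsLeftCancelSMul.mk.congr_simp.{0,0}
  trivial

theorem r3_11 : True := by
  have := @_root_.Function.Surjective.addAction.congr_simp.{0,0,0}
  have := @_root_.IsLeftCancelVAdd.mk.congr_simp.{0,0}
  have := @_root_.MulAction.mk.congr_simp.{0,0}
  have := @_root_.SMulDistribClass.mk.congr_simp.{0,0,0}
  have := @_root_.LibraryNote.bundled_maps_over_different_rings.eq_1
  have := @_root_.AddAction.mk.congr_simp.{0,0}
  have := @_root_.AddSemigroupAction.mk.congr_simp.{0,0}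
  have := @_root_.AddDistribAddAction.mk.congr_simp.{0,0}
  have := @_root_.IsCentralVAdd.mk.congr_simp.{0,0}
  have := @_root_.Function.Injective.mulAction.congr_simp.{0,0,0}
  have := @_root_.IsCentralScalar.mk.congr_simp.{0,0}
  have := @_root_.FaithfulVAdd.mk.congr_simp.{0,0}
  have := @_root_.FaithfulSMul.mk.congr_simp.{0,0}
  have := @_root_.Sum3.in₀.eq_1.{0,0,0}
  have := @_root_.Sum3.in₂.eq_1.{0,0,0}
  have := @_root_.Sum3.in₁.eq_1.{0,0,0}
  have := @_root_.uniqueOfSurjectiveZero.congr_simp.{0,0}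
  have := @_root_.uniqueOfSurjectiveOne.congr_simp.{0,0}
  have := @_root_.Prod.PrettyPrinting.getPPNumericProjProd.eq_1
  have := @_root_.Prod.mk.injArrow.eq_1.{0,0,0}
  have := @_root_.Prod.mk.injArrow.congr_simp.{0,0,0}
  have := @_root_.Bool.carry.eq_1
  have := @_root_.Bool.xor3.eq_1
  have := @_root_.Nat.decreasingInduction.eq_1.{0}
  have := @_root_.Nat.decreasingInduction'.eq_1.{0}
  have := @_root_.Nat.decreasingInduction'.congr_simp.{0}
  have := @_root_.Nat.AtLeastTwo.mk.congr_simp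
  have := @_root_.Nat.strongSubRecursion.eq_1.{0}
  have := @_root_.Nat.strongRec'.eq_1.{0}
  have := @_root_.Nat.strongRecOn'.eq_1.{0}
  trivial

theorem r3_12 : True := by
  have := @_root_.LibraryNote.foundational_algebra_order_theory.eq_1
  have := @_root_.Nat.pincerRecursion.eq_1.{0}
  have := @_root_.Nat.stepInduction.eq_1.{0}
  have := @_root_.Nat.leRecOn.eq_1.{0}
  have := @_root_.Nat.twoStepInduction.eq_def.{0}
  have := @_root_.Nat.twoStepInduction.eq_1.{0}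
  have := @_root_.Set.Elem.eq_1.{0}
  have := @_root_.Set.InvOn.eq_1.{0,0}
  have := @_root_.Set.MapsTo.restrict.eq_1.{0,0}
  have := @_root_.Set.RightInvOn.eq_1.{0,0}
  have := @_root_.Set.kernImage.eq_1.{0,0}
  have := @_root_.Set.Nonempty.some.eq_1.{0}
  have := @_root_.Equiv.setSubtypeComm.eq_1.{0}
  have := @_root_.Set.Nontrivial.choose.eq_1.{0}
  have := @_root_.Set.Nontrivial.choose.congr_simp.{0}
  have := @_root_.Equiv.subtypeNeSumPUnit.eq_1.{0,0}
  have := @_root_.Equiv.optionIsSomeEquiv.eq_1.{0}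
  have := @_root_.Equiv.removeNone.eq_1.{0,0}
  have := @_root_.Equiv.optionCongr.eq_1.{0,0}
  have := @_root_.PSigma.map.eq_1.{0,0,0,0}
  have := @_root_.PSigma.elim.eq_1.{0,0,0}
  have := @_root_.Equiv.subtypeProdEquivProd.eq_1.{0,0}
  have := @_root_.Equiv.prodEmpty.eq_1.{0}
  have := @_root_.Equiv.prodCongr.eq_1.{0,0,0,0}
  have := @_root_.Equiv.punitProd.eq_1.{0,0}
  have := @_root_.Equiv.prodPEmpty.eq_1.{0,0,0}
  have := @_root_.Equiv.emptyProd.eq_1.{0}
  have := @_root_.Equiv.prodShear.eq_1.{0,0,0,0}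
  have := @_root_.Equiv.prodCongrRight.eq_1.{0,0,0}
  have := @_root_.Equiv.pprodEquivProd.eq_1.{0,0}
  trivial

theorem r3_13 : True := by
  have := @_root_.Equiv.pprodProd.eq_1.{0,0,0,0}
  have := @_root_.Equiv.boolProdEquivSum.eq_1.{0}
  have := @_root_.Equiv.arrowProdEquivProdArrow.eq_1.{0,0,0}
  have := @_root_.Equiv.boolArrowEquivProd.eq_1.{0}
  have := @_root_.subsingletonProdSelfEquiv.eq_1.{0}
  have := @_root_.subsingletonProdSelfEquiv.congr_simp.{0}
  have := @_root_.Equiv.prodPUnit.eq_1.{0,0}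
  have := @_root_.Equiv.prodComm.eq_1.{0,0}
  have := @_root_.Equiv.prodPiEquivSumPi.eq_1.{0,0,0}
  have := @_root_.optionProdEquiv.eq_1.{0,0}
  have := @_root_.Equiv.piEquivPiSubtypeProd.eq_1.{0,0}
  have := @_root_.Equiv.sigmaProdDistrib.eq_1.{0,0,0}
  have := @_root_.Equiv.subtypeProdEquivSigmaSubtype.eq_1.{0,0}
  have := @_root_.Equiv.pprodEquivProdPLift.eq_1.{0,0}
  have := @_root_.Equiv.prodUnique.eq_1.{0,0}
  have := @_root_.Equiv.sumProdDistrib.eq_1.{0,0,0}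
  have := @_root_.Equiv.curry.eq_1.{0,0,0}
  have := @_root_.Equiv.piSplitAt.eq_1.{0,0}
  have := @_root_.Equiv.pprodCongr.eq_1.{0,0,0,0}
  have := @_root_.Equiv.uniqueProd.eq_1.{0,0}
  have := @_root_.Equiv.pemptyProd.eq_1.{0,0,0}
  have := @_root_.Equiv.sigmaUnique.eq_1.{0,0}
  have := @_root_.Equiv.prodPProd.eq_1.{0,0,0,0}
  have := @_root_.Equiv.prodProdProdComm.eq_1.{0,0,0,0}
  have := @_root_.Equiv.funSplitAt.eq_1.{0,0}
  have := @_root_.Equiv.sigmaEquivOptionOfInhabited.eq_1.{0}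
  have := @_root_.Equiv.sumCongr.eq_1.{0,0,0,0}
  have := @_root_.Equiv.sumPSum.eq_1.{0,0,0,0}
  have := @_root_.Equiv.psumSum.eq_1.{0,0,0,0}
  have := @_root_.Equiv.sigmaSumDistrib.eq_1.{0,0,0}
  trivial

theorem r3_14 : True := by
  have := @_root_.Equiv.sumComm.eq_1.{0,0}
  have := @_root_.Equiv.boolEquivPUnitSumPUnit.eq_1.{0,0}
  have := @_root_.Equiv.sumEmpty.eq_1.{0,0}
  have := @_root_.Equiv.sumSigmaDistrib.eq_1.{0,0,0}
  have := @_root_.Equiv.psumCongr.eq_1.{0,0,0,0}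
  have := @_root_.Equiv.sumCompl.eq_1.{0}
  have := @_root_.Equiv.subtypeSum.eq_1.{0,0}
  have := @_root_.Equiv.sigmaFiberEquiv.eq_1.{0,0}
  have := @_root_.Equiv.psumEquivSum.eq_1.{0,0}
  have := @_root_.Equiv.emptySum.eq_1.{0,0}
  have := @_root_.Equiv.Perm.sumCongr.eq_1.{0,0}
  have := @_root_.Equiv.sumSumSumComm.eq_1.{0,0,0,0}
  have := @_root_.Equiv.prodSumDistrib.eq_1.{0,0,0}
  have := @_root_.equivOfSubsingletonOfSubsingleton.eq_1.{0,0}
  have := @_root_.equivOfSubsingletonOfSubsingleton.congr_simp.{0,0}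
  have := @_root_.Equiv.natSumPUnitEquivNat.eq_1.{0}
  have := @_root_.Equiv.ofFiberEquiv.eq_1.{0,0,0}
  have := @_root_.Equiv.piCongrSet.eq_1.{0,0}
  have := @_root_.Equiv.sigmaOptionEquivOfSome.eq_1.{0,0}
  have := @_root_.Equiv.sigmaOptionEquivOfSome.congr_simp.{0,0}
  have := @_root_.Equiv.piComm.eq_1.{0,0,0}
  have := @_root_.Equiv.intEquivNatSumNat.eq_1
  have := @_root_.Equiv.sigmaAssocProd.eq_1.{0,0,0}
  have := @_root_.Equiv.sigmaNatSucc.eq_1.{0}
  have := @_root_.Equiv.subtypeEquivOfSubtype.eq_1.{0,0}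
  have := @_root_.Equiv.sigmaSubtypeEquivOfSubset.eq_1.{0,0}
  have := @_root_.Equiv.sigmaSubtypeEquivOfSubset.congr_simp.{0,0}
  have := @_root_.Equiv.sigmaSubtypeFiberEquivSubtype.eq_1.{0,0}
  have := @_root_.Equiv.sigmaSubtypeFiberEquivSubtype.congr_simp.{0,0}
  have := @_root_.Equiv.subtypePreimage.eq_1.{0,0}
  trivial

theorem r3_15 : True := by
  have := @_root_.Equiv.subtypeSubtypeEquivSubtypeExists.eq_1.{0}
  have := @_root_.Equiv.subtypeEquiv.eq_1.{0,0}
  have := @_root_.Equiv.subtypeUnivEquiv.eq_1.{0}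
  have := @_root_.Equiv.subtypeSubtypeEquivSubtypeInter.eq_1.{0}
  have := @_root_.Equiv.subtypeCongr.congr_simp.{0}
  have := @_root_.Equiv.piCongrRight.eq_1.{0,0,0}
  have := @_root_.Equiv.piCongrSigmaFiber.eq_1.{0,0,0,0}
  have := @_root_.Equiv.subtypeEquivOfSubtype'.eq_1.{0,0}
  have := @_root_.Equiv.piOptionEquivProd.eq_1.{0,0}
  have := @_root_.Equiv.subtypeEquivCodomain.eq_1.{0,0}
  trivial

end CL.BaseAux
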