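import Cfsg.Agent.Base.Imports

/-! On-demand lemmas of Prelude and Mathlib definitions, produced once here so that no other file holds a copy. -/

set_option linter.all false

namespace CL.BaseAux

theorem r4_0 : True := by
  have := @_root_.Equiv.sigmaSigmaSubtype.eq_1.{0,0,0}
  have := @_root_.Equiv.natEquivNatSumPUnit.eq_1.{0}
  have := @_root_.Equiv.subtypePiEquivPi.eq_1.{0,0}
  have := @_root_.Equiv.subtypeEquivRight.eq_1.{0}
  have := @_root_.Equiv.subtypeSubtypeEquivSubtype.eq_1.{0}
  have := @_root_.Equiv.subtypeSubtypeEquivSubtype.congr_simp.{0}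
  have := @_root_.Equiv.piCongrFiberwise.eq_1.{0,0,0,0}
  have := @_root_.uniqueEquivEquivUnique.eq_1.{0,0}
  have := @_root_.Equiv.punitOfNonemptyOfSubsingleton.eq_1.{0,0}
  have := @_root_.Equiv.punitOfNonemptyOfSubsingleton.congr_simp.{0,0}
  have := @_root_.uniqueUniqueEquiv.eq_1.{0}
  have := @_root_.Equiv.sigmaSubtypeFiberEquiv.eq_1.{0,0}
  have := @_root_.Equiv.sigmaSubtypeFiberEquiv.congr_simp.{0,0}
  have := @_root_.Equiv.sigmaSubtype.eq_1.{0,0}
  have := @_root_.Equiv.piCurry.eq_1.{0,0,0}
  have := @_root_.Equiv.piEquivSubtypeSigma.eq_1.{0,0}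
  have := @_root_.Equiv.uniqueCongr.eq_1.{0,0}
  have := @_root_.Function.Involutive.toPerm.eq_1.{0}
  have := @_root_.Set.inclusion.eq_1.{0}
  have := @_root_.Function.PullbackSelf.map_fst.eq_1.{0,0,0}
  have := @_root_.Function.PullbackSelf.map_snd.eq_1.{0,0,0}
  have := @_root_.Function.mapPullback.eq_1.{0,0,0,0,0,0}
  have := @_root_.Function.mapPullback.congr_simp.{0,0,0,0,0,0}
  have := @_root_.Function.Pullback.snd.eq_1.{0,0,0}
  have := @_root_.Function.PullbackSelf.eq_1.{0,0}
  have := @_root_.toPullbackDiag.eq_1.{0,0}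
  have := @_root_.Function.Pullback.eq_1.{0,0,0}
  have := @_root_.Function.Pullback.fst.eq_1.{0,0,0}
  have := @_root_.Set.restrict₂.eq_1.{0,0}
  have := @_root_.Set.restrict₂.congr_simp.{0,0}
  trivial

theorem r4_1 : True := by
  have := @_root_.Set.restrict.eq_1.{0,0}
  have := @_root_.Set.domRestrict₂.congr_simp.{0,0}
  have := @_root_.ZeroHomClass.mk.congr_simp.{0,0,0}
  have := @_root_.AddHom.inverse.congr_simp.{0,0}
  have := @_root_.ZeroHom.inverse.congr_simp.{0,0}
  have := @_root_.AddHom.toFun.eq_1.{0,0}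
  have := @_root_.ZeroHomClass.toZeroHom.congr_simp.{0,0,0}
  have := @_root_.ZeroHom.toFun.eq_1.{0,0}
  have := @_root_.OneHomClass.mk.congr_simp.{0,0,0}
  have := @_root_.LibraryNote.hom_simp_lemma_priority.eq_1
  have := @_root_.MulHom.copy.congr_simp.{0,0}
  have := @_root_.MonoidHom.toMulHom.eq_1.{0,0}
  have := @_root_.OneHom.copy.congr_simp.{0,0}
  have := @_root_.MonoidHom.inverse.congr_simp.{0,0}
  have := @_root_.MulHomClass.mk.congr_simp.{0,0,0}
  have := @_root_.OneHom.toFun.eq_1.{0,0}
  have := @_root_.AddMonoidHom.inverse.congr_simp.{0,0}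
  have := @_root_.AddHomClass.mk.congr_simp.{0,0,0}
  have := @_root_.MulHom.toFun.eq_1.{0,0}
  have := @_root_.AddMonoidHom.toAddHom.eq_1.{0,0}
  have := @_root_.MonoidHom.toOneHom.eq_1.{0,0}
  have := @_root_.OneHomClass.toOneHom.congr_simp.{0,0,0}
  have := @_root_.OneHom.inverse.congr_simp.{0,0}
  have := @_root_.ZeroHom.copy.congr_simp.{0,0}
  have := @_root_.AddHom.copy.congr_simp.{0,0}
  have := @_root_.MonoidHom.copy.congr_simp.{0,0}
  have := @_root_.AddMonoidHomClass.mk.congr_simp.{0,0,0}
  have := @_root_.AddMonoidHom.toZeroHom.eq_1.{0,0}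
  have := @_root_.AddMonoidHom.copy.congr_simp.{0,0}
  have := @_root_.MonoidHomClass.mk.congr_simp.{0,0,0}
  trivial

theorem r4_2 : True := by
  have := @_root_.MulEquiv.toEquiv.eq_1.{0,0}
  have := @_root_.AddEquiv.toAddHom.eq_1.{0,0}
  have := @_root_.MulEquiv.toMulHom.eq_1.{0,0}
  have := @_root_.MulEquivClass.mk.congr_simp.{0,0,0}
  have := @_root_.MulEquiv.cast.congr_simp.{0,0}
  have := @_root_.AddEquivClass.mk.congr_simp.{0,0,0}
  have := @_root_.AddHom.toAddEquiv.congr_simp.{0,0}
  have := @_root_.AddEquiv.toEquiv.eq_1.{0,0}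
  have := @_root_.MulHom.toMulEquiv.congr_simp.{0,0}
  have := @_root_.MulEquiv.mk'.congr_simp.{0,0}
  have := @_root_.AddEquiv.cast.congr_simp.{0,0}
  have := @_root_.Int.le_induction_down.eq_1.{0}
  have := @_root_.Int.pred.eq_1
  have := @_root_.Int.le_induction.eq_1.{0}
  have := @_root_.Int.negInduction.eq_def.{0}
  have := @_root_.Int.negInduction.eq_1.{0}
  have := @_root_.Int.inductionOn'.eq_1.{0}
  have := @_root_.Int.inductionOn'.neg.eq_1.{0}
  have := @_root_.MonoidHom.ofMapDiv.congr_simp.{0,0}
  have := @_root_.AddMonoidHom.ofMapAddNeg.congr_simp.{0,0}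
  have := @_root_.AddMonoidHom.ofMapSub.congr_simp.{0,0}
  have := @_root_.MonoidHom.ofMapMulInv.congr_simp.{0,0}
  have := @_root_.MonoidHom.commGroupOfSurjective.eq_1.{0,0}
  have := @_root_.MonoidHom.commGroupOfSurjective.congr_simp.{0,0}
  have := @_root_.MonoidHom.commGroupOfInjective.eq_1.{0,0}
  have := @_root_.MonoidHom.commGroupOfInjective.congr_simp.{0,0}
  have := @_root_.Additive.rec.eq_1.{0,0}
  have := @_root_.Multiplicative.rec.eq_1.{0,0}
  have := @_root_.Multiplicative.eq_1.{0}
  have := @_root_.Additive.eq_1.{0}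
  trivial

theorem r4_3 : True := by
  have := @_root_.AddMonoidHom.toMultiplicativeRightAddEquiv.eq_1.{0,0}
  have := @_root_.AddMonoidHom.toMultiplicativeLeftAddEquiv.eq_1.{0,0}
  have := @_root_.AddMonoidHom.toMultiplicative.eq_1.{0,0}
  have := @_root_.MonoidHom.toAdditiveLeft.eq_1.{0,0}
  have := @_root_.MonoidHom.toAdditiveRight.eq_1.{0,0}
  have := @_root_.AddMonoidHom.toMultiplicativeRight.eq_1.{0,0}
  have := @_root_.AddMonoidHom.toMultiplicativeLeft.eq_1.{0,0}
  have := @_root_.MonoidHom.toAdditiveLeftMulEquiv.eq_1.{0,0}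
  have := @_root_.MonoidHom.toAdditiveRightMulEquiv.eq_1.{0,0}
  have := @_root_.MonoidHom.toAdditive.eq_1.{0,0}
  have := @_root_.MulEquiv.toMultiplicative_toAdditive.eq_1.{0}
  have := @_root_.AddEquiv.toMultiplicativeLeft.eq_1.{0,0}
  have := @_root_.MulEquiv.piMultiplicative.eq_1.{0,0}
  have := @_root_.MulEquiv.multiplicativeAdditive.eq_1.{0}
  have := @_root_.MulEquiv.toAdditiveLeft.eq_1.{0,0}
  have := @_root_.MulEquiv.toAdditiveRight.eq_1.{0,0}
  have := @_root_.AddEquiv.prodAdditive.eq_1.{0,0}
  have := @_root_.addMonoidEndToMultiplicative.eq_1.{0}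
  have := @_root_.AddEquiv.additiveMultiplicative.eq_1.{0}
  have := @_root_.AddEquiv.funAdditive.eq_1.{0,0}
  have := @_root_.MulEquiv.funMultiplicative.eq_1.{0,0}
  have := @_root_.monoidEndToAdditive.eq_1.{0}
  have := @_root_.MulEquiv.AddMonoid.End.eq_1.{0}
  have := @_root_.MulEquiv.prodMultiplicative.eq_1.{0,0}
  have := @_root_.AddEquiv.piAdditive.eq_1.{0,0}
  have := @_root_.AddEquiv.toMultiplicative.eq_1.{0,0}
  have := @_root_.AddEquiv.toAdditive_toMultiplicative.eq_1.{0}
  have := @_root_.MulEquiv.Monoid.End.eq_1.{0}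
  have := @_root_.MulEquiv.toAdditive.eq_1.{0,0}
  have := @_root_.AddEquiv.toMultiplicativeRight.eq_1.{0,0}
  trivial

theorem r4_4 : True := by
  have := @_root_.Function.Surjective.addCommSemigroup.congr_simp.{0,0}
  have := @_root_.Function.Injective.subtractionCommMonoid.congr_simp.{0,0}
  have := @_root_.Function.Injective.subNegMonoid.congr_simp.{0,0}
  have := @_root_.Function.Injective.addCommGroup.congr_simp.{0,0}
  have := @_root_.Function.Injective.addLeftCancelSemigroup.congr_simp.{0,0}
  have := @_root_.Function.Injective.addZeroClass.congr_simp.{0,0}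
  have := @_root_.Function.Injective.monoid.congr_simp.{0,0}
  have := @_root_.Function.Injective.addCancelCommMonoid.congr_simp.{0,0}
  have := @_root_.Function.Surjective.divInvMonoid.congr_simp.{0,0}
  have := @_root_.Function.Injective.divisionMonoid.congr_simp.{0,0}
  have := @_root_.Function.Surjective.addSemigroup.congr_simp.{0,0}
  have := @_root_.Function.Surjective.mulOneClass.congr_simp.{0,0}
  have := @_root_.Function.Injective.divInvOneMonoid.congr_simp.{0,0}
  have := @_root_.Function.Injective.involutiveNeg.congr_simp.{0,0}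
  have := @_root_.Function.Injective.addMonoid.congr_simp.{0,0}
  have := @_root_.Function.Injective.addRightCancelSemigroup.congr_simp.{0,0}
  have := @_root_.Function.Injective.commGroup.congr_simp.{0,0}
  have := @_root_.Function.Surjective.commMagma.congr_simp.{0,0}
  have := @_root_.Function.Injective.commMonoid.congr_simp.{0,0}
  have := @_root_.Function.Injective.divisionCommMonoid.congr_simp.{0,0}
  have := @_root_.Function.Injective.semigroup.congr_simp.{0,0}
  have := @_root_.Function.Surjective.addCommMonoid.congr_simp.{0,0}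
  have := @_root_.Function.Injective.subtractionMonoid.congr_simp.{0,0}
  have := @_root_.Function.Injective.addCommMagma.congr_simp.{0,0}
  have := @_root_.Function.Injective.addCancelMonoid.congr_simp.{0,0}
  have := @_root_.Function.Injective.addRightCancelMonoid.congr_simp.{0,0}
  have := @_root_.Function.Surjective.involutiveInv.congr_simp.{0,0}
  have := @_root_.Function.Injective.rightCancelSemigroup.congr_simp.{0,0}
  have := @_root_.Function.Injective.group.congr_simp.{0,0}
  have := @_root_.Function.Injective.addLeftCancelMonoid.congr_simp.{0,0}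
  trivial

theorem r4_5 : True := by
  have := @_root_.Function.Injective.cancelCommMonoid.congr_simp.{0,0}
  have := @_root_.Function.Surjective.commSemigroup.congr_simp.{0,0}
  have := @_root_.Function.Injective.addGroup.congr_simp.{0,0}
  have := @_root_.Function.Injective.addCommSemigroup.congr_simp.{0,0}
  have := @_root_.Function.Surjective.addCommGroup.congr_simp.{0,0}
  have := @_root_.Function.Surjective.subNegMonoid.congr_simp.{0,0}
  have := @_root_.Function.Injective.negZeroClass.congr_simp.{0,0}
  have := @_root_.Function.Surjective.monoid.congr_simp.{0,0}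
  have := @_root_.Function.Injective.cancelMonoid.congr_simp.{0,0}
  have := @_root_.Function.Surjective.addZeroClass.congr_simp.{0,0}
  have := @_root_.Function.Injective.divInvMonoid.congr_simp.{0,0}
  have := @_root_.Function.Injective.leftCancelMonoid.congr_simp.{0,0}
  have := @_root_.Function.Injective.addSemigroup.congr_simp.{0,0}
  have := @_root_.Function.Injective.mulOneClass.congr_simp.{0,0}
  have := @_root_.Function.Surjective.involutiveNeg.congr_simp.{0,0}
  have := @_root_.Function.Surjective.addMonoid.congr_simp.{0,0}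
  have := @_root_.Function.Surjective.commGroup.congr_simp.{0,0}
  have := @_root_.Function.Injective.leftCancelSemigroup.congr_simp.{0,0}
  have := @_root_.Function.Surjective.commMonoid.congr_simp.{0,0}
  have := @_root_.Function.Injective.commMagma.congr_simp.{0,0}
  have := @_root_.Function.Surjective.semigroup.congr_simp.{0,0}
  have := @_root_.Function.Injective.rightCancelMonoid.congr_simp.{0,0}
  have := @_root_.Function.Surjective.addCommMagma.congr_simp.{0,0}
  have := @_root_.Function.Injective.addCommMonoid.congr_simp.{0,0}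
  have := @_root_.Function.Injective.involutiveInv.congr_simp.{0,0}
  have := @_root_.Function.Injective.commSemigroup.congr_simp.{0,0}
  have := @_root_.Function.Surjective.group.congr_simp.{0,0}
  have := @_root_.Function.Injective.subNegZeroMonoid.congr_simp.{0,0}
  have := @_root_.Function.Injective.invOneClass.congr_simp.{0,0}
  have := @_root_.Function.Surjective.addGroup.congr_simp.{0,0}
  trivial

theorem r4_6 : True := by
  have := @_root_.IsAddUnit.addUnit.congr_simp.{0}
  have := @_root_.invOfIsUnit.eq_1.{0}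
  have := @_root_.invOfIsUnit.congr_simp.{0}
  have := @_root_.Units.inv.eq_1.{0}
  have := @_root_.AddUnits.copy.congr_simp.{0}
  have := @_root_.AddUnits.neg.eq_1.{0}
  have := @_root_.commGroupOfIsUnit.eq_1.{0}
  have := @_root_.commGroupOfIsUnit.congr_simp.{0}
  have := @_root_.AddUnits.val.eq_1.{0}
  have := @_root_.Units.val.eq_1.{0}
  have := @_root_.AddUnits.mkOfAddEqZero.congr_simp.{0}
  have := @_root_.groupOfIsUnit.eq_1.{0}
  have := @_root_.groupOfIsUnit.congr_simp.{0}
  have := @_root_.IsAddUnit.addUnit'.congr_simp.{0}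
  have := @_root_.AddUnits.liftRight.congr_simp.{0,0}
  have := @_root_.IsLocalHom.mk.congr_simp.{0,0,0}
  have := @_root_.MonoidHom.toHomUnitsMulEquiv.eq_1.{0,0}
  have := @_root_.IsAddUnit.liftRight.congr_simp.{0,0}
  have := @_root_.Units.mapEquiv.eq_1.{0,0}
  have := @_root_.unitsEquivProdSubtype.eq_1.{0}
  have := @_root_.MulAut.toPerm.eq_1.{0}
  have := @_root_.Equiv.Perm.sumCongrHom.eq_1.{0,0}
  have := @_root_.MulAutMultiplicative.eq_1.{0}
  have := @_root_.Equiv.permCongrHom.eq_1.{0,0}
  have := @_root_.Equiv.Perm.equivUnitsEnd.eq_1.{0}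
  have := @_root_.Equiv.Perm.subtypeCongrHom.eq_1.{0}
  have := @_root_.Equiv.Perm.subtypePerm.eq_1.{0}
  have := @_root_.Function.End.eq_1.{0}
  have := @_root_.Equiv.Perm.extendDomainHom.eq_1.{0,0}
  have := @_root_.Equiv.Perm.extendDomainHom.congr_simp.{0,0}
  trivial

theorem r4_7 : True := by
  have := @_root_.MonoidHom.toHomPerm.eq_1.{0,0}
  have := @_root_.AddAut.conj.eq_1.{0}
  have := @_root_.Equiv.Perm.sigmaCongrRightHom.eq_1.{0,0}
  have := @_root_.AddAutAdditive.eq_1.{0}
  have := @_root_.AddAut.toPerm.eq_1.{0}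
  have := @_root_.IsCancelMulZero.mk.congr_simp.{0}
  have := @_root_.CommMonoidWithZero.toZero.eq_1.{0}
  have := @_root_.CommGroupWithZero.mk.congr_simp.{0}
  have := @_root_.CancelMonoidWithZero.mk.congr_simp.{0}
  have := @_root_.MulZeroOneClass.mk.congr_simp.{0}
  have := @_root_.SemigroupWithZero.mk.congr_simp.{0}
  have := @_root_.CancelCommMonoidWithZero.toCommMonoidWithZero.eq_1.{0}
  have := @_root_.CommGroupWithZero.toInv.eq_1.{0}
  have := @_root_.MulDivCancelClass.mk.congr_simp.{0}
  have := @_root_.NoZeroDivisors.mk.congr_simp.{0}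
  have := @_root_.IsRightCancelMulZero.mk.congr_simp.{0}
  have := @_root_.CommGroupWithZero.toZPow.eq_1.{0}
  have := @_root_.MulZeroOneClass.toZero.eq_1.{0}
  have := @_root_.SemigroupWithZero.toZero.eq_1.{0}
  have := @_root_.CancelCommMonoidWithZero.mk.congr_simp.{0}
  have := @_root_.GroupWithZero.toDiv.eq_1.{0}
  have := @_root_.MulZeroClass.mk.congr_simp.{0}
  have := @_root_.GroupWithZero.toZPow.eq_1.{0}
  have := @_root_.MonoidWithZero.mk.congr_simp.{0}
  have := @_root_.IsLeftCancelMulZero.mk.congr_simp.{0}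
  have := @_root_.CommGroupWithZero.toDiv.eq_1.{0}
  have := @_root_.CommMonoidWithZero.mk.congr_simp.{0}
  have := @_root_.GroupWithZero.mk.congr_simp.{0}
  have := @_root_.MonoidWithZero.toZero.eq_1.{0}
  have := @_root_.CancelMonoidWithZero.toMonoidWithZero.eq_1.{0}
  trivial

theorem r4_8 : True := by
  have := @_root_.GroupWithZero.toInv.eq_1.{0}
  have := @_root_.IsReduced.mk.congr_simp.{0}
  have := @_root_.uniqueOfZeroEqOne.eq_1.{0}
  have := @_root_.uniqueOfZeroEqOne.congr_simp.{0}
  have := @_root_.MonoidWithZeroHom.comp.eq_1.{0,0,0}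
  have := @_root_.MonoidWithZeroHom.ofClass.eq_1.{0,0,0}
  have := @_root_.powMonoidWithZeroHom.eq_1.{0}
  have := @_root_.powMonoidWithZeroHom.congr_simp.{0}
  have := @_root_.MonoidWithZeroHomClass.mk.congr_simp.{0,0,0}
  have := @_root_.MonoidWithZeroHom.toZeroHom.eq_1.{0,0}
  have := @_root_.MonoidWithZeroHom.toMonoidHom.eq_1.{0,0}
  have := @_root_.MonoidWithZeroHom.copy.eq_1.{0,0}
  have := @_root_.MonoidWithZeroHom.copy.congr_simp.{0,0}
  have := @_root_.MonoidWithZeroHom.id.eq_1.{0}
  have := @_root_.Function.Injective.monoidWithZero.eq_1.{0,0}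
  have := @_root_.Function.Injective.monoidWithZero.congr_simp.{0,0}
  have := @_root_.Function.Surjective.mulZeroClass.eq_1.{0,0}
  have := @_root_.Function.Surjective.mulZeroClass.congr_simp.{0,0}
  have := @_root_.Function.Surjective.semigroupWithZero.eq_1.{0,0}
  have := @_root_.Function.Surjective.semigroupWithZero.congr_simp.{0,0}
  have := @_root_.Function.Surjective.commMonoidWithZero.eq_1.{0,0}
  have := @_root_.Function.Surjective.commMonoidWithZero.congr_simp.{0,0}
  have := @_root_.Function.Injective.commGroupWithZero.eq_1.{0,0}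
  have := @_root_.Function.Injective.commGroupWithZero.congr_simp.{0,0}
  have := @_root_.Function.Injective.mulZeroOneClass.eq_1.{0,0}
  have := @_root_.Function.Injective.mulZeroOneClass.congr_simp.{0,0}
  have := @_root_.Function.Injective.groupWithZero.eq_1.{0,0}
  have := @_root_.Function.Injective.groupWithZero.congr_simp.{0,0}
  have := @_root_.Function.Surjective.monoidWithZero.eq_1.{0,0}
  have := @_root_.Function.Surjective.monoidWithZero.congr_simp.{0,0}
  trivial

theorem r4_9 : True := by
  have := @_root_.Function.Injective.mulZeroClass.eq_1.{0,0}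
  have := @_root_.Function.Injective.mulZeroClass.congr_simp.{0,0}
  have := @_root_.Function.Injective.semigroupWithZero.eq_1.{0,0}
  have := @_root_.Function.Injective.semigroupWithZero.congr_simp.{0,0}
  have := @_root_.Function.Injective.commMonoidWithZero.eq_1.{0,0}
  have := @_root_.Function.Injective.commMonoidWithZero.congr_simp.{0,0}
  have := @_root_.Function.Surjective.commGroupWithZero.eq_1.{0,0}
  have := @_root_.Function.Surjective.commGroupWithZero.congr_simp.{0,0}
  have := @_root_.Function.Surjective.mulZeroOneClass.eq_1.{0,0}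
  have := @_root_.Function.Surjective.mulZeroOneClass.congr_simp.{0,0}
  have := @_root_.Function.Surjective.groupWithZero.eq_1.{0,0}
  have := @_root_.Function.Surjective.groupWithZero.congr_simp.{0,0}
  have := @_root_.Function.Surjective.smulZeroClassLeft.eq_1.{0,0,0}
  have := @_root_.Function.Surjective.smulZeroClassLeft.congr_simp.{0,0,0}
  have := @_root_.DistribMulAction.mk.congr_simp.{0,0}
  have := @_root_.Function.Injective.mulActionWithZero.eq_1.{0,0,0}
  have := @_root_.Function.Injective.mulActionWithZero.congr_simp.{0,0,0}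
  have := @_root_.Function.Surjective.distribSMulLeft.eq_1.{0,0,0}
  have := @_root_.Function.Surjective.distribSMulLeft.congr_simp.{0,0,0}
  have := @_root_.DistribMulAction.toAddMonoidEnd.eq_1.{0,0}
  have := @_root_.Function.Injective.smulWithZero.eq_1.{0,0,0}
  have := @_root_.Function.Injective.smulWithZero.congr_simp.{0,0,0}
  have := @_root_.MulActionWithZero.mk.congr_simp.{0,0}
  have := @_root_.Function.Surjective.distribMulAction.eq_1.{0,0,0}
  have := @_root_.Function.Surjective.distribMulAction.congr_simp.{0,0,0}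
  have := @_root_.Function.Injective.smulZeroClass.eq_1.{0,0,0}
  have := @_root_.Function.Injective.smulZeroClass.congr_simp.{0,0,0}
  have := @_root_.Function.Injective.distribSMul.eq_1.{0,0,0}
  have := @_root_.Function.Injective.distribSMul.congr_simp.{0,0,0}
  have := @_root_.DistribSMul.compFun.eq_1.{0,0,0}
  trivial

theorem r4_10 : True := by
  have := @_root_.SMulWithZero.mk.congr_simp.{0,0}
  have := @_root_.SMulZeroClass.toZeroHom.eq_1.{0,0}
  have := @_root_.MulActionWithZero.compHom.eq_1.{0,0,0}
  have := @_root_.SMulZeroClass.mk.congr_simp.{0,0}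
  have := @_root_.DistribSMul.toAddMonoidHom.eq_1.{0,0}
  have := @_root_.Function.Surjective.mulActionWithZero.eq_1.{0,0,0}
  have := @_root_.Function.Surjective.mulActionWithZero.congr_simp.{0,0,0}
  have := @_root_.Function.Surjective.smulWithZero.eq_1.{0,0,0}
  have := @_root_.Function.Surjective.smulWithZero.congr_simp.{0,0,0}
  have := @_root_.Function.Injective.distribMulAction.eq_1.{0,0,0}
  have := @_root_.Function.Injective.distribMulAction.congr_simp.{0,0,0}
  have := @_root_.SMulZeroClass.compFun.eq_1.{0,0,0}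
  have := @_root_.SMulWithZero.compHom.eq_1.{0,0,0}
  have := @_root_.ZeroHom.smulZeroClass.eq_1.{0,0,0}
  have := @_root_.ZeroHom.smulZeroClass.congr_simp.{0,0,0}
  have := @_root_.Function.Surjective.distribSMul.eq_1.{0,0,0}
  have := @_root_.Function.Surjective.distribSMul.congr_simp.{0,0,0}
  have := @_root_.DistribSMul.mk.congr_simp.{0,0}
  have := @_root_.DistribMulAction.toAddMonoidHom.eq_1.{0,0}
  have := @_root_.AddMonoidWithOne.unary.eq_1.{0}
  have := @_root_.AddMonoidWithOne.binary.eq_1.{0}
  have := @_root_.AddMonoidWithOne.mk.congr_simp.{0}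
  have := @_root_.AddCommMonoidWithOne.mk.congr_simp.{0}
  have := @_root_.AddGroupWithOne.mk.congr_simp.{0}
  have := @_root_.AddCommGroupWithOne.toIntCast.eq_1.{0}
  have := @_root_.AddGroupWithOne.toSub.eq_1.{0}
  have := @_root_.AddCommGroupWithOne.mk.congr_simp.{0}
  have := @_root_.AddGroupWithOne.toZSMul.eq_1.{0}
  have := @_root_.AddGroupWithOne.toNeg.eq_1.{0}
  have := @_root_.AddCommGroupWithOne.toNatCast.eq_1.{0}
  trivial

theorem r4_11 : True := by
  have := @_root_.AddCommGroupWithOne.toOne.eq_1.{0}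
  have := @_root_.Int.castDef.eq_def.{0}
  have := @_root_.NonUnitalRing.mk.congr_simp.{0}
  have := @_root_.Semiring.mk.congr_simp.{0}
  have := @_root_.NonUnitalNonAssocRing.toMul.eq_1.{0}
  have := @_root_.NonUnitalNonAssocCommSemiring.mk.congr_simp.{0}
  have := @_root_.IsMulCommutative.instNonAssocCommSemiring.eq_1.{0}
  have := @_root_.IsMulCommutative.instNonAssocCommSemiring.congr_simp.{0}
  have := @_root_.HasDistribNeg.mk.congr_simp.{0}
  have := @_root_.CommSemiring.mk.congr_simp.{0}
  have := @_root_.Distrib.mk.congr_simp.{0}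
  have := @_root_.NonUnitalNonAssocCommRing.mk.congr_simp.{0}
  have := @_root_.IsMulCommutative.instCommRing.eq_1.{0}
  have := @_root_.IsMulCommutative.instCommRing.congr_simp.{0}
  have := @_root_.NonUnitalNonAssocSemiring.toMul.eq_1.{0}
  have := @_root_.NonUnitalNonAssocRing.mk.congr_simp.{0}
  have := @_root_.NonUnitalNonAssocSemiring.mk.congr_simp.{0}
  have := @_root_.NonAssocRing.toOne.eq_1.{0}
  have := @_root_.CommRing.mk.congr_simp.{0}
  have := @_root_.NonAssocSemiring.mk.congr_simp.{0}
  have := @_root_.Semiring.toNatCast.eq_1.{0}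
  have := @_root_.LeftDistribClass.mk.congr_simp.{0}
  have := @_root_.IsMulCommutative.instNonUnitalNonAssocCommSemiring.eq_1.{0}
  have := @_root_.IsMulCommutative.instNonUnitalNonAssocCommSemiring.congr_simp.{0}
  have := @_root_.IsMulCommutative.instNonUnitalCommSemiring.eq_1.{0}
  have := @_root_.IsMulCommutative.instNonUnitalCommSemiring.congr_simp.{0}
  have := @_root_.NonAssocRing.toIntCast.eq_1.{0}
  have := @_root_.Ring.toNeg.eq_1.{0}
  have := @_root_.IsMulCommutative.instCommSemiring.eq_1.{0}
  have := @_root_.IsMulCommutative.instCommSemiring.congr_simp.{0}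
  trivial

theorem r4_12 : True := by
  have := @_root_.NonAssocCommSemiring.mk.congr_simp.{0}
  have := @_root_.Ring.toIntCast.eq_1.{0}
  have := @_root_.Ring.toZSMul.eq_1.{0}
  have := @_root_.NonAssocCommRing.mk.congr_simp.{0}
  have := @_root_.IsDomain.mk.congr_simp.{0}
  have := @_root_.NonUnitalSemiring.mk.congr_simp.{0}
  have := @_root_.NonAssocSemiring.toOne.eq_1.{0}
  have := @_root_.Ring.toSub.eq_1.{0}
  have := @_root_.NonAssocRing.mk.congr_simp.{0}
  have := @_root_.NonUnitalCommRing.mk.congr_simp.{0}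
  have := @_root_.IsMulCommutative.instNonUnitalNonAssocCommRing.eq_1.{0}
  have := @_root_.IsMulCommutative.instNonUnitalNonAssocCommRing.congr_simp.{0}
  have := @_root_.NonAssocSemiring.toNatCast.eq_1.{0}
  have := @_root_.NonAssocRing.toNatCast.eq_1.{0}
  have := @_root_.IsMulCommutative.instNonUnitalCommRing.eq_1.{0}
  have := @_root_.IsMulCommutative.instNonUnitalCommRing.congr_simp.{0}
  have := @_root_.NonUnitalCommSemiring.mk.congr_simp.{0}
  have := @_root_.Ring.mk.congr_simp.{0}
  have := @_root_.RightDistribClass.mk.congr_simp.{0}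
  have := @_root_.IsMulCommutative.instNonAssocCommRing.eq_1.{0}
  have := @_root_.IsMulCommutative.instNonAssocCommRing.congr_simp.{0}
  have := @_root_.Function.Injective.module.eq_1.{0,0,0}
  have := @_root_.Function.Injective.module.congr_simp.{0,0,0}
  have := @_root_.Function.Surjective.module.eq_1.{0,0,0}
  have := @_root_.Function.Surjective.module.congr_simp.{0,0,0}
  have := @_root_.Module.mk.congr_simp.{0,0}
  have := @_root_.AddOpposite.opMulEquiv.eq_1.{0}
  have := @_root_.AddMonoidHom.mulOp.eq_1.{0,0}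
  have := @_root_.AddMonoidHom.fromOpposite.congr_simp.{0,0}
  have := @_root_.AddHom.toOpposite.congr_simp.{0,0}
  trivial

theorem r4_13 : True := by
  have := @_root_.AddHom.fromOpposite.congr_simp.{0,0}
  have := @_root_.MonoidHom.fromOpposite.congr_simp.{0,0}
  have := @_root_.AddHom.mulOp.eq_1.{0,0}
  have := @_root_.AddEquiv.mulOp.eq_1.{0,0}
  have := @_root_.MulOpposite.opAddEquiv.eq_1.{0}
  have := @_root_.MonoidHom.toOpposite.congr_simp.{0,0}
  have := @_root_.MulHom.toOpposite.congr_simp.{0,0}
  have := @_root_.AddMonoidHom.toOpposite.congr_simp.{0,0}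
  have := @_root_.MulHom.fromOpposite.congr_simp.{0,0}
  have := @_root_.powersMulHom.eq_1.{0}
  have := @_root_.powersHom.eq_1.{0}
  have := @_root_.multiplesHom.eq_1.{0}
  have := @_root_.multiplesAddHom.eq_1.{0}
  have := @_root_.AddMonoidHom.mulLeft.eq_1.{0}
  have := @_root_.AddHom.mulRight.eq_1.{0}
  have := @_root_.AddMonoid.End.mulRight.eq_1.{0}
  have := @_root_.AddHom.mulLeft.eq_1.{0}
  have := @_root_.AddMonoid.End.mulLeft.eq_1.{0}
  have := @_root_.AddMonoidHom.mulRight.eq_1.{0}
  have := @_root_.AddMonoidHom.mul.eq_1.{0}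
  have := @_root_.RingHomClass.mk.congr_simp.{0,0,0}
  have := @_root_.NonUnitalRingHom.copy.eq_1.{0,0}
  have := @_root_.NonUnitalRingHom.copy.congr_simp.{0,0}
  have := @_root_.RingHom.comp.eq_1.{0,0,0}
  have := @_root_.RingHomClass.toRingHom.eq_1.{0,0,0}
  have := @_root_.RingHom.toNonUnitalRingHom.eq_1.{0,0}
  have := @_root_.RingHom.mk'.eq_1.{0,0}
  have := @_root_.RingHom.mk'.congr_simp.{0,0}
  have := @_root_.NonUnitalRingHom.toMulHom.eq_1.{0,0}
  have := @_root_.RingHom.copy.eq_1.{0,0}
  trivial

theorem r4_14 : True := by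
  have := @_root_.RingHom.toMonoidWithZeroHom.eq_1.{0,0}
  have := @_root_.NonUnitalRingHomClass.mk.congr_simp.{0,0,0}
  have := @_root_.NonUnitalRingHomClass.toNonUnitalRingHom.eq_1.{0,0,0}
  have := @_root_.RingHom.toAddMonoidHom.eq_1.{0,0}
  have := @_root_.AddMonoidHom.mkRingHomOfMulSelfOfTwoNeZero.eq_1.{0,0}
  have := @_root_.AddMonoidHom.mkRingHomOfMulSelfOfTwoNeZero.congr_simp.{0,0}
  have := @_root_.NonUnitalRingHom.mk.congr_simp.{0,0}
  have := @_root_.NonUnitalRingHom.id.eq_1.{0}
  have := @_root_.RingHom.toMonoidHom.eq_1.{0,0}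
  have := @_root_.NonUnitalRingHom.comp.eq_1.{0,0,0}
  have := @_root_.NonUnitalRingHom.toAddMonoidHom.eq_1.{0,0}
  have := @_root_.Nat.castRingHom.eq_1.{0}
  have := @_root_.Nat.castAddMonoidHom.eq_1.{0}
  have := @_root_.Units.mk0.eq_1.{0}
  have := @_root_.groupWithZeroOfIsUnitOrEqZero.eq_1.{0}
  have := @_root_.groupWithZeroOfIsUnitOrEqZero.congr_simp.{0}
  have := @_root_.commGroupWithZeroOfIsUnitOrEqZero.eq_1.{0}
  have := @_root_.commGroupWithZeroOfIsUnitOrEqZero.congr_simp.{0}
  have := @_root_.AddUnits.ofNSMul.congr_simp.{0}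
  have := @_root_.Units.rightOfMul.congr_simp.{0}
  have := @_root_.AddUnits.leftOfAdd.congr_simp.{0}
  have := @_root_.Units.leftOfMul.congr_simp.{0}
  have := @_root_.AddUnits.ofNSMulEqZero.congr_simp.{0}
  have := @_root_.Units.ofPow.congr_simp.{0}
  have := @_root_.AddUnits.rightOfAdd.congr_simp.{0}
  have := @_root_.Function.Injective.nonUnitalNonAssocRing.eq_1.{0,0}
  have := @_root_.Function.Injective.nonUnitalNonAssocRing.congr_simp.{0,0}
  have := @_root_.Function.Injective.distrib.eq_1.{0,0}
  have := @_root_.Function.Injective.distrib.congr_simp.{0,0}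
  have := @_root_.Function.Surjective.nonUnitalNonAssocSemiring.eq_1.{0,0}
  trivial

theorem r4_15 : True := by
  have := @_root_.Function.Surjective.nonUnitalNonAssocSemiring.congr_simp.{0,0}
  have := @_root_.Function.Surjective.addMonoidWithOne.eq_1.{0,0}
  have := @_root_.Function.Surjective.addMonoidWithOne.congr_simp.{0,0}
  have := @_root_.Function.Injective.nonUnitalNonAssocCommSemiring.eq_1.{0,0}
  have := @_root_.Function.Injective.nonUnitalNonAssocCommSemiring.congr_simp.{0,0}
  have := @_root_.Function.Surjective.addGroupWithOne.eq_1.{0,0}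
  have := @_root_.Function.Surjective.addGroupWithOne.congr_simp.{0,0}
  have := @_root_.Function.Surjective.hasDistribNeg.eq_1.{0,0}
  have := @_root_.Function.Surjective.hasDistribNeg.congr_simp.{0,0}
  have := @_root_.Function.Injective.addCommMonoidWithOne.eq_1.{0,0}
  have := @_root_.Function.Injective.addCommMonoidWithOne.congr_simp.{0,0}
  trivial

end CL.BaseAux
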