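import Cfsg.Agent.Base.Imports

/-! On-demand lemmas of Prelude and Mathlib definitions, produced once here so that no other file holds a copy. -/

set_option linter.all false

namespace CL.BaseAux

theorem r5_0 : True := by
  have := @_root_.Function.Injective.nonAssocSemiring.eq_1.{0,0}
  have := @_root_.Function.Injective.nonAssocSemiring.congr_simp.{0,0}
  have := @_root_.Function.Surjective.nonUnitalCommSemiring.eq_1.{0,0}
  have := @_root_.Function.Surjective.nonUnitalCommSemiring.congr_simp.{0,0}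
  have := @_root_.Function.Injective.nonUnitalSemiring.eq_1.{0,0}
  have := @_root_.Function.Injective.nonUnitalSemiring.congr_simp.{0,0}
  have := @_root_.Function.Injective.nonAssocCommRing.eq_1.{0,0}
  have := @_root_.Function.Injective.nonAssocCommRing.congr_simp.{0,0}
  have := @_root_.Function.Injective.nonUnitalRing.eq_1.{0,0}
  have := @_root_.Function.Injective.nonUnitalRing.congr_simp.{0,0}
  have := @_root_.Function.Injective.commSemiring.eq_1.{0,0}
  have := @_root_.Function.Injective.commSemiring.congr_simp.{0,0}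
  have := @_root_.Function.Injective.addCommGroupWithOne.eq_1.{0,0}
  have := @_root_.Function.Injective.addCommGroupWithOne.congr_simp.{0,0}
  have := @_root_.Function.Surjective.semiring.eq_1.{0,0}
  have := @_root_.Function.Surjective.semiring.congr_simp.{0,0}
  have := @_root_.Function.Surjective.nonAssocCommSemiring.eq_1.{0,0}
  have := @_root_.Function.Surjective.nonAssocCommSemiring.congr_simp.{0,0}
  have := @_root_.Function.Surjective.nonAssocRing.eq_1.{0,0}
  have := @_root_.Function.Surjective.nonAssocRing.congr_simp.{0,0}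
  have := @_root_.Function.Injective.commRing.eq_1.{0,0}
  have := @_root_.Function.Injective.commRing.congr_simp.{0,0}
  have := @_root_.Function.Surjective.nonUnitalCommRing.eq_1.{0,0}
  have := @_root_.Function.Surjective.nonUnitalCommRing.congr_simp.{0,0}
  have := @_root_.Function.Surjective.ring.eq_1.{0,0}
  have := @_root_.Function.Surjective.ring.congr_simp.{0,0}
  have := @_root_.Function.Surjective.nonUnitalNonAssocCommRing.eq_1.{0,0}
  have := @_root_.Function.Surjective.nonUnitalNonAssocCommRing.congr_simp.{0,0}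
  have := @_root_.Function.Surjective.nonUnitalNonAssocRing.eq_1.{0,0}
  have := @_root_.Function.Surjective.nonUnitalNonAssocRing.congr_simp.{0,0}
  trivial

theorem r5_1 : True := by
  have := @_root_.Function.Injective.addMonoidWithOne.eq_1.{0,0}
  have := @_root_.Function.Injective.addMonoidWithOne.congr_simp.{0,0}
  have := @_root_.Function.Surjective.nonUnitalNonAssocCommSemiring.eq_1.{0,0}
  have := @_root_.Function.Surjective.nonUnitalNonAssocCommSemiring.congr_simp.{0,0}
  have := @_root_.Function.Surjective.distrib.eq_1.{0,0}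
  have := @_root_.Function.Surjective.distrib.congr_simp.{0,0}
  have := @_root_.Function.Injective.nonUnitalNonAssocSemiring.eq_1.{0,0}
  have := @_root_.Function.Injective.nonUnitalNonAssocSemiring.congr_simp.{0,0}
  have := @_root_.Function.Injective.addGroupWithOne.eq_1.{0,0}
  have := @_root_.Function.Injective.addGroupWithOne.congr_simp.{0,0}
  have := @_root_.Function.Injective.hasDistribNeg.eq_1.{0,0}
  have := @_root_.Function.Injective.hasDistribNeg.congr_simp.{0,0}
  have := @_root_.Function.Surjective.addCommMonoidWithOne.eq_1.{0,0}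
  have := @_root_.Function.Surjective.addCommMonoidWithOne.congr_simp.{0,0}
  have := @_root_.Function.Injective.nonUnitalCommSemiring.eq_1.{0,0}
  have := @_root_.Function.Injective.nonUnitalCommSemiring.congr_simp.{0,0}
  have := @_root_.Function.Surjective.nonAssocSemiring.eq_1.{0,0}
  have := @_root_.Function.Surjective.nonAssocSemiring.congr_simp.{0,0}
  have := @_root_.Function.Surjective.nonUnitalSemiring.eq_1.{0,0}
  have := @_root_.Function.Surjective.nonUnitalSemiring.congr_simp.{0,0}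
  have := @_root_.Function.Surjective.nonAssocCommRing.eq_1.{0,0}
  have := @_root_.Function.Surjective.nonAssocCommRing.congr_simp.{0,0}
  have := @_root_.Function.Surjective.nonUnitalRing.eq_1.{0,0}
  have := @_root_.Function.Surjective.nonUnitalRing.congr_simp.{0,0}
  have := @_root_.Function.Surjective.commSemiring.eq_1.{0,0}
  have := @_root_.Function.Surjective.commSemiring.congr_simp.{0,0}
  have := @_root_.Function.Surjective.addCommGroupWithOne.eq_1.{0,0}
  have := @_root_.Function.Surjective.addCommGroupWithOne.congr_simp.{0,0}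
  have := @_root_.Function.Injective.semiring.eq_1.{0,0}
  have := @_root_.Function.Injective.semiring.congr_simp.{0,0}
  trivial

theorem r5_2 : True := by
  have := @_root_.Function.Injective.nonAssocCommSemiring.eq_1.{0,0}
  have := @_root_.Function.Injective.nonAssocCommSemiring.congr_simp.{0,0}
  have := @_root_.Function.Surjective.commRing.eq_1.{0,0}
  have := @_root_.Function.Surjective.commRing.congr_simp.{0,0}
  have := @_root_.Function.Injective.nonUnitalCommRing.eq_1.{0,0}
  have := @_root_.Function.Injective.nonUnitalCommRing.congr_simp.{0,0}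
  have := @_root_.Function.Injective.nonAssocRing.eq_1.{0,0}
  have := @_root_.Function.Injective.nonAssocRing.congr_simp.{0,0}
  have := @_root_.Function.Injective.ring.eq_1.{0,0}
  have := @_root_.Function.Injective.ring.congr_simp.{0,0}
  have := @_root_.Function.Injective.nonUnitalNonAssocCommRing.eq_1.{0,0}
  have := @_root_.Function.Injective.nonUnitalNonAssocCommRing.congr_simp.{0,0}
  have := @_root_.zmultiplesHom.eq_1.{0}
  have := @_root_.Int.castAddHom.eq_1.{0}
  have := @_root_.zpowersMulHom.eq_1.{0}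
  have := @_root_.Int.ofNatHom.eq_1
  have := @_root_.zpowersHom.eq_1.{0}
  have := @_root_.Int.castRingHom.eq_1.{0}
  have := @_root_.zmultiplesAddHom.eq_1.{0}
  have := @_root_.AddCommMonoid.uniqueNatModule.eq_1.{0}
  have := @_root_.Module.addCommMonoidToAddCommGroup.eq_1.{0,0}
  have := @_root_.AddCommGroup.uniqueIntModule.eq_1.{0}
  have := @_root_.NNRat.castRec.eq_1.{0}
  have := @_root_.DivisionRing.mk.congr_simp.{0}
  have := @_root_.Rat.castRec.eq_1.{0}
  have := @_root_.Field.toZPow.eq_1.{0}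
  have := @_root_.Field.nnqsmul.eq_1.{0}
  have := @_root_.Field.mk.congr_simp.{0}
  have := @_root_.DivisionRing.toZPow.eq_1.{0}
  have := @_root_.DivisionRing.nnqsmul.eq_1.{0}
  trivial

theorem r5_3 : True := by
  have := @_root_.DivisionSemiring.toDiv.eq_1.{0}
  have := @_root_.Field.toInv.eq_1.{0}
  have := @_root_.Field.toNNRatCast.eq_1.{0}
  have := @_root_.Semifield.toInv.eq_1.{0}
  have := @_root_.Field.toRatCast.eq_1.{0}
  have := @_root_.DivisionRing.toInv.eq_1.{0}
  have := @_root_.Semifield.nnqsmul.eq_1.{0}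
  have := @_root_.Semifield.toZPow.eq_1.{0}
  have := @_root_.Semifield.toNNRatCast.eq_1.{0}
  have := @_root_.DivisionSemiring.nnqsmul.eq_1.{0}
  have := @_root_.DivisionSemiring.toZPow.eq_1.{0}
  have := @_root_.DivisionSemiring.mk.congr_simp.{0}
  have := @_root_.DivisionRing.qsmul.eq_1.{0}
  have := @_root_.Semifield.mk.congr_simp.{0}
  have := @_root_.DivisionSemiring.toInv.eq_1.{0}
  have := @_root_.Field.toDiv.eq_1.{0}
  have := @_root_.Field.qsmul.eq_1.{0}
  have := @_root_.Semifield.toDiv.eq_1.{0}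
  have := @_root_.DivisionRing.toDiv.eq_1.{0}
  have := @_root_.PProd.mk.injArrow.eq_1.{0,0,0}
  have := @_root_.PProd.mk.injArrow.congr_simp.{0,0,0}
  have := @_root_.Function.Embedding.optionMap.eq_1.{0,0}
  have := @_root_.Function.Embedding.quotientOut.eq_1.{0}
  have := @_root_.Function.Embedding.congr.eq_1.{0,0,0,0}
  have := @_root_.Function.Embedding.equivOfSurjective.eq_1.{0,0}
  have := @_root_.Function.Embedding.equivOfSurjective.congr_simp.{0,0}
  have := @_root_.Function.Embedding.sigmaMap.eq_1.{0,0,0,0}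
  have := @_root_.Equiv.embeddingSurjectiveEquiv.eq_1.{0,0}
  have := @_root_.Equiv.asEmbedding.eq_1.{0,0}
  have := @_root_.Function.Embedding.arrowCongrLeft.eq_1.{0,0,0}
  trivial

theorem r5_4 : True := by
  have := @_root_.Function.Embedding.inl.eq_1.{0,0}
  have := @_root_.Function.Embedding.some.eq_1.{0}
  have := @_root_.Function.Embedding.subtypeMap.eq_1.{0,0}
  have := @_root_.Function.Embedding.subtypeMap.congr_simp.{0,0}
  have := @_root_.Function.Embedding.sectL.eq_1.{0,0}
  have := @_root_.Equiv.subtypeInjectiveEquivEmbedding.eq_1.{0,0}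
  have := @_root_.Function.Embedding.prodMap.eq_1.{0,0,0,0}
  have := @_root_.Equiv.embeddingCongr.eq_1.{0,0,0,0}
  have := @_root_.Function.Embedding.sumMap.eq_1.{0,0,0,0}
  have := @_root_.Function.Embedding.toFun.eq_1.{0,0}
  have := @_root_.Function.Embedding.pprodMap.eq_1.{0,0,0,0}
  have := @_root_.Equiv.toEmbedding.eq_1.{0,0}
  have := @_root_.Function.Embedding.oneEmbeddingEquiv.eq_1.{0,0}
  have := @_root_.Function.Embedding.refl.eq_1.{0}
  have := @_root_.Function.Embedding.ofIsEmpty.eq_1.{0,0}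
  have := @_root_.Function.Embedding.ofIsEmpty.congr_simp.{0,0}
  have := @_root_.Function.Embedding.arrowCongrRight.eq_1.{0,0,0}
  have := @_root_.subtypeOrLeftEmbedding.eq_1.{0}
  have := @_root_.Function.Embedding.ofSurjective.eq_1.{0,0}
  have := @_root_.Function.Embedding.punit.eq_1.{0,0}
  have := @_root_.Function.Embedding.inr.eq_1.{0,0}
  have := @_root_.Function.Embedding.piCongrRight.eq_1.{0,0,0}
  have := @_root_.Function.Embedding.sectR.eq_1.{0,0}
  have := @_root_.Quotient.mkRelHom.eq_1.{0}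
  have := @_root_.RelEmbedding.prodLexMap.eq_1.{0,0,0,0}
  have := @_root_.RelIso.relIsoOfIsEmpty.eq_1.{0,0}
  have := @_root_.RelIso.relIsoOfIsEmpty.congr_simp.{0,0}
  have := @_root_.RelIso.emptySumLex.eq_1.{0,0}
  have := @_root_.RelIso.emptySumLex.congr_simp.{0,0}
  have := @_root_.Quotient.outRelEmbedding.eq_1.{0}
  trivial

theorem r5_5 : True := by
  have := @_root_.RelIso.symm.eq_1.{0,0}
  have := @_root_.RelIso.trans.eq_1.{0,0,0}
  have := @_root_.RelIso.relIsoCongr.eq_1.{0,0,0,0}
  have := @_root_.RelIso.cast.eq_1.{0}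
  have := @_root_.RelIso.cast.congr_simp.{0}
  have := @_root_.RelHom.preimage.eq_1.{0,0}
  have := @_root_.RelEmbedding.swap.eq_1.{0,0}
  have := @_root_.RelIso.sumLexEmpty.eq_1.{0,0}
  have := @_root_.RelIso.sumLexEmpty.congr_simp.{0,0}
  have := @_root_.RelEmbedding.sumLiftRelInl.eq_1.{0,0}
  have := @_root_.RelEmbedding.sumLexInl.eq_1.{0,0}
  have := @_root_.RelEmbedding.toEmbedding.eq_1.{0,0}
  have := @_root_.RelIso.copy.eq_1.{0,0}
  have := @_root_.RelIso.copy.congr_simp.{0,0}
  have := @_root_.RelEmbedding.sumLiftRelMap.eq_1.{0,0,0,0}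
  have := @_root_.RelIso.preimage.eq_1.{0,0}
  have := @_root_.RelIso.sumLexCongr.eq_1.{0,0,0,0}
  have := @_root_.RelEmbedding.trans.eq_1.{0,0,0}
  have := @_root_.RelIso.relEmbeddingCongr.eq_1.{0,0,0,0}
  have := @_root_.RelEmbedding.sumLexInr.eq_1.{0,0}
  have := @_root_.RelEmbedding.prodLexMkLeft.eq_1.{0,0}
  have := @_root_.RelEmbedding.prodLexMkLeft.congr_simp.{0,0}
  have := @_root_.RelEmbedding.preimage.eq_1.{0,0}
  have := @_root_.RelHom.comp.eq_1.{0,0,0}
  have := @_root_.RelIso.refl.eq_1.{0}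
  have := @_root_.RelIso.relHomCongr.eq_1.{0,0,0,0}
  have := @_root_.RelIso.toEquiv.eq_1.{0,0}
  have := @_root_.RelHom.toFun.eq_1.{0,0}
  have := @_root_.Subtype.relEmbedding.eq_1.{0}
  have := @_root_.RelIso.ofSurjective.eq_1.{0,0}
  trivial

theorem r5_6 : True := by
  have := @_root_.RelIso.ofOnFun.eq_1.{0,0}
  have := @_root_.RelIso.prodLexCongr.eq_1.{0,0,0,0}
  have := @_root_.RelHom.id.eq_1.{0}
  have := @_root_.RelIso.toMap.eq_1.{0,0}
  have := @_root_.RelEmbedding.sumLiftRelInr.eq_1.{0,0}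
  have := @_root_.RelIso.toRelEmbedding.eq_1.{0,0}
  have := @_root_.RelIso.compl.eq_1.{0,0}
  have := @_root_.RelIso.swap.eq_1.{0,0}
  have := @_root_.RelEmbedding.sumLexMap.eq_1.{0,0,0,0}
  have := @_root_.RelIso.ofUniqueOfRefl.eq_1.{0,0}
  have := @_root_.RelIso.ofUniqueOfRefl.congr_simp.{0,0}
  have := @_root_.RelEmbedding.prodLexMkRight.eq_1.{0,0}
  have := @_root_.RelEmbedding.prodLexMkRight.congr_simp.{0,0}
  have := @_root_.RelHom.swap.eq_1.{0,0}
  have := @_root_.RelEmbedding.ofMapRelIff.eq_1.{0,0}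
  have := @_root_.RelEmbedding.ofMapRelIff.congr_simp.{0,0}
  have := @_root_.RelEmbedding.ofOnFun.eq_1.{0,0}
  have := @_root_.RelEmbedding.toRelHom.eq_1.{0,0}
  have := @_root_.RelEmbedding.toMap.eq_1.{0,0}
  have := @_root_.RelHom.ofOnFun.eq_1.{0,0}
  have := @_root_.RelHomClass.mk.congr_simp.{0,0,0}
  have := @_root_.RelHom.toMap.eq_1.{0,0}
  have := @_root_.RelEmbedding.ofMonotone.eq_1.{0,0}
  have := @_root_.RelIso.ofUniqueOfIrrefl.eq_1.{0,0}
  have := @_root_.RelIso.ofUniqueOfIrrefl.congr_simp.{0,0}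
  have := @_root_.RelEmbedding.ofIsEmpty.eq_1.{0,0}
  have := @_root_.RelEmbedding.refl.eq_1.{0}
  have := @_root_.RelIso.embeddingSurjectiveEquivIso.eq_1.{0,0}
  have := @_root_.OrderIso.eq_1.{0,0}
  have := @_root_.OrderIso.orderEmbeddingCongr.eq_1.{0,0,0,0}
  trivial

theorem r5_7 : True := by
  have := @_root_.OrderHom.prodIso.eq_1.{0,0,0}
  have := @_root_.OrderHom.copy.eq_1.{0,0}
  have := @_root_.Pi.evalOrderHom.eq_1.{0,0}
  have := @_root_.OrderHom.pi.eq_1.{0,0,0}
  have := @_root_.OrderEmbedding.ofMapLEIff.eq_1.{0,0}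
  have := @_root_.OrderHom.coeFnHom.eq_1.{0,0}
  have := @_root_.OrderIso.dualDual.eq_1.{0}
  have := @_root_.OrderIso.toOrderEmbedding.eq_1.{0,0}
  have := @_root_.OrderHom.dualIso.eq_1.{0,0}
  have := @_root_.RelHom.toOrderHom.eq_1.{0,0}
  have := @_root_.OrderHom.const.eq_1.{0,0}
  have := @_root_.OrderHom.equivRelHom.eq_1.{0,0}
  have := @_root_.OrderIso.ofHomInv.eq_1.{0,0}
  have := @_root_.OrderEmbedding.eq_1.{0,0}
  have := @_root_.OrderHom.compₘ.eq_1.{0,0,0}
  have := @_root_.OrderHom.prodMap.eq_1.{0,0,0,0}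
  have := @_root_.OrderHom.uliftLeftMap.eq_1.{0,0,0}
  have := @_root_.OrderHom.Subtype.val.eq_1.{0}
  have := @_root_.OrderIsoClass.mk.congr_simp.{0,0,0}
  have := @_root_.OrderIso.ofSurjective.eq_1.{0,0}
  have := @_root_.OrderIso.ofSurjective.congr_simp.{0,0}
  have := @_root_.OrderHomClass.eq_1.{0,0,0}
  have := @_root_.OrderIso.prodComm.eq_1.{0,0}
  have := @_root_.OrderHom.curry.eq_1.{0,0,0}
  have := @_root_.OrderHom.fst.eq_1.{0,0}
  have := @_root_.OrderEmbedding.id.eq_1.{0}
  have := @_root_.OrderEmbedding.subtype.eq_1.{0}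
  have := @_root_.OrderHom.id.eq_1.{0}
  have := @_root_.OrderIso.conj.eq_1.{0,0}
  have := @_root_.OrderIso.ofUnique.eq_1.{0,0}
  trivial

theorem r5_8 : True := by
  have := @_root_.OrderIsoClass.toOrderIso.eq_1.{0,0,0}
  have := @_root_.OrderIso.prodAssoc.eq_1.{0,0,0}
  have := @_root_.OrderIso.dual.eq_1.{0,0}
  have := @_root_.OrderIso.refl.eq_1.{0}
  have := @_root_.OrderHom.comp.eq_1.{0,0,0}
  have := @_root_.OrderIso.ofIsEmpty.eq_1.{0,0}
  have := @_root_.OrderIso.ofIsEmpty.congr_simp.{0,0}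
  have := @_root_.Subtype.orderEmbedding.eq_1.{0}
  have := @_root_.Subtype.orderEmbedding.congr_simp.{0}
  have := @_root_.Equiv.toOrderIso.eq_1.{0,0}
  have := @_root_.Equiv.toOrderIso.congr_simp.{0,0}
  have := @_root_.OrderEmbedding.comp.eq_1.{0,0,0}
  have := @_root_.OrderHom.prod.eq_1.{0,0,0}
  have := @_root_.OrderHom.onDiag.eq_1.{0,0}
  have := @_root_.OrderHom.diag.eq_1.{0}
  have := @_root_.OrderIso.ofCmpEqCmp.eq_1.{0,0}
  have := @_root_.OrderIso.ofCmpEqCmp.congr_simp.{0,0}
  have := @_root_.OrderHom.uliftMap.eq_1.{0,0,0,0}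
  have := @_root_.RelEmbedding.orderEmbeddingOfLTEmbedding.eq_1.{0,0}
  have := @_root_.OrderHom.toFun.eq_1.{0,0}
  have := @_root_.OrderEmbedding.ofStrictMono.eq_1.{0,0}
  have := @_root_.OrderHomClass.toOrderHom.eq_1.{0,0,0}
  have := @_root_.OrderIso.ofRelIsoLT.eq_1.{0,0}
  have := @_root_.OrderHom.prodₘ.eq_1.{0,0,0}
  have := @_root_.OrderHom.piIso.eq_1.{0,0,0}
  have := @_root_.OrderHom.dual.eq_1.{0,0}
  have := @_root_.OrderHom.apply.eq_1.{0,0}
  have := @_root_.OrderEmbedding.ofIsEmpty.eq_1.{0,0}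
  have := @_root_.OrderEmbedding.dual.eq_1.{0,0}
  have := @_root_.OrderIso.arrowCongr.eq_1.{0,0,0,0}
  trivial

theorem r5_9 : True := by
  have := @_root_.OrderIso.funUnique.eq_1.{0,0}
  have := @_root_.OrderHom.snd.eq_1.{0,0}
  have := @_root_.OrderIso.orderIsoCongr.eq_1.{0,0,0,0}
  have := @_root_.OrderIso.trans.eq_1.{0,0,0}
  have := @_root_.ULift.orderIso.eq_1.{0,0}
  have := @_root_.StrictMono.orderIsoOfRightInverse.eq_1.{0,0}
  have := @_root_.OrderHom.uliftRightMap.eq_1.{0,0,0}
  have := @_root_.OrderIso.equivEmbeddingSurjective.eq_1.{0,0}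
  have := @_root_.Int.gcdA.eq_def
  have := @_root_.Int.gcdA.eq_1
  have := @_root_.Int.gcdB.eq_def
  have := @_root_.Int.gcdB.eq_1
  have := @_root_.Nat.castOrderEmbedding.eq_1.{0}
  have := @_root_.WithOne.recOneCoe.eq_def.{0,0}
  have := @_root_.WithOne.recOneCoe.eq_1.{0,0}
  have := @_root_.WithZero.recZeroCoe.eq_def.{0,0}
  have := @_root_.WithZero.recZeroCoe.eq_1.{0,0}
  have := @_root_.MulEquiv.toMonoidWithZeroHom.eq_1.{0,0}
  have := @_root_.WithZero.logEquiv.eq_1.{0}
  have := @_root_.WithZero.lift'.eq_1.{0,0}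
  have := @_root_.MulEquiv.unzero.eq_1.{0,0}
  have := @_root_.WithZero.expRecOn.eq_1.{0,0}
  have := @_root_.WithZero.coeMonoidHom.eq_1.{0}
  have := @_root_.WithZero.map'.eq_1.{0,0}
  have := @_root_.WithZero.expEquiv.eq_1.{0}
  have := @_root_.Nat.findX.eq_1
  have := @_root_.Nat.findX.congr_simp
  have := @_root_.Nat.find.eq_1
  have := @_root_.Int.leastOfBdd.eq_1
  have := @_root_.Int.greatestOfBdd.eq_1
  trivial

theorem r5_10 : True := by
  have := @_root_.Invertible.invOf.eq_1.{0}
  have := @_root_.Invertible.mul.eq_1.{0}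
  have := @_root_.invertibleOfGroup.eq_1.{0}
  have := @_root_.Invertible.copy.eq_1.{0}
  have := @_root_.Invertible.copy.congr_simp.{0}
  have := @_root_.invertibleOne.eq_1.{0}
  have := @_root_.Invertible.copy'.eq_1.{0}
  have := @_root_.Invertible.copy'.congr_simp.{0}
  have := @_root_.invertibleOfLeftInverse.eq_1.{0}
  have := @_root_.invertibleOfLeftInverse.congr_simp.{0}
  have := @_root_.invertibleMul.eq_1.{0}
  have := @_root_.invertibleOfRightInverse.eq_1.{0}
  have := @_root_.invertibleOfRightInverse.congr_simp.{0}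
  have := @_root_.Invertible.mulLeft.eq_1.{0}
  have := @_root_.invertibleOfPowEqOne.eq_1.{0}
  have := @_root_.invertibleOfPowEqOne.congr_simp.{0}
  have := @_root_.unitOfInvertible.eq_1.{0}
  have := @_root_.Invertible.ofLeftInverse.eq_1.{0,0,0}
  have := @_root_.Invertible.ofLeftInverse.congr_simp.{0,0,0}
  have := @_root_.Invertible.map.eq_1.{0,0,0}
  have := @_root_.Invertible.map.congr_simp.{0,0,0}
  have := @_root_.Invertible.mulRight.eq_1.{0}
  have := @_root_.invertibleOfInvertibleMul.eq_1.{0}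
  have := @_root_.invertibleEquivOfLeftInverse.eq_1.{0,0,0,0}
  have := @_root_.invertibleEquivOfLeftInverse.congr_simp.{0,0,0,0}
  have := @_root_.invertibleOfMulInvertible.eq_1.{0}
  have := @_root_.IsUnit.invertible.eq_1.{0}
  have := @_root_.IsUnit.invertible.congr_simp.{0}
  have := @_root_.invertibleOfNonzero.eq_1.{0}
  have := @_root_.invertibleOfNonzero.congr_simp.{0}
  trivial

theorem r5_11 : True := by
  have := @_root_.invertibleDiv.eq_1.{0}
  have := @_root_.invertibleNeg.eq_1.{0}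
  have := @_root_.AddUnits.mulRight.eq_1.{0}
  have := @_root_.AddUnits.mulLeft.eq_1.{0}
  have := @_root_.Function.Injective.divisionSemiring.eq_1.{0,0}
  have := @_root_.Function.Injective.divisionSemiring.congr_simp.{0,0}
  have := @_root_.Field.ofIsUnitOrEqZero.eq_1.{0}
  have := @_root_.Field.ofIsUnitOrEqZero.congr_simp.{0}
  have := @_root_.Function.Injective.divisionRing.eq_1.{0,0}
  have := @_root_.Function.Injective.divisionRing.congr_simp.{0,0}
  have := @_root_.Function.Injective.field.eq_1.{0,0}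
  have := @_root_.Function.Injective.field.congr_simp.{0,0}
  have := @_root_.DivisionRing.ofIsUnitOrEqZero.eq_1.{0}
  have := @_root_.DivisionRing.ofIsUnitOrEqZero.congr_simp.{0}
  have := @_root_.Function.Injective.semifield.eq_1.{0,0}
  have := @_root_.Function.Injective.semifield.congr_simp.{0,0}
  have := @_root_.invMonoidWithZeroHom.eq_1.{0}
  have := @_root_.MonoidWithZero.inverse.eq_1.{0}
  have := @_root_.Equiv.mulLeft₀.eq_1.{0}
  have := @_root_.Equiv.divRight₀.eq_1.{0}
  have := @_root_.Equiv.divLeft₀.eq_1.{0}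
  have := @_root_.Equiv.divLeft₀.congr_simp.{0}
  have := @_root_.Equiv.mulRight₀.eq_1.{0}
  have := @_root_.unitsEquivNeZero.eq_1.{0}
  have := @_root_.Equiv.dvd.eq_1.{0}
  have := @_root_.Equiv.Set.sep.eq_1.{0}
  have := @_root_.Set.BijOn.equiv.congr_simp.{0,0}
  have := @_root_.Equiv.Set.congr.eq_1.{0,0}
  have := @_root_.Equiv.ofInjective.eq_1.{0,0}
  have := @_root_.Equiv.Set.powerset.eq_1.{0}
  trivial

theorem r5_12 : True := by
  have := @_root_.Equiv.Set.rangeInr.eq_1.{0,0}
  have := @_root_.Equiv.Set.imageOfInjOn.eq_1.{0,0}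
  have := @_root_.Equiv.Set.imageOfInjOn.congr_simp.{0,0}
  have := @_root_.Equiv.Set.sumDiffSubset.eq_1.{0}
  have := @_root_.Equiv.ofPreimageEquiv.eq_1.{0,0,0}
  have := @_root_.Equiv.setProdEquivSigma.eq_1.{0,0}
  have := @_root_.Equiv.Set.pempty.eq_1.{0,0}
  have := @_root_.Equiv.Set.unionSumInter.eq_1.{0}
  have := @_root_.Equiv.Set.union.eq_1.{0}
  have := @_root_.Equiv.Set.rangeInl.eq_1.{0,0}
  have := @_root_.Equiv.Set.image.eq_1.{0,0}
  have := @_root_.Equiv.sigmaPreimageEquiv.eq_1.{0,0}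
  have := @_root_.Equiv.Set.union'.eq_1.{0}
  have := @_root_.Equiv.Set.union'.congr_simp.{0}
  have := @_root_.Equiv.ofLeftInverse.eq_1.{0,0}
  have := @_root_.Equiv.Set.insert.eq_1.{0}
  have := @_root_.Equiv.Set.sumCompl.eq_1.{0}
  have := @_root_.Equiv.Set.rangeSplittingImageEquiv.eq_1.{0,0}
  have := @_root_.Equiv.ofLeftInverse'.eq_1.{0,0}
  have := @_root_.Equiv.Set.univPi.eq_1.{0,0}
  have := @_root_.Equiv.Set.prod.eq_1.{0,0}
  have := @_root_.Equiv.Set.compl.eq_1.{0,0}
  have := @_root_.Equiv.Set.singleton.eq_1.{0,0}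
  have := @_root_.Equiv.image.eq_1.{0,0}
  have := @_root_.Equiv.Set.empty.eq_1.{0}
  have := @_root_.StrictMonoOn.orderIso.eq_1.{0,0}
  have := @_root_.StrictMonoOn.orderIso.congr_simp.{0,0}
  have := @_root_.OrderIso.setCongr.eq_1.{0}
  have := @_root_.StrictMono.orderIso.eq_1.{0,0}
  have := @_root_.OrderIso.Icc.eq_1.{0,0}
  trivial

theorem r5_13 : True := by
  have := @_root_.OrderIso.Ici.eq_1.{0,0}
  have := @_root_.OrderIso.Iic.eq_1.{0,0}
  have := @_root_.Set.sumEquiv.eq_1.{0,0}
  have := @_root_.StrictMono.orderIsoOfSurjective.eq_1.{0,0}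
  have := @_root_.StrictMono.orderIsoOfSurjective.congr_simp.{0,0}
  have := @_root_.OrderIso.compl.eq_1.{0}
  have := @_root_.OrderIso.Set.univ.eq_1.{0}
  have := @_root_.OrderEmbedding.orderIso.eq_1.{0,0}
  have := @_root_.List.getI.eq_1.{0}
  have := @_root_.List.chooseX.eq_def.{0}
  have := @_root_.List.chooseX.eq_1.{0}
  have := @_root_.List.mapDiagM'.eq_def.{0,0}
  have := @_root_.List.mapDiagM'.eq_1.{0,0}
  have := @_root_.List.findM.eq_1.{0,0}
  have := @_root_.List.orM.eq_1.{0}
  have := @_root_.List.headI.eq_def.{0}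
  have := @_root_.List.mapIdxM'.eq_1.{0,0,0}
  have := @_root_.List.findM?'.eq_def.{0,0}
  have := @_root_.List.findM?'.eq_1.{0,0}
  have := @_root_.List.takeI.eq_1.{0}
  have := @_root_.List.zipWith3.eq_def.{0,0,0,0}
  have := @_root_.List.zipWith3.eq_1.{0,0,0,0}
  have := @_root_.List.zipWith5.eq_def.{0,0,0,0,0,0}
  have := @_root_.List.zipWith5.eq_1.{0,0,0,0,0,0}
  have := @_root_.List.foldlIdxM.eq_1.{0,0,0}
  have := @_root_.List.choose.eq_1.{0}
  have := @_root_.List.choose.congr_simp.{0}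
  have := @_root_.List.zipWith4.eq_def.{0,0,0,0,0}
  have := @_root_.List.zipWith4.eq_1.{0,0,0,0,0}
  have := @_root_.List.replaceIf.eq_def.{0}
  trivial

theorem r5_14 : True := by
  have := @_root_.List.replaceIf.eq_1.{0}
  have := @_root_.List.consecutivePairs.eq_1.{0}
  have := @_root_.List.extractp.eq_def.{0}
  have := @_root_.List.extractp.eq_1.{0}
  have := @_root_.List.andM.eq_1.{0}
  have := @_root_.List.foldrIdxM.eq_1.{0,0,0}
  have := @_root_.List.mapAsyncChunked.eq_1.{0,0}
  have := @_root_.List.destutter.eq_def.{0}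
  have := @_root_.List.SublistForall₂.cons.congr_simp.{0,0}
  have := @_root_.List.SublistForall₂.cons_right.congr_simp.{0,0}
  have := @_root_.Set.sigmaToiUnion.eq_1.{0,0}
  have := @_root_.Set.sUnionPowersetGI.eq_1.{0}
  have := @_root_.Set.unionEqSigmaOfDisjoint.eq_1.{0,0}
  have := @_root_.Set.unionEqSigmaOfDisjoint.congr_simp.{0,0}
  have := @_root_.Set.sigmaEquiv.eq_1.{0,0}
  have := @_root_.SetLike.instSubtype.eq_1.{0,0}
  have := @_root_.SetLike.instSubtypeSet.eq_1.{0}
  have := @_root_.LE.ofSetLike.eq_1.{0,0}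
  have := @_root_.IsConcreteLE.mk.congr_simp.{0,0}
  have := @_root_.PartialOrder.ofSetLike.eq_1.{0,0}
  have := @_root_.SetLike.mk.congr_simp.{0,0}
  have := @_root_.SetLike.coe.eq_1.{0,0}
  have := @_root_.Nat.ascFactorialBinary.eq_1
  have := @_root_.Units.mulDistribMulActionRight.eq_1.{0,0}
  have := @_root_.MulDistribMulAction.toMonoidEnd.eq_1.{0,0}
  have := @_root_.Function.Surjective.mulDistribMulAction.eq_1.{0,0,0}
  have := @_root_.Function.Surjective.mulDistribMulAction.congr_simp.{0,0,0}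
  have := @_root_.MulDistribMulAction.toMonoidHom.eq_1.{0,0}
  have := @_root_.arrowMulDistribMulAction.eq_1.{0,0,0}
  have := @_root_.Function.Injective.mulDistribMulAction.eq_1.{0,0,0}
  trivial

theorem r5_15 : True := by
  have := @_root_.Function.Injective.mulDistribMulAction.congr_simp.{0,0,0}
  have := @_root_.Multiset.Le.eq_1.{0}
  have := @_root_.Multiset.card.eq_1.{0}
  have := @_root_.Multiset.Nodup.eq_1.{0}
  have := @_root_.Multiset.sizeOf.eq_1.{0}
  have := @_root_.Multiset.Mem.eq_1.{0}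
  have := @_root_.Multiset.decidableForallMultiset.eq_1.{0}
  have := @_root_.Multiset.attach.eq_1.{0}
  have := @_root_.Multiset.eq_1.{0}
  have := @_root_.Multiset.pmap.eq_1.{0,0}
  trivial

end CL.BaseAux
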