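import Cfsg.Agent.Base.Imports

/-! On-demand lemmas of Prelude and Mathlib definitions, produced once here so that no other file holds a copy. -/

set_option linter.all false

namespace CL.BaseAux

theorem r6_0 : True := by
  have := @_root_.Multiset.Subset.eq_1.{0}
  have := @_root_.Multiset.Pairwise.eq_1.{0}
  have := @_root_.Multiset.ofList.eq_1.{0}
  have := @_root_.Multiset.decidableExistsMultiset.eq_1.{0}
  have := @_root_.Finset.val.eq_1.{0}
  have := @_root_.Multiset.zero.eq_1.{0}
  have := @_root_.Multiset.Rel.cons.congr_simp.{0,0}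
  have := @_root_.Multiset.cons.eq_1.{0}
  have := @_root_.Multiset.rec.eq_1.{0,0}
  have := @_root_.Multiset.rec.congr_simp.{0,0}
  have := @_root_.Multiset.countP.eq_1.{0}
  have := @_root_.Multiset.erase.eq_1.{0}
  have := @_root_.Multiset.sub.eq_1.{0}
  have := @_root_.Multiset.add.eq_1.{0}
  have := @_root_.Multiset.map.eq_1.{0,0}
  have := @_root_.Multiset.foldr.eq_1.{0,0}
  have := @_root_.Multiset.foldl.eq_1.{0,0}
  have := @_root_.Finset.attach.eq_1.{0}
  have := @_root_.Multiset.mapEmbedding.eq_1.{0,0}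
  have := @_root_.Multiset.filterMap.eq_1.{0,0}
  have := @_root_.Multiset.filter.eq_1.{0}
  have := @_root_.Multiset.inter.eq_1.{0}
  have := @_root_.Multiset.dedup.eq_1.{0}
  have := @_root_.Multiset.toList.eq_1.{0}
  have := @_root_.Multiset.strongDownwardInduction.congr_simp.{0,0}
  have := @_root_.Multiset.strongDownwardInductionOn.eq_1.{0,0}
  have := @_root_.Multiset.strongDownwardInductionOn.congr_simp.{0,0}
  have := @_root_.Multiset.choose.eq_1.{0}
  have := @_root_.Multiset.chooseX.eq_1.{0}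
  have := @_root_.Multiset.chooseX.congr_simp.{0}
  trivial

theorem r6_1 : True := by
  have := @_root_.Multiset.subsingletonEquiv.eq_1.{0}
  have := @_root_.Multiset.subsingletonEquiv.congr_simp.{0}
  have := @_root_.List.toFinset.eq_1.{0}
  have := @_root_.Finset.empty.eq_1.{0}
  have := @_root_.List.recNeNil.eq_def.{0,0}
  have := @_root_.List.recNeNil.eq_1.{0,0}
  have := @_root_.List.bidirectionalRecOn.eq_1.{0,0}
  have := @_root_.List.recOnNeNil.eq_1.{0,0}
  have := @_root_.List.reverseRecOn.eq_1.{0,0}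
  have := @_root_.Multiset.ndinsert.eq_1.{0}
  have := @_root_.Multiset.ndunion.eq_1.{0}
  have := @_root_.Finset.insertPiProdEquiv.eq_1.{0,0}
  have := @_root_.Finset.insertPiProdEquiv.congr_simp.{0,0}
  have := @_root_.Finset.consPiProdEquiv.eq_1.{0,0}
  have := @_root_.Finset.subtypeInsertEquivOption.eq_1.{0}
  have := @_root_.Finset.subtypeInsertEquivOption.congr_simp.{0}
  have := @_root_.Finset.cons.eq_1.{0}
  have := @_root_.Finset.disjUnion.eq_1.{0}
  have := @_root_.Finset.filter.eq_1.{0}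
  have := @_root_.notMemRangeEquiv.eq_1
  have := @_root_.Finset.equivToSet.eq_1.{0}
  have := @_root_.Finset.choose.eq_1.{0}
  have := @_root_.Equiv.Finset.disjUnionEquiv.eq_1.{0}
  have := @_root_.Equiv.Finset.union.eq_1.{0}
  have := @_root_.Finset.chooseX.eq_1.{0}
  have := @_root_.Finset.chooseX.congr_simp.{0}
  have := @_root_.Infinite.mk.congr_simp.{0}
  have := @_root_.Finset.univ.eq_1.{0}
  have := @_root_.Fintype.mk.congr_simp.{0}
  have := @_root_.Fintype.elems.eq_1.{0}
  trivial

theorem r6_2 : True := by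
  have := @_root_.Fintype.ofFinset.eq_1.{0}
  have := @_root_.Fintype.ofFinset.congr_simp.{0}
  have := @_root_.Fintype.subtype.eq_1.{0}
  have := @_root_.Fintype.subtype.congr_simp.{0}
  have := @_root_.Finset.mapEmbedding.eq_1.{0,0}
  have := @_root_.Equiv.finsetSubtypeComm.eq_1.{0}
  have := @_root_.Finset.filterMap.eq_1.{0,0}
  have := @_root_.Equiv.finsetCongr.eq_1.{0,0}
  have := @_root_.Finset.equivMap.eq_1.{0,0}
  have := @_root_.Finset.strongDownwardInduction.congr_simp.{0,0}
  have := @_root_.Finset.strongDownwardInductionOn.eq_1.{0,0}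
  have := @_root_.Finset.strongDownwardInductionOn.congr_simp.{0,0}
  have := @_root_.Finset.strongInductionOn.eq_1.{0,0}
  have := @_root_.Fintype.ofSubsingleton.eq_1.{0}
  have := @_root_.Fintype.ofSubsingleton.congr_simp.{0}
  have := @_root_.Fintype.ofInjective.eq_1.{0,0}
  have := @_root_.Fintype.ofInjective.congr_simp.{0,0}
  have := @_root_.Fintype.ofEquiv.eq_1.{0,0}
  have := @_root_.Fintype.ofBijective.eq_1.{0,0}
  have := @_root_.Fintype.ofList.eq_1.{0}
  have := @_root_.Fintype.ofList.congr_simp.{0}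
  have := @_root_.Fintype.ofSurjective.eq_1.{0,0}
  have := @_root_.Fintype.ofSurjective.congr_simp.{0,0}
  have := @_root_.Fintype.ofMultiset.eq_1.{0}
  have := @_root_.Fintype.ofMultiset.congr_simp.{0}
  have := @_root_.Fintype.ofIsEmpty.eq_1.{0}
  have := @_root_.Fintype.ofIsEmpty.congr_simp.{0}
  have := @_root_.Set.decidableMemOfFintype.eq_1.{0}
  have := @_root_.setFintype.eq_1.{0}
  have := @_root_.precheckFinsetStx.eq_1
  trivial

theorem r6_3 : True := by
  have := @_root_.finsetStx.eq_1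
  have := @_root_.Fintype.finsetOrderIsoSet.eq_1.{0}
  have := @_root_.finZeroElim.eq_1.{0}
  have := @_root_.Fin.rec0.eq_1.{0}
  have := @_root_.Fin.equivSubtype.eq_1
  have := @_root_.finCongr.eq_1
  have := @_root_.Fin.revPerm.eq_1
  have := @_root_.Fin.succEmb.eq_1
  have := @_root_.Fin.castLEEmb.eq_1
  have := @_root_.Fin.addNatEmb.eq_1
  have := @_root_.Fin.castSuccEmb.eq_1
  have := @_root_.Fin.castAddEmb.eq_1
  have := @_root_.Fin.natAddEmb.eq_1
  have := @_root_.Fin.succAboveEmb.eq_1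
  have := @_root_.Fin.valEmbedding.eq_1
  have := @_root_.Fin.find.eq_1
  have := @_root_.Fin.snocEquiv.eq_1.{0}
  have := @_root_.Fin.consEquiv.eq_1.{0}
  have := @_root_.piFinTwoEquiv.eq_1.{0}
  have := @_root_.Fin.consInduction.eq_def.{0,0}
  have := @_root_.Fin.consInduction.eq_1.{0,0}
  have := @_root_.Fin.snocInduction.eq_def.{0,0}
  have := @_root_.Fin.snocInduction.eq_1.{0,0}
  have := @_root_.List.equivSigmaTuple.eq_1.{0}
  have := @_root_.List.ofFnRec.eq_1.{0,0}
  have := @_root_.Fintype.prodLeft.eq_1.{0,0}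
  have := @_root_.Fintype.prodLeft.congr_simp.{0,0}
  have := @_root_.truncOfMultisetExistsMem.eq_1.{0}
  have := @_root_.truncOfMultisetExistsMem.congr_simp.{0}
  have := @_root_.truncSigmaOfExists.eq_1.{0}
  trivial

theorem r6_4 : True := by
  have := @_root_.truncSigmaOfExists.congr_simp.{0}
  have := @_root_.Fintype.prodRight.eq_1.{0,0}
  have := @_root_.Fintype.prodRight.congr_simp.{0,0}
  have := @_root_.truncOfNonemptyFintype.eq_1.{0}
  have := @_root_.truncOfNonemptyFintype.congr_simp.{0}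
  have := @_root_.Fintype.cardEqZeroEquivEquivEmpty.eq_1.{0}
  have := @_root_.truncOfCardPos.eq_1.{0}
  have := @_root_.truncOfCardPos.congr_simp.{0}
  have := @_root_.Fintype.sumLeft.eq_1.{0,0}
  have := @_root_.Fintype.sumRight.eq_1.{0,0}
  have := @_root_.List.Duplicate.cons_duplicate.congr_simp.{0}
  have := @_root_.List.Duplicate.cons_mem.congr_simp.{0}
  have := @_root_.List.insertionSort.eq_1.{0}
  have := @_root_.List.orderedInsert.eq_def.{0}
  have := @_root_.List.orderedInsert.eq_1.{0}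
  have := @_root_.List.SortedLT.eq_1.{0}
  have := @_root_.List.SortedGE.eq_1.{0}
  have := @_root_.List.SortedGT.eq_1.{0}
  have := @_root_.List.SortedLE.eq_1.{0}
  have := @_root_.List.getEquivOfForallCountEqOne.eq_1.{0}
  have := @_root_.List.getEquivOfForallCountEqOne.congr_simp.{0}
  have := @_root_.List.Nodup.getEquiv.eq_1.{0}
  have := @_root_.List.Nodup.getEquiv.congr_simp.{0}
  have := @_root_.List.SortedLT.getIso.eq_1.{0}
  have := @_root_.List.SortedLT.getIso.congr_simp.{0}
  have := @_root_.List.Nodup.getBijectionOfForallMemList.eq_1.{0}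
  have := @_root_.List.Nodup.getBijectionOfForallMemList.congr_simp.{0}
  have := @_root_.List.Nodup.getEquivOfForallMemList.eq_1.{0}
  have := @_root_.List.Nodup.getEquivOfForallMemList.congr_simp.{0}
  have := @_root_.Fintype.equivOfCardEq.eq_1.{0,0}
  trivial

theorem r6_5 : True := by
  have := @_root_.fintypeOfFinsetCardLe.eq_1.{0}
  have := @_root_.fintypeOfFinsetCardLe.congr_simp.{0}
  have := @_root_.Function.Embedding.truncOfCardLE.eq_1.{0,0}
  have := @_root_.Function.Embedding.truncOfCardLE.congr_simp.{0,0}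
  have := @_root_.Finset.equivFinOfCardEq.eq_1.{0}
  have := @_root_.Fintype.ofFinite.eq_1.{0}
  have := @_root_.Fintype.truncEquivFinOfCardEq.eq_1.{0}
  have := @_root_.Fintype.truncEquivFinOfCardEq.congr_simp.{0}
  have := @_root_.Equiv.ofLeftInverseOfCardLE.eq_1.{0,0}
  have := @_root_.Equiv.ofLeftInverseOfCardLE.congr_simp.{0,0}
  have := @_root_.Equiv.embeddingEquivOfFinite.eq_1.{0}
  have := @_root_.Fintype.equivFin.eq_1.{0}
  have := @_root_.Finset.equivFin.eq_1.{0}
  have := @_root_.Fintype.truncEquivFin.eq_1.{0}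
  have := @_root_.fintypeOrInfinite.eq_1.{0}
  have := @_root_.Fintype.truncEquivOfCardEq.eq_1.{0,0}
  have := @_root_.Fintype.truncEquivOfCardEq.congr_simp.{0,0}
  have := @_root_.fintypeOfNotInfinite.eq_1.{0}
  have := @_root_.fintypeOfNotInfinite.congr_simp.{0}
  have := @_root_.Infinite.natEmbedding.eq_1.{0}
  have := @_root_.Finset.equivOfCardEq.eq_1.{0,0}
  have := @_root_.Finset.equivOfCardEq.congr_simp.{0,0}
  have := @_root_.Fintype.equivFinOfCardEq.eq_1.{0}
  have := @_root_.Equiv.ofRightInverseOfCardLE.eq_1.{0,0}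
  have := @_root_.Equiv.ofRightInverseOfCardLE.congr_simp.{0,0}
  have := @_root_.Fintype.truncFinBijection.eq_1.{0}
  have := @_root_.Function.Embedding.equivOfFiniteSelfEmbedding.congr_simp.{0}
  have := @_root_.OrderIso.finsetSetFinite.eq_1.{0}
  have := @_root_.Set.Nat.fintypeIio.eq_1
  have := @_root_.Set.fintypeInsertOfNotMem.eq_1.{0}
  trivial

theorem r6_6 : True := by
  have := @_root_.Set.fintypeInsertOfNotMem.congr_simp.{0}
  have := @_root_.Set.Infinite.natEmbedding.eq_1.{0}
  have := @_root_.Set.fintypeInsertOfMem.eq_1.{0}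
  have := @_root_.Set.fintypeInsertOfMem.congr_simp.{0}
  have := @_root_.Set.Finite.subtypeEquivToFinset.eq_1.{0}
  have := @_root_.Set.fintypeOfFintypeImage.eq_1.{0,0}
  have := @_root_.Set.fintypeOfFintypeImage.congr_simp.{0,0}
  have := @_root_.Set.Finite.fintype.eq_1.{0}
  have := @_root_.Set.Finite.fintype.congr_simp.{0}
  have := @_root_.Set.fintypeSubset.eq_1.{0}
  have := @_root_.Set.fintypeSubset.congr_simp.{0}
  have := @_root_.Set.fintypeOfFiniteUniv.eq_1.{0}
  have := @_root_.Set.fintypeOfFiniteUniv.congr_simp.{0}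
  have := @_root_.Multiset.fold.eq_1.{0}
  have := @_root_.List.chains.eq_1.{0}
  have := @_root_.List.lex_chains.eq_1.{0}
  have := @_root_.List.IsRotated.setoid.eq_1.{0}
  have := @_root_.List.cyclicPermutations.eq_def.{0}
  have := @_root_.List.cyclicPermutations.eq_1.{0}
  have := @_root_.Multiset.sumAddMonoidHom.eq_1.{0}
  have := @_root_.Finset.disjiUnion.eq_1.{0,0}
  have := @_root_.Finset.biUnion.eq_1.{0,0}
  have := @_root_.Nat.fast_choose.eq_1
  have := @_root_.Finset.offDiag.eq_1.{0}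
  have := @_root_.Finset.product.eq_1.{0,0}
  have := @_root_.Equiv.Finset.prod.eq_1.{0,0}
  have := @_root_.Multiset.pi.eq_1.{0,0}
  have := @_root_.Multiset.Pi.cons.eq_1.{0,0}
  have := @_root_.Finset.Pi.empty.eq_1.{0,0}
  have := @_root_.Finset.pi.eq_1.{0,0}
  trivial

theorem r6_7 : True := by
  have := @_root_.Finset.Pi.cons.eq_1.{0,0}
  have := @_root_.LibraryNote.pointwise_nat_action.eq_1
  have := @_root_.MulAction.IsPretransitive.mk.congr_simp.{0,0}
  have := @_root_.AddAction.IsPretransitive.mk.congr_simp.{0,0}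
  have := @_root_.MonoidHom.smulOneHom.congr_simp.{0,0}
  have := @_root_.Function.Surjective.addActionLeft.congr_simp.{0,0,0}
  have := @_root_.AddMonoidHom.vaddZeroHom.congr_simp.{0,0}
  have := @_root_.Function.Surjective.mulActionLeft.congr_simp.{0,0,0}
  have := @_root_.mulAutArrow.eq_1.{0,0,0}
  have := @_root_.AddAction.toPermHom.eq_1.{0,0}
  have := @_root_.MulAction.toPermHom.eq_1.{0,0}
  have := @_root_.MulDistribMulAction.toMulAut.eq_1.{0,0}
  have := @_root_.MulAction.ofEndHom.eq_1.{0,0}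
  have := @_root_.AddAction.toEndHom.eq_1.{0,0}
  have := @_root_.AddAction.ofEndHom.eq_1.{0,0}
  have := @_root_.MulDistribMulAction.toMulEquiv.eq_1.{0,0}
  have := @_root_.Subsemigroup.carrier.eq_1.{0}
  have := @_root_.AddSubsemigroup.copy.congr_simp.{0}
  have := @_root_.Subsemigroup.copy.congr_simp.{0}
  have := @_root_.MulMemClass.mk.congr_simp.{0,0}
  have := @_root_.AddSubsemigroup.ofClass.congr_simp.{0,0}
  have := @_root_.Subsemigroup.ofClass.congr_simp.{0,0}
  have := @_root_.AddMemClass.mk.congr_simp.{0,0}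
  have := @_root_.AddSubsemigroup.carrier.eq_1.{0}
  have := @_root_.AddSubmonoid.ofClass.congr_simp.{0,0}
  have := @_root_.AddSubmonoid.toAddSubsemigroup.eq_1.{0}
  have := @_root_.Submonoid.ofClass.congr_simp.{0,0}
  have := @_root_.ZeroMemClass.mk.congr_simp.{0,0}
  have := @_root_.AddSubmonoid.copy.congr_simp.{0}
  have := @_root_.SubmonoidClass.mk.congr_simp.{0,0}
  trivial

theorem r6_8 : True := by
  have := @_root_.AddSubmonoidClass.mk.congr_simp.{0,0}
  have := @_root_.Submonoid.toSubsemigroup.eq_1.{0}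
  have := @_root_.OneMemClass.mk.congr_simp.{0,0}
  have := @_root_.AddHom.ofDense.congr_simp.{0,0}
  have := @_root_.MulHom.ofDense.congr_simp.{0,0}
  have := @_root_.MonoidHom.ofClosureMEqTopLeft.congr_simp.{0,0}
  have := @_root_.AddMonoidHom.ofClosureMEqTopLeft.congr_simp.{0,0}
  have := @_root_.AddMonoidHom.ofClosureMEqTopRight.congr_simp.{0,0}
  have := @_root_.MonoidHom.ofClosureMEqTopRight.congr_simp.{0,0}
  have := @_root_.AddSubmonoid.gciMapComap.congr_simp.{0,0,0}
  have := @_root_.AddMonoidHom.restrict.congr_simp.{0,0}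
  have := @_root_.AddSubmonoid.toSubmonoid.eq_1.{0}
  have := @_root_.AddSubmonoid.toSubmonoid'.eq_1.{0}
  have := @_root_.MonoidHom.restrict.congr_simp.{0,0}
  have := @_root_.Submonoid.equivMapOfInjective.congr_simp.{0,0}
  have := @_root_.AddMonoidHom.restrictHom.eq_1.{0,0,0}
  have := @_root_.Submonoid.giMapComap.congr_simp.{0,0,0}
  have := @_root_.AddEquiv.ofLeftInverse'.congr_simp.{0,0}
  have := @_root_.Submonoid.toAddSubmonoid'.eq_1.{0}
  have := @_root_.LibraryNote.range_copy_pattern.eq_1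
  have := @_root_.MonoidHom.restrictHom.eq_1.{0,0,0}
  have := @_root_.Submonoid.toAddSubmonoid.eq_1.{0}
  have := @_root_.Submonoid.gciMapComap.congr_simp.{0,0,0}
  have := @_root_.MulEquiv.ofLeftInverse'.congr_simp.{0,0}
  have := @_root_.AddSubmonoid.giMapComap.congr_simp.{0,0,0}
  have := @_root_.AddSubmonoid.equivMapOfInjective.congr_simp.{0,0}
  have := @_root_.AddSubgroupClass.inclusion.congr_simp.{0,0}
  have := @_root_.Subgroup.ofDiv.congr_simp.{0}
  have := @_root_.SubgroupClass.mk.congr_simp.{0,0}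
  have := @_root_.Subgroup.setNormalizer.eq_1.{0}
  trivial

theorem r6_9 : True := by
  have := @_root_.Subgroup.ofClass.congr_simp.{0,0}
  have := @_root_.AddSubgroup.copy.congr_simp.{0}
  have := @_root_.AddSubgroup.toAddSubmonoid.eq_1.{0}
  have := @_root_.HasMemOrNegMem.mk.congr_simp.{0,0}
  have := @_root_.AddSubgroup.Normal.mk.congr_simp.{0}
  have := @_root_.AddSubgroupClass.mk.congr_simp.{0,0}
  have := @_root_.AddSubgroup.ofSub.congr_simp.{0}
  have := @_root_.AddSubgroup.inclusion.congr_simp.{0}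
  have := @_root_.SubgroupClass.inclusion.congr_simp.{0,0}
  have := @_root_.Subgroup.copy.congr_simp.{0}
  have := @_root_.AddSubgroup.ofClass.congr_simp.{0,0}
  have := @_root_.NegMemClass.mk.congr_simp.{0,0}
  have := @_root_.AddSubgroup.setNormalizer.eq_1.{0}
  have := @_root_.Subgroup.toSubmonoid.eq_1.{0}
  have := @_root_.Subgroup.Normal.mk.congr_simp.{0}
  have := @_root_.HasMemOrInvMem.mk.congr_simp.{0,0}
  have := @_root_.InvMemClass.mk.congr_simp.{0,0}
  have := @_root_.Subgroup.toAddSubgroup'.eq_1.{0}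
  have := @_root_.AddSubgroup.toSubgroup'.eq_1.{0}
  have := @_root_.Subgroup.toAddSubgroup.eq_1.{0}
  have := @_root_.AddSubgroup.toSubgroup.eq_1.{0}
  have := @_root_.Subgroup.equivMapOfInjective.congr_simp.{0,0}
  have := @_root_.AddSubgroup.equivMapOfInjective.congr_simp.{0,0}
  have := @_root_.MonoidHom.ofLeftInverse.congr_simp.{0,0}
  have := @_root_.AddMonoidHom.ofLeftInverse.congr_simp.{0,0}
  have := @_root_.AddMonoidHom.ofInjective.congr_simp.{0,0}
  have := @_root_.AddSubgroup.inertia.eq_1.{0,0}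
  have := @_root_.AddSubgroup.Characteristic.mk.congr_simp.{0}
  have := @_root_.AddAut.characteristic.congr_simp.{0}
  have := @_root_.NormalizerCondition.eq_1.{0}
  trivial

theorem r6_10 : True := by
  have := @_root_.AddMonoidHom.liftOfRightInverse.congr_simp.{0,0,0}
  have := @_root_.MonoidHom.liftOfSurjective.congr_simp.{0,0,0}
  have := @_root_.MulAut.characteristic.congr_simp.{0}
  have := @_root_.AddMonoidHom.liftOfSurjective.congr_simp.{0,0,0}
  have := @_root_.Subgroup.Characteristic.mk.congr_simp.{0}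
  have := @_root_.Nat.size.eq_1
  have := @_root_.Nat.pairEquiv.eq_1
  have := @_root_.Equiv.intEquivNat.eq_1
  have := @_root_.Equiv.boolProdNatEquivNat.eq_1
  have := @_root_.Equiv.prodEquivOfEquivNat.eq_1.{0}
  have := @_root_.Equiv.natSumNatEquivNat.eq_1
  have := @_root_.Submonoid.powLogEquiv.eq_1.{0}
  have := @_root_.Submonoid.powLogEquiv.congr_simp.{0}
  have := @_root_.Submonoid.log.eq_1.{0}
  have := @_root_.Submonoid.log.congr_simp.{0}
  have := @_root_.Submonoid.groupPowers.congr_simp.{0}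
  have := @_root_.Submonoid.powers.eq_1.{0}
  have := @_root_.AddSubmonoid.addGroupMultiples.congr_simp.{0}
  have := @_root_.AddSubmonoid.multiples.eq_1.{0}
  have := @_root_.Sigma.Lex.right.congr_simp.{0,0}
  have := @_root_.Sigma.Lex.left.congr_simp.{0,0}
  have := @_root_.Function.Embedding.sumSet.eq_1.{0}
  have := @_root_.Set.embeddingOfSubset.eq_1.{0}
  have := @_root_.Function.Embedding.image.eq_1.{0,0}
  have := @_root_.Function.Embedding.sigmaSet.eq_1.{0,0}
  have := @_root_.Function.Embedding.optionElim.eq_1.{0,0}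
  have := @_root_.Function.Embedding.optionEmbeddingEquiv.eq_1.{0,0}
  have := @_root_.Function.Embedding.codRestrict.eq_1.{0,0}
  have := @_root_.subtypeOrEquiv.eq_1.{0}
  have := @_root_.Subrel.eq_1.{0}
  trivial

theorem r6_11 : True := by
  have := @_root_.Subrel.inclusionEmbedding.eq_1.{0}
  have := @_root_.Subrel.inclusionEmbedding.congr_simp.{0}
  have := @_root_.Subrel.relEmbedding.eq_1.{0}
  have := @_root_.RelIso.subrelUnivIso.eq_1.{0}
  have := @_root_.RelIso.subrelUnivIso.congr_simp.{0}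
  have := @_root_.RelEmbedding.codRestrict.eq_1.{0,0}
  have := @_root_.List.minimum_of_length_pos.congr_simp.{0}
  have := @_root_.List.argmin.congr_simp.{0,0}
  have := @_root_.Finset.sumEquiv.eq_1.{0,0}
  have := @_root_.TopHom.mk.congr_simp.{0,0}
  have := @_root_.TopHomClass.mk.congr_simp.{0,0,0}
  have := @_root_.BoundedOrderHomClass.mk.congr_simp.{0,0,0}
  have := @_root_.BoundedOrderHomClass.toBoundedOrderHom.eq_1.{0,0,0}
  have := @_root_.BoundedOrderHomClass.toBoundedOrderHom.congr_simp.{0,0,0}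
  have := @_root_.BoundedOrderHom.comp.eq_1.{0,0,0}
  have := @_root_.TopHom.toFun.eq_1.{0,0}
  have := @_root_.BotHom.toFun.eq_1.{0,0}
  have := @_root_.BoundedOrderHom.mk.congr_simp.{0,0}
  have := @_root_.BoundedOrderHom.id.eq_1.{0}
  have := @_root_.BotHom.mk.congr_simp.{0,0}
  have := @_root_.BoundedOrderHom.copy.eq_1.{0,0}
  have := @_root_.BoundedOrderHom.copy.congr_simp.{0,0}
  have := @_root_.BotHom.copy.congr_simp.{0,0}
  have := @_root_.TopHom.copy.congr_simp.{0,0}
  have := @_root_.BotHomClass.toBotHom.congr_simp.{0,0,0}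
  have := @_root_.TopHomClass.toTopHom.congr_simp.{0,0,0}
  have := @_root_.BoundedOrderHom.toOrderHom.eq_1.{0,0}
  have := @_root_.BoundedOrderHom.dual.eq_1.{0,0}
  have := @_root_.BotHomClass.mk.congr_simp.{0,0,0}
  have := @_root_.Pi.evalLatticeHom.eq_1.{0,0}
  trivial

theorem r6_12 : True := by
  have := @_root_.SupHom.copy.congr_simp.{0,0}
  have := @_root_.LatticeHom.toSupHom.eq_1.{0,0}
  have := @_root_.LatticeHomClass.mk.congr_simp.{0,0,0}
  have := @_root_.InfHom.toFun.eq_1.{0,0}
  have := @_root_.LatticeHom.toInfHom.eq_1.{0,0}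
  have := @_root_.orderEmbeddingOfInjective.eq_1.{0,0,0}
  have := @_root_.orderEmbeddingOfInjective.congr_simp.{0,0,0}
  have := @_root_.LatticeHom.copy.eq_1.{0,0}
  have := @_root_.LatticeHom.copy.congr_simp.{0,0}
  have := @_root_.OrderHomClass.toLatticeHom.eq_1.{0,0,0}
  have := @_root_.LatticeHom.comp.eq_1.{0,0,0}
  have := @_root_.InfHomClass.mk.congr_simp.{0,0,0}
  have := @_root_.LatticeHom.fst.eq_1.{0,0}
  have := @_root_.LatticeHom.id.eq_1.{0}
  have := @_root_.LatticeHom.subtypeVal.eq_1.{0}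
  have := @_root_.LatticeHom.dual.eq_1.{0,0}
  have := @_root_.SupHomClass.mk.congr_simp.{0,0,0}
  have := @_root_.InfHom.copy.congr_simp.{0,0}
  have := @_root_.SupHom.toFun.eq_1.{0,0}
  have := @_root_.LatticeHom.snd.eq_1.{0,0}
  have := @_root_.InfTopHom.toTopHom.eq_1.{0,0}
  have := @_root_.BoundedLatticeHomClass.mk.congr_simp.{0,0,0}
  have := @_root_.BoundedLatticeHom.toInfTopHom.eq_1.{0,0}
  have := @_root_.SupBotHom.toSupHom.eq_1.{0,0}
  have := @_root_.SupBotHom.toBotHom.eq_1.{0,0}
  have := @_root_.InfTopHomClass.mk.congr_simp.{0,0,0}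
  have := @_root_.SupBotHom.copy.congr_simp.{0,0}
  have := @_root_.BoundedLatticeHom.subtypeVal.eq_1.{0}
  have := @_root_.BoundedLatticeHom.toSupBotHom.eq_1.{0,0}
  have := @_root_.BoundedLatticeHom.toLatticeHom.eq_1.{0,0}
  trivial

theorem r6_13 : True := by
  have := @_root_.InfTopHom.toInfHom.eq_1.{0,0}
  have := @_root_.BoundedLatticeHom.comp.eq_1.{0,0,0}
  have := @_root_.BoundedLatticeHom.copy.eq_1.{0,0}
  have := @_root_.BoundedLatticeHom.copy.congr_simp.{0,0}
  have := @_root_.BoundedLatticeHom.toBoundedOrderHom.eq_1.{0,0}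
  have := @_root_.BoundedLatticeHom.id.eq_1.{0}
  have := @_root_.BoundedLatticeHom.dual.eq_1.{0,0}
  have := @_root_.SupBotHomClass.mk.congr_simp.{0,0,0}
  have := @_root_.InfTopHom.copy.congr_simp.{0,0}
  have := @_root_.Multiset.powerset.eq_1.{0}
  have := @_root_.Multiset.powersetCard.eq_1.{0}
  have := @_root_.Set.biUnionEqSigmaOfDisjoint.congr_simp.{0,0}
  have := @_root_.Finset.decidableExistsOfDecidableSSubsets'.eq_1.{0}
  have := @_root_.Finset.decidableForallOfDecidableSSubsets'.eq_1.{0}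
  have := @_root_.Finset.decidableExistsOfDecidableSSubsets.eq_1.{0}
  have := @_root_.Finset.decidableForallOfDecidableSSubsets.eq_1.{0}
  have := @_root_.Option.toFinset.eq_1.{0}
  have := @_root_.fintypeOfOption.eq_1.{0}
  have := @_root_.Fintype.truncRecEmptyOption.eq_1.{0,0}
  have := @_root_.fintypeOfOptionEquiv.eq_1.{0,0}
  have := @_root_.Set.fintypeBiUnion.eq_1.{0,0}
  have := @_root_.LatticeHom.withBot'.eq_1.{0,0}
  have := @_root_.LatticeHom.withBot.eq_1.{0,0}
  have := @_root_.LatticeHom.withTop.eq_1.{0,0}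
  have := @_root_.LatticeHom.withTop'.eq_1.{0,0}
  have := @_root_.Set.sigma.eq_1.{0,0}
  have := @_root_.Finset.sigma.eq_1.{0,0}
  have := @_root_.Finset.preimage.eq_1.{0,0}
  have := @_root_.Equiv.restrictPreimageFinset.eq_1.{0,0}
  have := @_root_.LocallyFiniteOrder.finsetIoo.eq_1.{0}
  trivial

theorem r6_14 : True := by
  have := @_root_.LocallyFiniteOrderTop.ofIci.congr_simp.{0}
  have := @_root_.IsEmpty.toLocallyFiniteOrder.eq_1.{0}
  have := @_root_.IsEmpty.toLocallyFiniteOrder.congr_simp.{0}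
  have := @_root_.LocallyFiniteOrder.ofIcc'.eq_1.{0}
  have := @_root_.LocallyFiniteOrder.ofIcc'.congr_simp.{0}
  have := @_root_.LocallyFiniteOrderTop.finsetIoi.eq_1.{0}
  have := @_root_.Finset.Icc.eq_1.{0}
  have := @_root_.LocallyFiniteOrder.finsetIcc.eq_1.{0}
  have := @_root_.LocallyFiniteOrderBot.finsetIio.eq_1.{0}
  have := @_root_.LocallyFiniteOrderBot.ofIic'.congr_simp.{0}
  have := @_root_.LocallyFiniteOrder.finsetIco.eq_1.{0}
  have := @_root_.OrderEmbedding.locallyFiniteOrder.eq_1.{0,0}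
  have := @_root_.LocallyFiniteOrderTop.ofIci'.congr_simp.{0}
  have := @_root_.LocallyFiniteOrderBot.finsetIic.eq_1.{0}
  have := @_root_.LocallyFiniteOrder.ofOrderIsoClass.eq_1.{0,0,0}
  have := @_root_.LocallyFiniteOrder.ofOrderIsoClass.congr_simp.{0,0,0}
  have := @_root_.LocallyFiniteOrder.mk'.eq_1.{0}
  have := @_root_.LocallyFiniteOrder.mk'.congr_simp.{0}
  have := @_root_.LocallyFiniteOrderTop.finsetIci.eq_1.{0}
  have := @_root_.IsEmpty.toLocallyFiniteOrderTop.congr_simp.{0}
  have := @_root_.IsEmpty.toLocallyFiniteOrderBot.congr_simp.{0}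
  have := @_root_.LocallyFiniteOrder.ofIcc.eq_1.{0}
  have := @_root_.LocallyFiniteOrder.ofIcc.congr_simp.{0}
  have := @_root_.LocallyFiniteOrderBot.ofIic.congr_simp.{0}
  have := @_root_.LocallyFiniteOrder.finsetIoc.eq_1.{0}
  have := @_root_.LocallyFiniteOrder.ofFiniteIcc.eq_1.{0}
  have := @_root_.LocallyFiniteOrder.ofFiniteIcc.congr_simp.{0}
  have := @_root_.OrderIso.locallyFiniteOrder.eq_1.{0,0}
  have := @_root_.Finset.Ioo.eq_1.{0}
  have := @_root_.LocallyFiniteOrderBot.mk.congr_simp.{0}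
  trivial

theorem r6_15 : True := by
  have := @_root_.Finset.Ioc.eq_1.{0}
  have := @_root_.Fintype.toLocallyFiniteOrder.eq_1.{0}
  have := @_root_.OrderIso.setOfMaximalIsoSetOfMinimal.eq_1.{0,0}
  have := @_root_.OrderIso.mapSetOfPredMinimal.eq_1.{0,0}
  have := @_root_.OrderIso.mapSetOfPredMaximal.eq_1.{0,0}
  have := @_root_.OrderIso.mapSetOfMaximal.eq_1.{0,0}
  have := @_root_.OrderIso.setOfMinimalIsoSetOfMaximal.eq_1.{0,0}
  have := @_root_.OrderIso.mapSetOfMinimal.eq_1.{0,0}
  have := @_root_.Equiv.IicFinsetSet.eq_1.{0}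
  have := @_root_.Set.fintypeOfMemBounds.eq_1.{0}
  have := @_root_.Set.fintypeOfMemBounds.congr_simp.{0}
  trivial

end CL.BaseAux
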