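import Cfsg.Agent.Base.Imports

/-! On-demand lemmas of Prelude and Mathlib definitions, produced once here so that no other file holds a copy. -/

set_option linter.all false

namespace CL.BaseAux

theorem r7_0 : True := by
  have := @_root_.Submonoid.pointwiseMulAction.eq_1.{0,0}
  have := @_root_.FixedPoints.subgroup.eq_1.{0,0}
  have := @_root_.FixedPoints.submonoid.eq_1.{0,0}
  have := @_root_.IsAddCentral.mk.congr_simp.{0}
  have := @_root_.IsMulCentral.mk.congr_simp.{0}
  have := @_root_.AddGroup.addCommGroupOfCenterEqTop.congr_simp.{0}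
  have := @_root_.Group.commGroupOfCenterEqTop.congr_simp.{0}
  have := @_root_.Subsemigroup.closureCommSemigroupOfComm.congr_simp.{0}
  have := @_root_.AddSubsemigroup.closureAddCommSemigroupOfComm.congr_simp.{0}
  have := @_root_.Submonoid.closureCommMonoidOfComm.congr_simp.{0}
  have := @_root_.AddSubmonoid.closureAddCommMonoidOfComm.congr_simp.{0}
  have := @_root_.AddSubgroup.closureAddCommGroupOfComm.congr_simp.{0}
  have := @_root_.Subgroup.closureCommGroupOfComm.congr_simp.{0}
  have := @_root_.Subgroup.normalizerMonoidHom.eq_1.{0}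
  have := @_root_.ConjAct.ofConjAct.eq_1.{0}
  have := @_root_.ConjAct.toConjAct.eq_1.{0}
  have := @_root_.ConjAct.eq_1.{0}
  have := @_root_.unitsCentralizerEquiv.eq_1.{0}
  have := @_root_.MulAut.conjNormal.eq_1.{0}
  have := @_root_.ConjAct.rec.eq_1.{0,0}
  have := @_root_.Subgroup.pointwiseMulAction.eq_1.{0,0}
  have := @_root_.Subgroup.equivSMul.eq_1.{0,0}
  have := @_root_.BigOperators.processBigOpBinders.eq_1
  have := @_root_.BigOperators.BigOpWith.eq_1
  have := @_root_.BigOperators.bigOpBindersPattern.eq_1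
  have := @_root_.LibraryNote.operator_precedence_of_big_operators.eq_1
  have := @_root_.BigOperators.bigOpBinderCollection.eq_1
  have := @_root_.BigOperators.bigOpBinderParenthesized.eq_1
  have := @_root_.BigOperators.bigOpBinders.eq_1
  have := @_root_.BigOperators.bigprod.eq_1
  trivial

theorem r7_1 : True := by
  have := @_root_.BigOperators.bigOpBindersProd.eq_1
  have := @_root_.BigOperators.processBigOpBinder.eq_1
  have := @_root_.BigOperators.bigsum.eq_1
  have := @_root_.BigOperators.bigOpBinder.eq_1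
  have := @_root_.Multiset.noncommSum.congr_simp.{0}
  have := @_root_.Finset.noncommSum.congr_simp.{0,0}
  have := @_root_.FreeGroup.mulEquivIntOfUnique.eq_1.{0}
  have := @_root_.FreeGroup.sum.eq_1.{0}
  have := @_root_.FreeAddGroup.addEquivIntOfUnique.eq_1.{0}
  have := @_root_.Setoid.correspondence.eq_1.{0}
  have := @_root_.Setoid.quotientKerEquivOfRightInverse.eq_1.{0,0}
  have := @_root_.Setoid.quotientKerEquivOfRightInverse.congr_simp.{0,0}
  have := @_root_.Setoid.quotientKerEquivRange.eq_1.{0,0}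
  have := @_root_.Setoid.quotientBotEquiv.eq_1.{0}
  have := @_root_.Setoid.gi.eq_1.{0}
  have := @_root_.Setoid.map.eq_1.{0,0}
  have := @_root_.Setoid.quotientKerEquivRangeKerLift.eq_1.{0,0}
  have := @_root_.Setoid.map_sInf.eq_1.{0}
  have := @_root_.Setoid.map_sInf.congr_simp.{0}
  have := @_root_.Setoid.prod.eq_1.{0,0}
  have := @_root_.Setoid.map_of_le.eq_1.{0}
  have := @_root_.Setoid.map_of_le.congr_simp.{0}
  have := @_root_.Setoid.quotientQuotientEquivQuotient.eq_1.{0}
  have := @_root_.Setoid.mapOfSurjective.eq_1.{0,0}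
  have := @_root_.Setoid.mapOfSurjective.congr_simp.{0,0}
  have := @_root_.Setoid.liftEquiv.eq_1.{0,0}
  have := @_root_.Setoid.quotientKerEquivOfSurjective.eq_1.{0,0}
  have := @_root_.Setoid.kerLift.eq_1.{0,0}
  have := @_root_.Setoid.comapQuotientEquiv.eq_1.{0,0}
  have := @_root_.Setoid.comap.eq_1.{0,0}
  trivial

theorem r7_2 : True := by
  have := @_root_.Setoid.sigmaQuotientEquivOfLe.eq_1.{0}
  have := @_root_.Setoid.sigmaQuotientEquivOfLe.congr_simp.{0}
  have := @_root_.Setoid.piQuotientEquiv.eq_1.{0,0}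
  have := @_root_.Setoid.prodQuotientEquiv.eq_1.{0,0}
  have := @_root_.AddConGen.Rel.add.congr_simp.{0}
  have := @_root_.AddConGen.Rel.trans.congr_simp.{0}
  have := @_root_.AddCon.mk.congr_simp.{0}
  have := @_root_.Con.toSetoid.eq_1.{0}
  have := @_root_.AddCon.hrecOn₂.congr_simp.{0,0,0}
  have := @_root_.AddCon.comap.congr_simp.{0,0}
  have := @_root_.Con.liftOnUnits.congr_simp.{0,0}
  have := @_root_.AddCon.liftOnAddUnits.congr_simp.{0,0}
  have := @_root_.Con.liftOn.congr_simp.{0,0}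
  have := @_root_.AddCon.liftOn₂.congr_simp.{0,0}
  have := @_root_.Con.hrecOn₂.congr_simp.{0,0,0}
  have := @_root_.ConGen.Rel.trans.congr_simp.{0}
  have := @_root_.AddCon.toSetoid.eq_1.{0}
  have := @_root_.Con.liftOn₂.congr_simp.{0,0}
  have := @_root_.ConGen.Rel.of.congr_simp.{0}
  have := @_root_.ConGen.Rel.mul.congr_simp.{0}
  have := @_root_.ConGen.Rel.symm.congr_simp.{0}
  have := @_root_.AddConGen.Rel.symm.congr_simp.{0}
  have := @_root_.AddConGen.Rel.of.congr_simp.{0}
  have := @_root_.AddCon.mapOfSurjective.congr_simp.{0,0,0}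
  have := @_root_.AddCon.map.congr_simp.{0}
  have := @_root_.Con.map.congr_simp.{0}
  have := @_root_.Con.mapOfSurjective.congr_simp.{0,0,0}
  have := @_root_.AddSubgroup.quotientEquivOfEq.congr_simp.{0}
  have := @_root_.Subgroup.quotientEquivOfEq.congr_simp.{0}
  have := @_root_.QuotientAddGroup.con.congr_simp.{0}
  trivial

theorem r7_3 : True := by
  have := @_root_.QuotientGroup.liftEquiv.congr_simp.{0,0}
  have := @_root_.QuotientGroup.con.congr_simp.{0}
  have := @_root_.QuotientAddGroup.congr.congr_simp.{0,0}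
  have := @_root_.QuotientAddGroup.map.congr_simp.{0,0}
  have := @_root_.QuotientAddGroup.liftEquiv.congr_simp.{0,0}
  have := @_root_.Monoid.FG.mk.congr_simp.{0}
  have := @_root_.Group.FG.mk.congr_simp.{0}
  have := @_root_.AddMonoid.FG.mk.congr_simp.{0}
  have := @_root_.AddGroup.FG.mk.congr_simp.{0}
  have := @_root_.Abelianization.of.eq_1.{0}
  have := @_root_.Abelianization.lift.eq_1.{0,0}
  have := @_root_.MulEquiv.abelianizationCongr.eq_1.{0,0}
  have := @_root_.Abelianization.equivOfComm.eq_1.{0}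
  have := @_root_.Abelianization.map.eq_1.{0,0}
  have := @_root_.Abelianization.eq_1.{0}
  have := @_root_.FreeAbelianGroup.ofMulHom.eq_1.{0}
  have := @_root_.FreeAbelianGroup.lift.eq_1.{0,0}
  have := @_root_.FreeAbelianGroup.liftAddEquiv.eq_1.{0,0}
  have := @_root_.FreeAbelianGroup.liftMonoid.eq_1.{0,0}
  have := @_root_.FreeAbelianGroup.equivOfEquiv.eq_1.{0,0}
  have := @_root_.FreeAbelianGroup.of.eq_1.{0}
  have := @_root_.FreeAbelianGroup.eq_1.{0}
  have := @_root_.FreeAbelianGroup.liftAddGroupHom.eq_1.{0,0}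
  have := @_root_.FreeAbelianGroup.seqAddGroupHom.eq_1.{0}
  have := @_root_.FreeAbelianGroup.uniqueEquiv.eq_1.{0}
  have := @_root_.OreLocalization.OreSet.mk.congr_simp.{0}
  have := @_root_.AddOreLocalization.AddOreSet.mk.congr_simp.{0}
  have := @_root_.OreLocalization.OreSet.oreDenom.eq_1.{0}
  have := @_root_.AddOreLocalization.AddOreSet.oreSubtra.eq_1.{0}
  have := @_root_.OreLocalization.OreSet.oreNum.eq_1.{0}
  trivial

theorem r7_4 : True := by
  have := @_root_.AddOreLocalization.AddOreSet.oreMin.eq_1.{0}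
  have := @_root_.OreLocalization.zero.eq_1.{0,0}
  have := @_root_.OreLocalization.lift₂Expand.congr_simp.{0,0,0}
  have := @_root_.AddOreLocalization.universalAddHom.congr_simp.{0,0}
  have := @_root_.OreLocalization.liftExpand.congr_simp.{0,0,0}
  have := @_root_.AddOreLocalization.lift₂Expand.congr_simp.{0,0,0}
  have := @_root_.AddOreLocalization.liftExpand.congr_simp.{0,0,0}
  have := @_root_.AddMonoidHom.toLocalizationMap.congr_simp.{0,0}
  have := @_root_.OreLocalization.equivMonoidLocalization.eq_1.{0}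
  have := @_root_.AddLocalization.recOnSubsingleton₂.congr_simp.{0,0}
  have := @_root_.AddSubmonoid.LocalizationMap.toAddHom.eq_1.{0,0}
  have := @_root_.Localization.liftOn.congr_simp.{0,0}
  have := @_root_.Submonoid.IsLocalizationMap.mk.congr_simp.{0,0}
  have := @_root_.Localization.liftOn₂.congr_simp.{0,0}
  have := @_root_.AddSubmonoid.IsLocalizationMap.mk.congr_simp.{0,0}
  have := @_root_.Localization.recOnSubsingleton₂.congr_simp.{0,0}
  have := @_root_.AddSubmonoid.LocalizationMap.mk.congr_simp.{0,0}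
  have := @_root_.AddLocalization.liftOn.congr_simp.{0,0}
  have := @_root_.AddLocalization.rec.congr_simp.{0,0}
  have := @_root_.OreLocalization.localizationMap.eq_1.{0}
  have := @_root_.Submonoid.LocalizationMap.toMulHom.eq_1.{0,0}
  have := @_root_.Localization.rec.congr_simp.{0,0}
  have := @_root_.Submonoid.LocalizationMap.mk.congr_simp.{0,0}
  have := @_root_.AddLocalization.liftOn₂.congr_simp.{0,0}
  have := @_root_.MonoidHom.toLocalizationMap.congr_simp.{0,0}
  have := @_root_.AddSubmonoid.LocalizationMap.lift.congr_simp.{0,0,0}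
  have := @_root_.AddSubmonoid.LocalizationMap.addEquivOfAddEquiv.congr_simp.{0,0,0,0}
  have := @_root_.AddSubmonoid.LocalizationMap.ofAddEquivOfDom.congr_simp.{0,0,0}
  have := @_root_.Submonoid.LocalizationMap.ofMulEquivOfDom.congr_simp.{0,0,0}
  have := @_root_.AddSubmonoid.LocalizationMap.map.congr_simp.{0,0,0,0}
  trivial

theorem r7_5 : True := by
  have := @_root_.Submonoid.LocalizationMap.mulEquivOfMulEquiv.congr_simp.{0,0,0,0}
  have := @_root_.RingEquiv.toMonoidHom.eq_1.{0,0}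
  have := @_root_.RingEquiv.piOptionEquivProd.eq_1.{0,0}
  have := @_root_.RingEquiv.toNonUnitalRingHom.eq_1.{0,0}
  have := @_root_.RingEquiv.ofRingHom.eq_1.{0,0}
  have := @_root_.RingEquivClass.toRingEquiv.eq_1.{0,0,0}
  have := @_root_.RingEquiv.prodCongr.eq_1.{0,0,0,0}
  have := @_root_.AddEquiv.toRingEquiv.eq_1.{0,0,0}
  have := @_root_.AddEquiv.toRingEquiv.congr_simp.{0,0,0}
  have := @_root_.RingEquiv.toRingHom.eq_1.{0,0}
  have := @_root_.RingEquiv.refl.eq_1.{0}
  have := @_root_.RingEquiv.piMulOpposite.eq_1.{0,0}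
  have := @_root_.RingEquiv.opOp.eq_1.{0}
  have := @_root_.RingEquiv.toMulEquiv.eq_1.{0,0}
  have := @_root_.RingEquiv.toOpposite.eq_1.{0}
  have := @_root_.RingEquiv.sumArrowEquivProdArrow.eq_1.{0,0,0}
  have := @_root_.RingEquiv.piCongrRight.eq_1.{0,0,0}
  have := @_root_.RingEquiv.toEquiv.eq_1.{0,0}
  have := @_root_.RingEquiv.ofBijective.eq_1.{0,0,0}
  have := @_root_.RingEquiv.ofNonUnitalRingHom.eq_1.{0,0}
  have := @_root_.RingEquiv.ofNonUnitalRingHom.congr_simp.{0,0}
  have := @_root_.RingEquiv.op.eq_1.{0,0}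
  have := @_root_.NonUnitalRingHom.inverse.eq_1.{0,0}
  have := @_root_.NonUnitalRingHom.inverse.congr_simp.{0,0}
  have := @_root_.RingEquiv.piCongrLeft.eq_1.{0,0,0}
  have := @_root_.MulEquiv.toRingEquiv.eq_1.{0,0,0}
  have := @_root_.MulEquiv.toRingEquiv.congr_simp.{0,0,0}
  have := @_root_.RingEquiv.toAddEquiv.eq_1.{0,0}
  have := @_root_.RingEquiv.piUnique.eq_1.{0,0}
  have := @_root_.RingEquiv.cast.eq_1.{0,0}
  trivial

theorem r7_6 : True := by
  have := @_root_.RingEquiv.cast.congr_simp.{0,0}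
  have := @_root_.RingHom.inverse.eq_1.{0,0}
  have := @_root_.RingHom.inverse.congr_simp.{0,0}
  have := @_root_.RingEquiv.trans.eq_1.{0,0,0}
  have := @_root_.RingEquivClass.mk.congr_simp.{0,0,0}
  have := @_root_.RingEquiv.toAddMonoidHom.eq_1.{0,0}
  have := @_root_.RingEquiv.ofUnique.eq_1.{0,0}
  have := @_root_.RingEquiv.piEquivPiSubtypeProd.eq_1.{0,0}
  have := @_root_.fintypeOfFintypeNe.eq_1.{0}
  have := @_root_.List.Vector.pmap.eq_1.{0,0}
  have := @_root_.List.Vector.mapAccumr.eq_1.{0,0,0}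
  have := @_root_.List.Vector.map₂.eq_1.{0,0,0}
  have := @_root_.List.Vector.mapAccumr₂.eq_1.{0,0,0,0}
  have := @_root_.List.Vector.drop.eq_1.{0}
  have := @_root_.List.Vector.tail.eq_def.{0}
  have := @_root_.List.Vector.tail.eq_1.{0}
  have := @_root_.List.Vector.congr.eq_1.{0}
  have := @_root_.List.Vector.shiftRightFill.eq_1.{0}
  have := @_root_.List.Vector.take.eq_1.{0}
  have := @_root_.List.Vector.shiftLeftFill.eq_1.{0}
  have := @_root_.List.Vector.elim.eq_1.{0,0}
  have := @_root_.List.Vector.length.eq_1.{0}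
  have := @_root_.List.Vector.head.eq_1.{0}
  have := @_root_.List.Vector.eq_1.{0}
  have := @_root_.List.Vector.inductionOn.eq_1.{0,0}
  have := @_root_.List.Vector.toArray.eq_1.{0}
  have := @_root_.List.Vector.inductionOn₂.eq_1.{0,0,0}
  have := @_root_.List.Vector.traverse.eq_1.{0}
  have := @_root_.List.Vector.casesOn₂.eq_1.{0,0,0}
  have := @_root_.Equiv.vectorEquivFin.eq_1.{0}
  trivial

theorem r7_7 : True := by
  have := @_root_.List.Vector.casesOn₃.eq_1.{0,0,0,0}
  have := @_root_.List.Vector.last.eq_1.{0}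
  have := @_root_.List.Vector.mmap.eq_def.{0,0,0}
  have := @_root_.List.Vector.mmap.eq_1.{0,0,0}
  have := @_root_.List.Vector.inductionOn₃.eq_1.{0,0,0,0}
  have := @_root_.Sym.cons'.eq_1.{0}
  have := @_root_.Sym.erase.eq_1.{0}
  have := @_root_.Sym.attach.eq_1.{0}
  have := @_root_.Sym.nil.eq_1.{0}
  have := @_root_.Sym.mk.eq_1.{0}
  have := @_root_.Sym.Sym'.eq_1.{0}
  have := @_root_.SymOptionSuccEquiv.encode.eq_1.{0}
  have := @_root_.Sym.cons.eq_1.{0}
  have := @_root_.Sym.ofVector.eq_1.{0}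
  have := @_root_.Sym.symEquivSym'.eq_1.{0}
  have := @_root_.Sym.cast.eq_1.{0}
  have := @_root_.SymOptionSuccEquiv.decode.eq_def.{0}
  have := @_root_.Sym.replicate.eq_1.{0}
  have := @_root_.Sym.toMultiset.eq_1.{0}
  have := @_root_.Sym.oneEquiv.eq_1.{0}
  have := @_root_.List.Vector.Perm.isSetoid.eq_1.{0}
  have := @_root_.Sym.equivCongr.eq_1.{0,0}
  have := @_root_.symOptionSuccEquiv.eq_1.{0}
  have := @_root_.Fintype.toEncodable.eq_1.{0}
  have := @_root_.Equiv.listUniqueEquiv.eq_1.{0}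
  have := @_root_.Equiv.listEquivOfEquiv.eq_1.{0,0}
  have := @_root_.Equiv.listEquivSelfOfEquivNat.eq_1.{0}
  have := @_root_.Encodable.encodableOfList.eq_1.{0}
  have := @_root_.Encodable.encodableOfList.congr_simp.{0}
  have := @_root_.Fintype.truncEncodable.eq_1.{0}
  trivial

theorem r7_8 : True := by
  have := @_root_.Equiv.listNatEquivNat.eq_1
  have := @_root_.Set.enumerateCountable.congr_simp.{0}
  have := @_root_.Set.Countable.toEncodable.eq_1.{0}
  have := @_root_.Set.Countable.toEncodable.congr_simp.{0}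
  have := @_root_.Set.Countable.eq_1.{0}
  have := @_root_.Sum.inrₗ.eq_1.{0,0}
  have := @_root_.OrderIso.sumCongr.eq_1.{0,0,0,0}
  have := @_root_.OrderIso.sumComm.eq_1.{0,0}
  have := @_root_.OrderIso.sumLexEmpty.eq_1.{0,0}
  have := @_root_.OrderIso.sumLexEmpty.congr_simp.{0,0}
  have := @_root_.WithTop.orderIsoSumLexPUnit.eq_1.{0,0}
  have := @_root_.Sum.Lex.toLexRelIsoLT.eq_1.{0,0}
  have := @_root_.OrderIso.sumLexDualAntidistrib.eq_1.{0,0}
  have := @_root_.OrderIso.emptySumLex.eq_1.{0,0}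
  have := @_root_.OrderIso.emptySumLex.congr_simp.{0,0}
  have := @_root_.OrderIso.sumLexAssoc.eq_1.{0,0,0}
  have := @_root_.WithBot.orderIsoPUnitSumLex.eq_1.{0,0}
  have := @_root_.OrderIso.sumDualDistrib.eq_1.{0,0}
  have := @_root_.Sum.Lex.toLexRelIsoLE.eq_1.{0,0}
  have := @_root_.OrderIso.sumAssoc.eq_1.{0,0,0}
  have := @_root_.OrderIso.sumLexCongr.eq_1.{0,0,0,0}
  have := @_root_.Sum.inlₗ.eq_1.{0,0}
  have := @_root_.RelIso.sumLexComplLeft.eq_1.{0}
  have := @_root_.RelIso.sumLexComplLeft.congr_simp.{0}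
  have := @_root_.Prod.Lex.uniqueProd.eq_1.{0,0}
  have := @_root_.OrderIso.sumLexIioIci.eq_1.{0}
  have := @_root_.Prod.Lex.prodLexAssoc.eq_1.{0,0,0}
  have := @_root_.Prod.Lex.prodLexCongr.eq_1.{0,0,0,0}
  have := @_root_.Prod.Lex.prodUnique.eq_1.{0,0}
  have := @_root_.Prod.Lex.sumLexProdLexDistrib.eq_1.{0,0,0}
  trivial

theorem r7_9 : True := by
  have := @_root_.RelIso.sumLexComplRight.eq_1.{0}
  have := @_root_.RelIso.sumLexComplRight.congr_simp.{0}
  have := @_root_.OrderIso.sumLexIicIoi.eq_1.{0}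
  have := @_root_.Equiv.smulRight.eq_1.{0,0}
  have := @_root_.MulDistribMulAction.compHom.eq_1.{0,0,0}
  have := @_root_.DistribMulAction.toAddEquiv₀.eq_1.{0,0}
  have := @_root_.DistribMulAction.toAddEquiv₀.congr_simp.{0,0}
  have := @_root_.DistribMulAction.compHom.eq_1.{0,0,0}
  have := @_root_.Function.Surjective.distribMulActionLeft.eq_1.{0,0,0}
  have := @_root_.Function.Surjective.distribMulActionLeft.congr_simp.{0,0,0}
  have := @_root_.Function.Surjective.moduleLeft.eq_1.{0,0,0}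
  have := @_root_.Function.Surjective.moduleLeft.congr_simp.{0,0,0}
  have := @_root_.RingHom.toModule.eq_1.{0,0}
  have := @_root_.ringHomEquivModuleIsScalarTower.eq_1.{0,0}
  have := @_root_.Module.compHom.eq_1.{0,0,0}
  have := @_root_.RingHom.smulOneHom.eq_1.{0,0}
  have := @_root_.RingHomSurjective.mk.congr_simp.{0,0}
  have := @_root_.RingHomCompTriple.mk.congr_simp.{0,0,0}
  have := @_root_.RingHomInvPair.mk.congr_simp.{0,0}
  have := @_root_.RingHomInvPair.toRingEquiv.eq_1.{0,0}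
  have := @_root_.RingHomId.mk.congr_simp.{0}
  have := @_root_.CompTriple.IsId.mk.congr_simp.{0}
  have := @_root_.CompTriple.mk.congr_simp.{0,0,0}
  have := @_root_.MonoidHom.CompTriple.IsId.mk.congr_simp.{0}
  have := @_root_.MonoidHom.CompTriple.mk.congr_simp.{0,0,0}
  have := @_root_.MulSemiringAction.toRingHom.eq_1.{0,0}
  have := @_root_.MulSemiringAction.compHom.eq_1.{0,0,0}
  have := @_root_.MulSemiringAction.mk.congr_simp.{0,0}
  have := @_root_.MulSemiringActionHom.inverse.eq_1.{0,0,0}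
  have := @_root_.MulSemiringActionHom.inverse.congr_simp.{0,0,0}
  trivial

theorem r7_10 : True := by
  have := @_root_.AddActionHom.comp.congr_simp.{0,0,0,0,0,0}
  have := @_root_.VAddCommClass.toAddActionHom.congr_simp.{0,0,0}
  have := @_root_.MulSemiringActionHom.mk.congr_simp.{0,0,0,0}
  have := @_root_.MulSemiringActionHom.id.eq_1.{0,0}
  have := @_root_.MulSemiringActionHom.toRingHom.eq_1.{0,0,0,0}
  have := @_root_.AddActionHom.inverse'.congr_simp.{0,0,0,0}
  have := @_root_.MulActionSemiHomClass.toMulActionHom.congr_simp.{0,0,0,0,0}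
  have := @_root_.AddActionSemiHomClass.mk.congr_simp.{0,0,0,0,0}
  have := @_root_.AddActionHom.toFun.eq_1.{0,0,0,0}
  have := @_root_.MulDistribMulActionHom.toMonoidHom.eq_1.{0,0,0,0}
  have := @_root_.MulDistribMulActionHom.inverse.congr_simp.{0,0,0}
  have := @_root_.MulSemiringActionHomClass.toMulSemiringActionHom.eq_1.{0,0,0,0,0}
  have := @_root_.MulSemiringActionHomClass.toMulSemiringActionHom.congr_simp.{0,0,0,0,0}
  have := @_root_.MulDistribMulActionHom.toMulActionHom.eq_1.{0,0,0,0}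
  have := @_root_.MulDistribMulActionSemiHomClass.toMulDistribMulActionHom.congr_simp.{0,0,0,0,0}
  have := @_root_.AddActionHom.ofEq.congr_simp.{0,0,0,0}
  have := @_root_.MulSemiringActionSemiHomClass.mk.congr_simp.{0,0,0,0,0}
  have := @_root_.MulDistribMulActionSemiHomClass.mk.congr_simp.{0,0,0,0,0}
  have := @_root_.DistribMulActionSemiHomClass.mk.congr_simp.{0,0,0,0,0}
  have := @_root_.AddActionHom.mk.congr_simp.{0,0,0,0}
  have := @_root_.MulActionHom.toFun.eq_1.{0,0,0,0}
  have := @_root_.MulActionHom.inverse.congr_simp.{0,0,0}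
  have := @_root_.MulSemiringActionHom.toDistribMulActionHom.eq_1.{0,0,0,0}
  have := @_root_.DistribMulActionHom.toAddMonoidHom.eq_1.{0,0,0,0}
  have := @_root_.MulDistribMulActionHom.comp.congr_simp.{0,0,0,0,0,0}
  have := @_root_.AddActionSemiHomClass.toAddActionHom.congr_simp.{0,0,0,0,0}
  have := @_root_.MulActionSemiHomClass.mk.congr_simp.{0,0,0,0,0}
  have := @_root_.MulActionHom.ofEq.congr_simp.{0,0,0,0}
  have := @_root_.SMulCommClass.toDistribMulActionHom.eq_1.{0,0,0}
  have := @_root_.SMulCommClass.toDistribMulActionHom.congr_simp.{0,0,0}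
  trivial

theorem r7_11 : True := by
  have := @_root_.SMulCommClass.toMulActionHom.congr_simp.{0,0,0}
  have := @_root_.DistribMulActionHom.inverse.congr_simp.{0,0,0}
  have := @_root_.MulSemiringActionHom.inverse'.eq_1.{0,0,0,0}
  have := @_root_.MulSemiringActionHom.inverse'.congr_simp.{0,0,0,0}
  have := @_root_.MulDistribMulActionHom.mk.congr_simp.{0,0,0,0}
  have := @_root_.MulSemiringActionHomClass.eq_1.{0,0,0,0}
  have := @_root_.DistribMulActionHom.toMulActionHom.eq_1.{0,0,0,0}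
  have := @_root_.MulSemiringActionHom.comp.eq_1.{0,0,0,0,0,0}
  have := @_root_.MulSemiringActionHom.comp.congr_simp.{0,0,0,0,0,0}
  have := @_root_.AddActionHom.inverse.congr_simp.{0,0,0}
  have := @_root_.LinearMapClass.eq_1.{0,0,0,0}
  have := @_root_.LinearMap.toAddMonoidHom.eq_1.{0,0,0,0}
  have := @_root_.LinearMap.id'.eq_1.{0,0}
  have := @_root_.LinearMap.id'.congr_simp.{0,0}
  have := @_root_.LinearMap.CompatibleSMul.mk.congr_simp.{0,0,0,0}
  have := @_root_.LinearMap.mulRight.eq_1.{0,0}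
  have := @_root_.LinearMap.inverse.eq_1.{0,0,0,0}
  have := @_root_.LinearMap.mulLeftRight.eq_1.{0,0}
  have := @_root_.LinearMap.restrictScalarsₗ.eq_1.{0,0,0,0,0}
  have := @_root_.AddMonoidHom.toNatLinearMap.eq_1.{0,0}
  have := @_root_.SemilinearMapClass.semilinearMap.eq_1.{0,0,0,0,0}
  have := @_root_.LinearMap.restrictScalars.eq_1.{0,0,0,0}
  have := @_root_.LinearMap.evalAddMonoidHom.eq_1.{0,0,0,0}
  have := @_root_.Module.compHom.toLinearMap.eq_1.{0,0}
  have := @_root_.SemilinearMapClass.mk.congr_simp.{0,0,0,0,0}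
  have := @_root_.LinearMap.mulLeft.eq_1.{0,0}
  have := @_root_.AddMonoidHom.toIntLinearMap.eq_1.{0,0}
  have := @_root_.LinearMap.toDistribMulActionHom.eq_1.{0,0,0,0}
  have := @_root_.LinearMap.toMulActionHom.eq_1.{0,0,0,0}
  have := @_root_.IsLinearMap.mk'.eq_1.{0,0,0}
  trivial

theorem r7_12 : True := by
  have := @_root_.LinearMap.comp.eq_1.{0,0,0,0,0,0}
  have := @_root_.LinearMap.toAddMonoidHom'.eq_1.{0,0,0,0}
  have := @_root_.IsLinearMap.mk.congr_simp.{0,0,0}
  have := @_root_.LinearMap.copy.eq_1.{0,0,0,0}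
  have := @_root_.LinearMapClass.linearMap.eq_1.{0,0,0,0}
  have := @_root_.LinearMapClass.linearMap.congr_simp.{0,0,0,0}
  have := @_root_.LinearMap.toAddHom.eq_1.{0,0,0,0}
  have := @_root_.LinearMap.compNotation.eq_1
  have := @_root_.RingHom.toSemilinearMap.eq_1.{0,0}
  have := @_root_.RingHom.toAlgebra.eq_1.{0,0}
  have := @_root_.algebraMap.coeHTCT.eq_1.{0,0}
  have := @_root_.Algebra.ofModule.eq_1.{0,0}
  have := @_root_.Algebra.ofModule.congr_simp.{0,0}
  have := @_root_.Algebra.compHom.eq_1.{0,0,0}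
  have := @_root_.Algebra.algebraMap.eq_1.{0,0}
  have := @_root_.Algebra.ofModule'.eq_1.{0,0}
  have := @_root_.Algebra.ofModule'.congr_simp.{0,0}
  have := @_root_.Algebra.linearMap.eq_1.{0,0}
  have := @_root_.RingHom.toAlgebra'.eq_1.{0,0}
  have := @_root_.RingHom.toAlgebra'.congr_simp.{0,0}
  have := @_root_.Algebra.mk.congr_simp.{0,0}
  have := @_root_.AddAction.prodOfVAddCommClass.congr_simp.{0,0,0}
  have := @_root_.MulAction.prodOfSMulCommClass.congr_simp.{0,0,0}
  have := @_root_.smulMulHom.eq_1.{0,0}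
  have := @_root_.smulMulHom.congr_simp.{0,0}
  have := @_root_.smulMonoidHom.eq_1.{0,0}
  have := @_root_.smulMonoidHom.congr_simp.{0,0}
  have := @_root_.divMonoidWithZeroHom.eq_1.{0}
  have := @_root_.mulMonoidWithZeroHom.eq_1.{0}
  have := @_root_.DistribMulAction.toAddAut.eq_1.{0,0}
  trivial

theorem r7_13 : True := by
  have := @_root_.smulMonoidWithZeroHom.eq_1.{0,0}
  have := @_root_.smulMonoidWithZeroHom.congr_simp.{0,0}
  have := @_root_.DistribMulAction.toAddEquiv.eq_1.{0,0}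
  have := @_root_.LinearEquiv.cast.eq_1.{0,0,0}
  have := @_root_.LinearEquiv.cast.congr_simp.{0,0,0}
  have := @_root_.LinearEquiv.trans.eq_1.{0,0,0,0,0,0}
  have := @_root_.SemilinearEquivClass.semilinearEquiv.eq_1.{0,0,0,0,0}
  have := @_root_.SemilinearEquivClass.semilinearEquiv.congr_simp.{0,0,0,0,0}
  have := @_root_.LinearEquiv.symm.eq_1.{0,0,0,0}
  have := @_root_.LinearEquivClass.eq_1.{0,0,0,0}
  have := @_root_.LinearEquiv.ofInvolutive.eq_1.{0,0}
  have := @_root_.LinearEquiv.ofInvolutive.congr_simp.{0,0}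
  have := @_root_.SemilinearEquivClass.congr_simp.{0,0,0,0,0}
  have := @_root_.LinearEquiv.toEquiv.eq_1.{0,0,0,0}
  have := @_root_.LinearEquiv.transNotation.eq_1
  have := @_root_.LinearEquiv.invFun.eq_1.{0,0,0,0}
  have := @_root_.SemilinearEquivClass.mk.congr_simp.{0,0,0,0,0}
  have := @_root_.LinearEquiv.refl.eq_1.{0,0}
  have := @_root_.LinearEquiv.toLinearMap.eq_1.{0,0,0,0}
  have := @_root_.LinearEquiv.symmEquiv.eq_1.{0,0,0,0}
  have := @_root_.RingEquiv.toSemilinearEquiv.eq_1.{0,0}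
  have := @_root_.LinearEquiv.toAddEquiv.eq_1.{0,0,0,0}
  have := @_root_.Module.toAddMonoidEnd.eq_1.{0,0}
  have := @_root_.smulAddHom.eq_1.{0,0}
  have := @_root_.NonUnitalRingHom.op.eq_1.{0,0}
  have := @_root_.RingHom.fromOpposite.eq_1.{0,0}
  have := @_root_.RingHom.fromOpposite.congr_simp.{0,0}
  have := @_root_.NonUnitalRingHom.toOpposite.eq_1.{0,0}
  have := @_root_.NonUnitalRingHom.toOpposite.congr_simp.{0,0}
  have := @_root_.RingHom.toOpposite.eq_1.{0,0}
  trivial

theorem r7_14 : True := by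
  have := @_root_.RingHom.op.eq_1.{0,0}
  have := @_root_.NonUnitalRingHom.fromOpposite.eq_1.{0,0}
  have := @_root_.NonUnitalRingHom.fromOpposite.congr_simp.{0,0}
  have := @_root_.AddMonoidHom.smulLeft.eq_1.{0,0}
  have := @_root_.AddMonoidHom.smul.eq_1.{0,0}
  have := @_root_.MulHom.single.eq_1.{0,0}
  have := @_root_.Pi.evalRingHom.eq_1.{0,0}
  have := @_root_.NonUnitalRingHom.pi.eq_1.{0,0,0}
  have := @_root_.Pi.constRingHom.eq_1.{0,0}
  have := @_root_.Pi.constNonUnitalRingHom.eq_1.{0,0}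
  have := @_root_.NonUnitalRingHom.compLeft.eq_1.{0,0,0}
  have := @_root_.Pi.evalNonUnitalRingHom.eq_1.{0,0}
  have := @_root_.RingHom.pi.eq_1.{0,0,0}
  have := @_root_.Pi.nonUnitalRingHom.eq_1.{0,0,0}
  have := @_root_.RingHom.compLeft.eq_1.{0,0,0}
  have := @_root_.Pi.ringHom.eq_1.{0,0,0}
  have := @_root_.Module.IsTorsionFree.mk.congr_simp.{0,0}
  have := @_root_.Sum.elimZeroLeft.eq_1.{0,0,0}
  have := @_root_.Sum.elimZeroRight.eq_1.{0,0,0}
  have := @_root_.LinearMap.ltoFun.eq_1.{0,0,0,0}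
  have := @_root_.MulOpposite.opLinearEquiv.eq_1.{0,0}
  have := @_root_.LinearMap.smulRightₗ.eq_1.{0,0,0}
  have := @_root_.LinearMap.compRight.eq_1.{0,0,0,0,0}
  have := @_root_.RingEquiv.moduleEndSelfOp.eq_1.{0}
  have := @_root_.DistribSMul.toLinearMap.eq_1.{0,0,0}
  have := @_root_.DistribMulAction.toLinearMap.eq_1.{0,0,0}
  have := @_root_.DistribMulAction.toLinearMap.congr_simp.{0,0,0}
  have := @_root_.Module.End.smulLeft.eq_1.{0,0}
  have := @_root_.LinearMap.smulRight.eq_1.{0,0,0,0}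
  have := @_root_.DistribMulAction.toModuleEnd.eq_1.{0,0,0}
  trivial

theorem r7_15 : True := by
  have := @_root_.Module.End.eq_1.{0,0}
  have := @_root_.LinearMap.applyₗ.eq_1.{0,0,0}
  have := @_root_.Module.toModuleEnd.eq_1.{0,0,0}
  have := @_root_.RingEquiv.moduleEndSelf.eq_1.{0}
  have := @_root_.LinearMap.applyₗ'.eq_1.{0,0,0,0}
  have := @_root_.DistribMulAction.prodEquiv.eq_1.{0,0,0}
  have := @_root_.DistribMulAction.prodOfSMulCommClass.eq_1.{0,0,0}
  have := @_root_.DistribMulAction.prodOfSMulCommClass.congr_simp.{0,0,0}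
  have := @_root_.Units.mulLeftLinearEquiv.eq_1.{0,0}
  have := @_root_.LinearMap.ringLmapEquivSelf.eq_1.{0,0,0}
  trivial

end CL.BaseAux
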