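import Cfsg.Agent.Base.Imports

/-! On-demand lemmas of Prelude and Mathlib definitions, produced once here so that no other file holds a copy. -/

set_option linter.all false

namespace CL.BaseAux

theorem r8_0 : True := by
  have := @_root_.LinearEquiv.ofSubsingleton.eq_1.{0,0,0}
  have := @_root_.LinearEquiv.smulOfUnit.eq_1.{0,0}
  have := @_root_.LinearEquiv.conjRingEquiv.eq_1.{0,0,0,0}
  have := @_root_.LinearEquiv.sumPiEquivProdPi.eq_1.{0,0,0,0}
  have := @_root_.Equiv.toLinearEquiv.eq_1.{0,0,0}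
  have := @_root_.LinearEquiv.ofLinear.eq_1.{0,0,0,0}
  have := @_root_.LinearEquiv.ofLinear.congr_simp.{0,0,0,0}
  have := @_root_.LinearEquiv.piUnique.eq_1.{0,0,0}
  have := @_root_.Module.compHom.toLinearEquiv.eq_1.{0,0}
  have := @_root_.LinearEquiv.ofLinearMap.eq_1.{0,0,0,0}
  have := @_root_.LinearEquiv.neg.eq_1.{0,0}
  have := @_root_.LinearEquiv.domMulActCongrRight.eq_1.{0,0,0,0,0,0,0}
  have := @_root_.LinearEquiv.domMulActCongrRight.congr_simp.{0,0,0,0,0,0,0}
  have := @_root_.LinearEquiv.curry.eq_1.{0,0,0,0}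
  have := @_root_.addMonoidHomLequivNat.eq_1.{0,0,0}
  have := @_root_.DistribMulAction.toLinearEquiv.eq_1.{0,0,0}
  have := @_root_.LinearEquiv.restrictScalars.eq_1.{0,0,0,0}
  have := @_root_.LinearEquiv.automorphismGroup.toLinearMapMonoidHom.eq_1.{0,0}
  have := @_root_.addMonoidEndRingEquivInt.eq_1.{0}
  have := @_root_.LinearEquiv.arrowCongr.eq_1.{0,0,0,0,0,0,0,0}
  have := @_root_.AddEquiv.toIntLinearEquiv.eq_1.{0,0}
  have := @_root_.AddEquiv.toNatLinearEquiv.eq_1.{0,0}
  have := @_root_.LinearMap.piApply.eq_1.{0,0,0}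
  have := @_root_.addMonoidHomLequivInt.eq_1.{0,0,0}
  have := @_root_.LinearEquiv.smulOfNeZero.eq_1.{0,0}
  have := @_root_.LinearEquiv.smulOfNeZero.congr_simp.{0,0}
  have := @_root_.AddEquiv.toLinearEquiv.eq_1.{0,0,0}
  have := @_root_.AddEquiv.toLinearEquiv.congr_simp.{0,0,0}
  have := @_root_.LinearEquiv.funCongrLeft.eq_1.{0,0,0,0}
  have := @_root_.Units.mulRightLinearEquiv.eq_1.{0,0}
  trivial

theorem r8_1 : True := by
  have := @_root_.DistribMulAction.toModuleAut.eq_1.{0,0,0}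
  have := @_root_.DistribMulAction.toModuleAut.congr_simp.{0,0,0}
  have := @_root_.SMulMemClass.mk.congr_simp.{0,0,0}
  have := @_root_.SubAddAction.carrier.eq_1.{0,0}
  have := @_root_.SubAddAction.copy.congr_simp.{0,0}
  have := @_root_.fixedPointsSubAddOfNormal.congr_simp.{0,0}
  have := @_root_.VAddMemClass.mk.congr_simp.{0,0,0}
  have := @_root_.SubAddAction.mk.congr_simp.{0,0}
  have := @_root_.fixedPointsSubMulOfNormal.congr_simp.{0,0}
  have := @_root_.Units.nonZeroSubMul.eq_1.{0,0}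
  have := @_root_.SubMulAction.carrier.eq_1.{0,0}
  have := @_root_.SubMulAction.copy.congr_simp.{0,0}
  have := @_root_.SubMulAction.mk.congr_simp.{0,0}
  have := @_root_.Submodule.toAddSubgroup.eq_1.{0,0}
  have := @_root_.SMulMemClass.toModule'.eq_1.{0,0,0,0}
  have := @_root_.SMulMemClass.toModule'.congr_simp.{0,0,0,0}
  have := @_root_.Submodule.toAddSubmonoid.eq_1.{0,0}
  have := @_root_.Submodule.copy.eq_1.{0,0}
  have := @_root_.Submodule.ofClass.eq_1.{0,0,0}
  have := @_root_.Submodule.ofClass.congr_simp.{0,0,0}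
  have := @_root_.Submodule.toSubMulAction.eq_1.{0,0}
  have := @_root_.Submodule.ofLinearComb.eq_1.{0,0}
  have := @_root_.Submodule.ofLinearComb.congr_simp.{0,0}
  have := @_root_.Subspace.eq_1.{0,0}
  have := @_root_.AddSubgroup.toIntSubmodule.eq_1.{0}
  have := @_root_.Submodule.topEquiv.eq_1.{0,0}
  have := @_root_.AddSubmonoid.toNatSubmodule.eq_1.{0}
  have := @_root_.Submodule.botEquivPUnit.eq_1.{0,0,0}
  have := @_root_.LinearMap.codLift.eq_1.{0,0,0,0,0}
  have := @_root_.LinearMap.codLift.congr_simp.{0,0,0,0,0}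
  trivial

theorem r8_2 : True := by
  have := @_root_.LinearMap.domRestrict'.eq_1.{0,0,0}
  have := @_root_.Submodule.subtype.eq_1.{0,0}
  have := @_root_.SMulMemClass.subtype.eq_1.{0,0,0}
  have := @_root_.Submodule.orderIsoMapComapOfBijective.eq_1.{0,0,0,0}
  have := @_root_.Submodule.orderIsoMapComapOfBijective.congr_simp.{0,0,0,0}
  have := @_root_.Submodule.orderIsoMapComap.eq_1.{0,0,0,0}
  have := @_root_.Submodule.gciMapComap.eq_1.{0,0,0,0}
  have := @_root_.Submodule.gciMapComap.congr_simp.{0,0,0,0}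
  have := @_root_.Submodule.giMapComap.eq_1.{0,0,0,0}
  have := @_root_.Submodule.giMapComap.congr_simp.{0,0,0,0}
  have := @_root_.Submodule.comap.eq_1.{0,0,0,0}
  have := @_root_.LinearMap.submoduleComap.eq_1.{0,0,0,0}
  have := @_root_.Submodule.equivMapOfInjective.eq_1.{0,0,0,0}
  have := @_root_.Submodule.equivMapOfInjective.congr_simp.{0,0,0,0}
  have := @_root_.Submodule.comapSubtypeEquivOfLe.eq_1.{0,0}
  have := @_root_.LinearEquiv.submoduleMap.eq_1.{0,0,0,0}
  have := @_root_.Submodule.submoduleOfEquivOfLe.eq_1.{0,0}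
  have := @_root_.Submodule.submoduleOfEquivOfLe.congr_simp.{0,0}
  have := @_root_.Submodule.compatibleMaps.eq_1.{0,0,0}
  have := @_root_.supsSupHom.eq_1.{0}
  have := @_root_.sInfHom.toFun.eq_1.{0,0}
  have := @_root_.sSupHom.mk.congr_simp.{0,0}
  have := @_root_.sSupHom.copy.congr_simp.{0,0}
  have := @_root_.sInfHomClass.mk.congr_simp.{0,0,0}
  have := @_root_.FrameHom.id.eq_1.{0}
  have := @_root_.sSupHomClass.mk.congr_simp.{0,0,0}
  have := @_root_.Equiv.toOrderIsoSet.eq_1.{0,0}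
  have := @_root_.CompleteLatticeHom.comp.eq_1.{0,0,0}
  have := @_root_.CompleteLatticeHom.OrderIso.toCompleteLatticeHom.eq_1.{0,0}
  have := @_root_.FrameHom.toInfTopHom.eq_1.{0,0}
  trivial

theorem r8_3 : True := by
  have := @_root_.FrameHomClass.mk.congr_simp.{0,0,0}
  have := @_root_.CompleteLatticeHomClass.mk.congr_simp.{0,0,0}
  have := @_root_.sSupHom.setImage.eq_1.{0,0}
  have := @_root_.CompleteLatticeHom.tosInfHom.eq_1.{0,0}
  have := @_root_.CompleteLatticeHom.dual.eq_1.{0,0}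
  have := @_root_.CompleteLatticeHom.toBoundedLatticeHom.eq_1.{0,0}
  have := @_root_.FrameHom.copy.eq_1.{0,0}
  have := @_root_.FrameHom.copy.congr_simp.{0,0}
  have := @_root_.sInfHom.mk.congr_simp.{0,0}
  have := @_root_.sSupHom.toFun.eq_1.{0,0}
  have := @_root_.CompleteLatticeHom.copy.eq_1.{0,0}
  have := @_root_.CompleteLatticeHom.copy.congr_simp.{0,0}
  have := @_root_.sInfHom.copy.congr_simp.{0,0}
  have := @_root_.CompleteLatticeHom.mk.congr_simp.{0,0}
  have := @_root_.CompleteLatticeHom.id.eq_1.{0}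
  have := @_root_.FrameHom.toLatticeHom.eq_1.{0,0}
  have := @_root_.CompleteLatticeHom.tosSupHom.eq_1.{0,0}
  have := @_root_.CompleteLatticeHom.setPreimage.eq_1.{0,0}
  have := @_root_.FrameHom.comp.eq_1.{0,0,0}
  have := @_root_.infsInfHom.eq_1.{0}
  have := @_root_.Submodule.restrictScalarsEquiv.eq_1.{0,0,0}
  have := @_root_.Submodule.restrictScalarsLatticeHom.eq_1.{0,0,0}
  have := @_root_.Submodule.restrictScalarsLatticeHom.congr_simp.{0,0,0}
  have := @_root_.Submodule.restrictScalars.eq_1.{0,0,0}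
  have := @_root_.Submodule.restrictScalarsEmbedding.congr_simp.{0,0,0}
  have := @_root_.LinearMap.iterateKer.eq_1.{0,0}
  have := @_root_.ULift.ringEquiv.eq_1.{0,0}
  have := @_root_.RingHom.ulift.eq_1.{0,0,0,0}
  have := @_root_.ULift.moduleEquiv.eq_1.{0,0,0}
  have := @_root_.Nat.castEmbedding.eq_1.{0}
  trivial

theorem r8_4 : True := by
  have := @_root_.SubsemiringClass.subtype.eq_1.{0,0}
  have := @_root_.Subsemiring.mk'.eq_1.{0}
  have := @_root_.AddSubmonoidWithOneClass.mk.congr_simp.{0,0}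
  have := @_root_.RingHom.domRestrict.eq_1.{0,0,0}
  have := @_root_.NonUnitalSubsemiring.toSubsemiring.eq_1.{0}
  have := @_root_.NonUnitalSubsemiring.toSubsemiring.congr_simp.{0}
  have := @_root_.SubsemiringClass.mk.congr_simp.{0,0}
  have := @_root_.Subsemiring.ofClass.eq_1.{0,0}
  have := @_root_.Subsemiring.ofClass.congr_simp.{0,0}
  have := @_root_.RingHom.eqLocusS.eq_1.{0,0}
  have := @_root_.Subsemiring.copy.eq_1.{0}
  have := @_root_.Subsemiring.toAddSubmonoid.eq_1.{0}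
  have := @_root_.Subsemiring.subtype.eq_1.{0}
  have := @_root_.Subsemiring.toSubmonoid.eq_1.{0}
  have := @_root_.Subsemiring.toNonUnitalSubsemiring.eq_1.{0}
  have := @_root_.Subring.copy.eq_1.{0}
  have := @_root_.Subring.mk'.eq_1.{0}
  have := @_root_.Subring.toAddSubgroup.eq_1.{0}
  have := @_root_.Subring.ofClass.eq_1.{0,0}
  have := @_root_.Subring.ofClass.congr_simp.{0,0}
  have := @_root_.SubringClass.mk.congr_simp.{0,0}
  have := @_root_.SubringClass.subtype.eq_1.{0,0}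
  have := @_root_.Subring.subtype.eq_1.{0}
  have := @_root_.NonUnitalSubring.toSubring.eq_1.{0}
  have := @_root_.NonUnitalSubring.toSubring.congr_simp.{0}
  have := @_root_.Subring.toSubsemiring.eq_1.{0}
  have := @_root_.Subsemiring.toSubring.eq_1.{0}
  have := @_root_.Subsemiring.toSubring.congr_simp.{0}
  have := @_root_.Subring.toNonUnitalSubring.eq_1.{0}
  have := @_root_.RingEquiv.prodProdProdComm.eq_1.{0,0,0,0}
  trivial

theorem r8_5 : True := by
  have := @_root_.RingHom.fst.eq_1.{0,0}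
  have := @_root_.NonUnitalRingHom.prodMap.eq_1.{0,0,0,0}
  have := @_root_.RingEquiv.prodComm.eq_1.{0,0}
  have := @_root_.RingEquiv.prodZeroRing.eq_1.{0,0}
  have := @_root_.RingEquiv.prodZeroRing.congr_simp.{0,0}
  have := @_root_.RingHom.prod.eq_1.{0,0,0}
  have := @_root_.NonUnitalRingHom.snd.eq_1.{0,0}
  have := @_root_.NonUnitalRingHom.fst.eq_1.{0,0}
  have := @_root_.RingEquiv.zeroRingProd.eq_1.{0,0}
  have := @_root_.RingEquiv.zeroRingProd.congr_simp.{0,0}
  have := @_root_.RingHom.prodMap.eq_1.{0,0,0,0}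
  have := @_root_.NonUnitalRingHom.prod.eq_1.{0,0,0}
  have := @_root_.RingHom.snd.eq_1.{0,0}
  have := @_root_.Subsemigroup.gciMapComap.congr_simp.{0,0}
  have := @_root_.AddEquiv.subsemigroupCongr.congr_simp.{0}
  have := @_root_.MulEquiv.ofLeftInverse.congr_simp.{0,0}
  have := @_root_.AddSubsemigroup.giMapComap.congr_simp.{0,0}
  have := @_root_.AddSubsemigroup.inclusion.congr_simp.{0}
  have := @_root_.AddSubsemigroup.equivMapOfInjective.congr_simp.{0,0}
  have := @_root_.MulHom.restrict.eq_1.{0,0,0}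
  have := @_root_.Subsemigroup.toAddSubsemigroup.eq_1.{0}
  have := @_root_.Subsemigroup.inclusion.congr_simp.{0}
  have := @_root_.AddHom.codRestrict.congr_simp.{0,0,0}
  have := @_root_.Subsemigroup.equivMapOfInjective.congr_simp.{0,0}
  have := @_root_.AddHom.restrict.eq_1.{0,0,0}
  have := @_root_.MulEquiv.subsemigroupCongr.congr_simp.{0}
  have := @_root_.AddSubsemigroup.toSubsemigroup.eq_1.{0}
  have := @_root_.Subsemigroup.giMapComap.congr_simp.{0,0}
  have := @_root_.AddSubsemigroup.toSubsemigroup'.eq_1.{0}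
  have := @_root_.MulHom.codRestrict.congr_simp.{0,0,0}
  trivial

theorem r8_6 : True := by
  have := @_root_.Subsemigroup.toAddSubsemigroup'.eq_1.{0}
  have := @_root_.AddEquiv.ofLeftInverse.congr_simp.{0,0}
  have := @_root_.AddSubsemigroup.gciMapComap.congr_simp.{0,0}
  have := @_root_.RingHom.restrict.eq_1.{0,0,0,0}
  have := @_root_.Subsemiring.centerToMulOpposite.eq_1.{0}
  have := @_root_.Subsemiring.center.eq_1.{0}
  have := @_root_.Subsemiring.map.eq_1.{0,0}
  have := @_root_.Subsemiring.topEquiv.eq_1.{0}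
  have := @_root_.Subsemiring.comap.eq_1.{0,0}
  have := @_root_.Subsemiring.prod.eq_1.{0,0}
  have := @_root_.RingEquiv.ofLeftInverseS.eq_1.{0,0}
  have := @_root_.RingEquiv.ofLeftInverseS.congr_simp.{0,0}
  have := @_root_.RingEquiv.subsemiringCongr.eq_1.{0}
  have := @_root_.Subsemiring.centralizer.eq_1.{0}
  have := @_root_.RingHom.rangeS.eq_1.{0,0}
  have := @_root_.Subsemiring.gi.eq_1.{0}
  have := @_root_.Subsemiring.equivMapOfInjective.eq_1.{0,0}
  have := @_root_.Subsemiring.equivMapOfInjective.congr_simp.{0,0}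
  have := @_root_.Subsemiring.inclusion.eq_1.{0}
  have := @_root_.Subsemiring.inclusion.congr_simp.{0}
  have := @_root_.RingHom.codRestrict.eq_1.{0,0,0}
  have := @_root_.Subsemiring.closureCommSemiringOfComm.eq_1.{0}
  have := @_root_.Subsemiring.closureCommSemiringOfComm.congr_simp.{0}
  have := @_root_.Subsemiring.center.commSemiring'.eq_1.{0}
  have := @_root_.RingEquiv.subsemiringMap.eq_1.{0,0}
  have := @_root_.RingHom.rangeSRestrict.eq_1.{0,0}
  have := @_root_.Subsemiring.centerCongr.eq_1.{0,0}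
  have := @_root_.Subsemiring.prodEquiv.eq_1.{0,0}
  have := @_root_.Submonoid.subsemiringClosure.eq_1.{0}
  have := @_root_.Subring.map.eq_1.{0,0}
  trivial

theorem r8_7 : True := by
  have := @_root_.Subring.centerToMulOpposite.eq_1.{0}
  have := @_root_.Subring.center.eq_1.{0}
  have := @_root_.RingHom.range.eq_1.{0,0}
  have := @_root_.Subring.closureCommRingOfComm.eq_1.{0}
  have := @_root_.Subring.closureCommRingOfComm.congr_simp.{0}
  have := @_root_.RingEquiv.subringCongr.eq_1.{0}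
  have := @_root_.RingEquiv.subringCongr.congr_simp.{0}
  have := @_root_.Subring.prodEquiv.eq_1.{0,0}
  have := @_root_.Subring.centerCongr.eq_1.{0,0}
  have := @_root_.RingEquiv.restrict.eq_1.{0,0,0,0}
  have := @_root_.Subring.prod.eq_1.{0,0}
  have := @_root_.Subring.centralizer.eq_1.{0}
  have := @_root_.Subring.gi.eq_1.{0}
  have := @_root_.Subring.inclusion.congr_simp.{0}
  have := @_root_.Subring.equivMapOfInjective.eq_1.{0,0}
  have := @_root_.Subring.equivMapOfInjective.congr_simp.{0,0}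
  have := @_root_.Subring.comap.eq_1.{0,0}
  have := @_root_.RingHom.eqLocus.eq_1.{0,0}
  have := @_root_.Subring.topEquiv.eq_1.{0}
  have := @_root_.RingEquiv.ofLeftInverse.eq_1.{0,0}
  have := @_root_.RingEquiv.ofLeftInverse.congr_simp.{0,0}
  have := @_root_.RingEquiv.subringMap.eq_1.{0,0}
  have := @_root_.RingHom.rangeRestrict.eq_1.{0,0}
  have := @_root_.Algebra.semiringToRing.eq_1.{0,0}
  have := @_root_.ULift.algebra'.eq_1.{0,0,0}
  have := @_root_.LinearEquiv.extendScalarsOfSurjective.eq_1.{0,0,0,0}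
  have := @_root_.LinearEquiv.extendScalarsOfSurjective.congr_simp.{0,0,0,0}
  have := @_root_.LinearMap.extendScalarsOfSurjectiveEquiv.eq_1.{0,0,0,0}
  have := @_root_.mulSemiringActionOfSmulDistribClass.eq_1.{0,0,0}
  have := @_root_.mulSemiringActionOfSmulDistribClass.congr_simp.{0,0,0}
  trivial

theorem r8_8 : True := by
  have := @_root_.Invertible.algebraMapOfInvertibleAlgebraMap.eq_1.{0,0,0}
  have := @_root_.Invertible.algebraMapOfInvertibleAlgebraMap.congr_simp.{0,0,0}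
  have := @_root_.LinearMap.extendScalarsOfSurjective.eq_1.{0,0,0,0}
  have := @_root_.LinearMap.extendScalarsOfSurjective.congr_simp.{0,0,0,0}
  have := @_root_.RingHom.commSemiringToCommRing.eq_1.{0,0}
  have := @_root_.AlgHomClass.mk.congr_simp.{0,0,0,0}
  have := @_root_.AlgHom.mk'.eq_1.{0,0,0}
  have := @_root_.AlgHom.id.eq_1.{0,0}
  have := @_root_.RingHom.toNatAlgHom.eq_1.{0,0}
  have := @_root_.IsScalarTower.toAlgHom.eq_1.{0,0,0}
  have := @_root_.RingHom.equivIntAlgHom.eq_1.{0,0}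
  have := @_root_.AlgHom.toRingHom.eq_1.{0,0,0}
  have := @_root_.AlgHom.toLinearMap.eq_1.{0,0,0}
  have := @_root_.AlgHomClass.toAlgHom.eq_1.{0,0,0,0}
  have := @_root_.AlgHom.toEnd.eq_1.{0,0}
  have := @_root_.MulSemiringAction.toAlgHom.eq_1.{0,0,0}
  have := @_root_.AlgHom.toMonoidHom'.eq_1.{0,0,0}
  have := @_root_.RingHom.equivNatAlgHom.eq_1.{0,0}
  have := @_root_.AlgHom.ofLinearMap.eq_1.{0,0,0}
  have := @_root_.RingHom.toIntAlgHom.eq_1.{0,0}
  have := @_root_.AlgHom.toAddMonoidHom'.eq_1.{0,0,0}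
  have := @_root_.AlgHom.comp.eq_1.{0,0,0,0}
  have := @_root_.RingAut.toPerm.eq_1.{0}
  have := @_root_.RingAut.eq_1.{0}
  have := @_root_.RingAut.toMulAut.eq_1.{0}
  have := @_root_.RingAut.toAddAut.eq_1.{0}
  have := @_root_.MulSemiringAction.toRingEquiv.eq_1.{0,0}
  have := @_root_.ULift.algEquiv.eq_1.{0,0,0}
  have := @_root_.AlgEquiv.toLinearMapHom.eq_1.{0,0}
  have := @_root_.AlgEquiv.cast.eq_1.{0,0,0}
  trivial

theorem r8_9 : True := by
  have := @_root_.AlgEquiv.cast.congr_simp.{0,0,0}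
  have := @_root_.RingEquiv.equivIntAlgEquiv.eq_1.{0,0}
  have := @_root_.LinearEquiv.conjAlgEquiv.eq_1.{0,0,0,0}
  have := @_root_.AlgEquiv.toEquiv.eq_1.{0,0,0}
  have := @_root_.AlgEquiv.algHomUnitsEquiv.eq_1.{0,0}
  have := @_root_.AlgEquiv.ofAlgHom.eq_1.{0,0,0}
  have := @_root_.AlgEquiv.arrowCongr.eq_1.{0,0,0,0,0}
  have := @_root_.AlgEquiv.symm.eq_1.{0,0,0}
  have := @_root_.AlgEquivClass.toAlgEquiv.eq_1.{0,0,0,0}
  have := @_root_.RingEquiv.equivNatAlgEquiv.eq_1.{0,0}
  have := @_root_.AlgEquiv.ofRingEquiv.eq_1.{0,0,0}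
  have := @_root_.AlgEquiv.toAlgHomHom.eq_1.{0,0}
  have := @_root_.AlgEquiv.ofLinearEquiv.eq_1.{0,0,0}
  have := @_root_.AlgEquiv.toMulEquiv.eq_1.{0,0,0}
  have := @_root_.AlgEquiv.trans.eq_1.{0,0,0,0}
  have := @_root_.AlgEquivClass.mk.congr_simp.{0,0,0,0}
  have := @_root_.RingEquiv.toNatAlgEquiv.eq_1.{0,0}
  have := @_root_.RingEquiv.toIntAlgEquiv.eq_1.{0,0}
  have := @_root_.AlgEquiv.toRingEquiv.eq_1.{0,0,0}
  have := @_root_.AlgEquiv.ofBijective.eq_1.{0,0,0}
  have := @_root_.LinearEquiv.algEquivOfRing.eq_1.{0,0}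
  have := @_root_.AlgEquiv.equivCongr.eq_1.{0,0,0,0,0}
  have := @_root_.AlgEquiv.autCongr.eq_1.{0,0,0}
  have := @_root_.AlgEquiv.toAddEquiv.eq_1.{0,0,0}
  have := @_root_.MulSemiringAction.toAlgAut.eq_1.{0,0,0}
  have := @_root_.AlgHom.ulift.eq_1.{0,0,0,0,0,0}
  have := @_root_.AlgEquiv.toAlgHom.eq_1.{0,0,0}
  have := @_root_.AlgEquiv.refl.eq_1.{0,0}
  have := @_root_.AlgEquiv.toLinearEquiv.eq_1.{0,0,0}
  have := @_root_.MulSemiringAction.toAlgEquiv.eq_1.{0,0,0}
  trivial

theorem r8_10 : True := by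
  have := @_root_.AddIrreducible.mk.congr_simp.{0}
  have := @_root_.Irreducible.mk.congr_simp.{0}
  have := @_root_.Associates.eq_1.{0}
  have := @_root_.Associates.mk.eq_1.{0}
  have := @_root_.Associates.mkMonoidHom.eq_1.{0}
  have := @_root_.nonZeroDivisorsEquivUnits.eq_1.{0}
  have := @_root_.associatesNonZeroDivisorsEquiv.eq_1.{0}
  have := @_root_.nonZeroSMulDivisors.eq_1.{0,0}
  have := @_root_.nonZeroDivisorsRight.eq_1.{0}
  have := @_root_.nonZeroDivisorsLeft.eq_1.{0}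
  have := @_root_.unitsNonZeroDivisorsEquiv.eq_1.{0}
  have := @_root_.LinearMap.range.eq_1.{0,0,0,0}
  have := @_root_.LinearMap.iterateRange.eq_1.{0,0}
  have := @_root_.Submodule.MapSubtype.orderEmbedding.eq_1.{0,0}
  have := @_root_.Submodule.mapIic.eq_1.{0,0}
  have := @_root_.LinearMap.rangeRestrict.eq_1.{0,0,0,0}
  have := @_root_.LinearEquiv.ofBijective.eq_1.{0,0,0,0}
  have := @_root_.LinearEquiv.ofSubmodule'.eq_1.{0,0,0,0}
  have := @_root_.LinearEquiv.ofLeftInverse.eq_1.{0,0,0,0}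
  have := @_root_.LinearEquiv.ofLeftInverse.congr_simp.{0,0,0,0}
  have := @_root_.Submodule.equivSubtypeMap.eq_1.{0,0}
  have := @_root_.LinearEquiv.ofSubmodules.eq_1.{0,0,0,0}
  have := @_root_.LinearEquiv.ofSubmodules.congr_simp.{0,0,0,0}
  have := @_root_.LinearEquiv.ofEq.eq_1.{0,0}
  have := @_root_.Submodule.comap_equiv_self_of_inj_of_le.eq_1.{0,0,0}
  have := @_root_.Submodule.comap_equiv_self_of_inj_of_le.congr_simp.{0,0,0}
  have := @_root_.LinearEquiv.ofInjective.eq_1.{0,0,0,0}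
  have := @_root_.LinearEquiv.ofTop.eq_1.{0,0}
  have := @_root_.Set.distribMulActionSet.eq_1.{0,0}
  have := @_root_.Set.distribSMulSet.eq_1.{0,0}
  trivial

theorem r8_11 : True := by
  have := @_root_.Set.mulDistribMulActionSet.eq_1.{0,0}
  have := @_root_.Set.smulZeroClassSet.eq_1.{0,0}
  have := @_root_.AddSubmonoid.pointwiseMulAction.eq_1.{0,0}
  have := @_root_.AddSubgroup.pointwiseMulAction.eq_1.{0,0}
  have := @_root_.Submodule.pointwiseNeg.eq_1.{0,0}
  have := @_root_.Submodule.pointwiseDistribMulAction.eq_1.{0,0,0}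
  have := @_root_.Submodule.pointwiseDistribMulAction.congr_simp.{0,0,0}
  have := @_root_.Submodule.involutivePointwiseNeg.eq_1.{0,0}
  have := @_root_.Submodule.pointwiseMulActionWithZero.eq_1.{0,0,0}
  have := @_root_.Submodule.pointwiseMulActionWithZero.congr_simp.{0,0,0}
  have := @_root_.Submodule.pointwiseSetSMul.eq_1.{0,0,0}
  have := @_root_.Submodule.negOrderIso.eq_1.{0,0}
  have := @_root_.Module.IsPrincipal.eq_1.{0,0}
  have := @_root_.Submodule.IsPrincipal.mk.congr_simp.{0,0}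
  have := @_root_.Submodule.span.eq_1.{0,0}
  have := @_root_.Submodule.IsPrincipal.generator.eq_1.{0,0}
  have := @_root_.Submodule.gi.eq_1.{0,0}
  have := @_root_.IsStronglyAtomic.mk.congr_simp.{0}
  have := @_root_.IsSimpleOrder.booleanAlgebra.eq_1.{0}
  have := @_root_.IsSimpleOrder.booleanAlgebra.congr_simp.{0}
  have := @_root_.IsSimpleOrder.lattice.eq_1.{0}
  have := @_root_.IsSimpleOrder.lattice.congr_simp.{0}
  have := @_root_.IsSimpleOrder.linearOrder.eq_1.{0}
  have := @_root_.IsSimpleOrder.linearOrder.congr_simp.{0}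
  have := @_root_.IsSimpleOrder.completeLattice.eq_1.{0}
  have := @_root_.IsSimpleOrder.completeLattice.congr_simp.{0}
  have := @_root_.IsSimpleOrder.distribLattice.eq_1.{0}
  have := @_root_.IsSimpleOrder.distribLattice.congr_simp.{0}
  have := @_root_.IsCoatomistic.mk.congr_simp.{0}
  have := @_root_.CompleteAtomicBooleanAlgebra.toSetOfIsAtom.eq_1.{0}
  trivial

theorem r8_12 : True := by
  have := @_root_.IsAtomic.mk.congr_simp.{0}
  have := @_root_.IsSimpleOrder.completeBooleanAlgebra.eq_1.{0}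
  have := @_root_.IsSimpleOrder.completeBooleanAlgebra.congr_simp.{0}
  have := @_root_.IsSimpleOrder.preorder.eq_1.{0}
  have := @_root_.IsSimpleOrder.preorder.congr_simp.{0}
  have := @_root_.IsStronglyCoatomic.mk.congr_simp.{0}
  have := @_root_.IsSimpleOrder.mk.congr_simp.{0}
  have := @_root_.IsAtomistic.mk.congr_simp.{0}
  have := @_root_.IsCoatomic.mk.congr_simp.{0}
  have := @_root_.IsSimpleOrder.equivBool.eq_1.{0}
  have := @_root_.CompleteBooleanAlgebra.toCompleteAtomicBooleanAlgebra.eq_1.{0}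
  have := @_root_.CompleteBooleanAlgebra.toCompleteAtomicBooleanAlgebra.congr_simp.{0}
  have := @_root_.IsSimpleOrder.orderIsoBool.eq_1.{0}
  have := @_root_.IsSimpleOrder.orderIsoBool.congr_simp.{0}
  have := @_root_.LinearMap.eqLocus.eq_1.{0,0,0,0}
  have := @_root_.LinearEquiv.coord.eq_1.{0,0}
  have := @_root_.LinearMap.toSpanSingleton.eq_1.{0,0}
  have := @_root_.Submodule.inclusionSpan.eq_1.{0,0,0}
  have := @_root_.Submodule.prod.eq_1.{0,0,0}
  have := @_root_.LinearEquiv.toSpanNonzeroSingleton.eq_1.{0,0}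
  have := @_root_.Submodule.orderIsoOfAlgebraMapSurjective.eq_1.{0,0,0}
  have := @_root_.Submodule.orderIsoOfAlgebraMapSurjective.congr_simp.{0,0,0}
  have := @_root_.AlgHom.restrictScalars.eq_1.{0,0,0,0}
  have := @_root_.AlgEquiv.extendScalarsOfSurjective.eq_1.{0,0,0,0}
  have := @_root_.AlgEquiv.extendScalarsOfSurjective.congr_simp.{0,0,0,0}
  have := @_root_.AlgEquiv.extendScalarsHomOfSurjective.eq_1.{0,0,0}
  have := @_root_.AlgEquiv.extendScalarsHomOfSurjective.congr_simp.{0,0,0}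
  have := @_root_.AlgHom.extendScalarsHomOfSurjective.eq_1.{0,0,0}
  have := @_root_.AlgHom.extendScalarsHomOfSurjective.congr_simp.{0,0,0}
  have := @_root_.AlgHom.extendScalarsOfSurjective.eq_1.{0,0,0,0}
  trivial

theorem r8_13 : True := by
  have := @_root_.AlgHom.extendScalarsOfSurjective.congr_simp.{0,0,0,0}
  have := @_root_.AlgEquiv.restrictScalarsHom.eq_1.{0,0,0}
  have := @_root_.AlgEquiv.restrictScalarsHom.congr_simp.{0,0,0}
  have := @_root_.AlgEquiv.restrictScalars.eq_1.{0,0,0,0}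
  have := @_root_.IsZeroApply.mk.congr_simp.{0,0,0}
  have := @_root_.IsMulApplyEqComp.mk.congr_simp.{0,0}
  have := @_root_.IsInvApply.mk.congr_simp.{0,0,0}
  have := @_root_.IsNatCastApply.mk.congr_simp.{0,0}
  have := @_root_.IsOneApply.mk.congr_simp.{0,0,0}
  have := @_root_.IsIntCastApply.mk.congr_simp.{0,0}
  have := @_root_.IsMulApply.mk.congr_simp.{0,0,0}
  have := @_root_.IsVAddApply.mk.congr_simp.{0,0,0,0}
  have := @_root_.IsOneApplyEqSelf.mk.congr_simp.{0,0}
  have := @_root_.IsNegApply.mk.congr_simp.{0,0,0}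
  have := @_root_.IsSMulApply.mk.congr_simp.{0,0,0,0}
  have := @_root_.IsPowApply.mk.congr_simp.{0,0,0,0}
  have := @_root_.IsSubApply.mk.congr_simp.{0,0,0}
  have := @_root_.IsDivApply.mk.congr_simp.{0,0,0}
  have := @_root_.IsAddApply.mk.congr_simp.{0,0,0}
  have := @_root_.Multiset.antidiagonal.eq_1.{0}
  have := @_root_.Multiset.Sections.eq_1.{0}
  have := @_root_.Multiset.find?.eq_1.{0}
  have := @_root_.Finsupp.zipWith.eq_1.{0,0,0,0}
  have := @_root_.Finsupp.ofSupportFinite.eq_1.{0,0}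
  have := @_root_.Finsupp.mapRange.equiv.eq_1.{0,0,0}
  have := @_root_.Finsupp.toFun.eq_1.{0,0}
  have := @_root_.Finsupp.onFinsetSupport.eq_1.{0,0}
  have := @_root_.Finsupp.onFinset.eq_1.{0,0}
  have := @_root_.Finsupp.mapRange.eq_1.{0,0,0}
  have := @_root_.Finsupp.support.eq_1.{0,0}
  trivial

theorem r8_14 : True := by
  have := @_root_.Finsupp.uniqueEquiv.eq_1.{0,0}
  have := @_root_.Equiv.finsuppUnique.eq_1.{0,0}
  have := @_root_.Finsupp.addEquivFunOnFinite.eq_1.{0,0}
  have := @_root_.Finsupp.addEquivFunOnFinite.congr_simp.{0,0}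
  have := @_root_.Finsupp.embDomain.addMonoidHom.eq_1.{0,0,0}
  have := @_root_.Finsupp.mapRange.addMonoidHom.eq_1.{0,0,0}
  have := @_root_.Finsupp.uniqueAddEquiv.eq_1.{0,0}
  have := @_root_.Finsupp.mapRange.addEquiv.eq_1.{0,0,0}
  have := @_root_.Finsupp.mapRange.zeroHom.eq_1.{0,0,0}
  have := @_root_.Finsupp.applyAddHom.eq_1.{0,0}
  have := @_root_.Finsupp.coeFnAddHom.eq_1.{0,0}
  have := @_root_.Finsupp.eraseAddHom.eq_1.{0,0}
  have := @_root_.Finsupp.liftAddHom.eq_1.{0,0,0}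
  have := @_root_.Finsupp.finsuppProdEquiv.eq_1.{0,0,0}
  have := @_root_.Finsupp.subtypeDomainAddMonoidHom.eq_1.{0,0}
  have := @_root_.Finsupp.splitComp.eq_1.{0,0,0,0}
  have := @_root_.Finsupp.splitComp.congr_simp.{0,0,0,0}
  have := @_root_.Finsupp.extendDomain.eq_1.{0,0}
  have := @_root_.Finsupp.curry.eq_1.{0,0,0}
  have := @_root_.Finsupp.domCongr.eq_1.{0,0,0}
  have := @_root_.Finsupp.curryAddEquiv.eq_1.{0,0,0}
  have := @_root_.Finsupp.sigmaFinsuppAddEquivPiFinsupp.eq_1.{0,0,0}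
  have := @_root_.Finsupp.filter.eq_1.{0,0}
  have := @_root_.Finsupp.piecewise.eq_1.{0,0}
  have := @_root_.Finsupp.piecewise.congr_simp.{0,0}
  have := @_root_.Finsupp.sumElim.eq_1.{0,0,0}
  have := @_root_.Finsupp.subtypeDomain.eq_1.{0,0}
  have := @_root_.Finsupp.filterAddHom.eq_1.{0,0}
  have := @_root_.Finsupp.filterAddHom.congr_simp.{0,0}
  have := @_root_.Finsupp.sigmaFinsuppEquivPiFinsupp.eq_1.{0,0,0}
  trivial

theorem r8_15 : True := by
  have := @_root_.Finsupp.mapDomainEmbedding.eq_1.{0,0}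
  have := @_root_.Finsupp.equivCongrLeft.eq_1.{0,0,0}
  have := @_root_.Finsupp.comapDomain.addMonoidHom.eq_1.{0,0,0}
  have := @_root_.Finsupp.some.eq_1.{0,0}
  have := @_root_.Finsupp.optionEquiv.eq_1.{0,0}
  have := @_root_.Finsupp.comapSMul.eq_1.{0,0,0}
  have := @_root_.Finsupp.comapMulAction.eq_1.{0,0,0}
  have := @_root_.Finsupp.DistribMulActionHom.single.eq_1.{0,0,0}
  have := @_root_.Finsupp.comapDistribMulAction.eq_1.{0,0,0}
  have := @_root_.Finsupp.lsubtypeDomain.eq_1.{0,0,0}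
  trivial

end CL.BaseAux
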