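import Cfsg.Agent.Base.Imports

/-! On-demand lemmas of Prelude and Mathlib definitions, produced once here so that no other file holds a copy. -/

set_option linter.all false

namespace CL.BaseAux

theorem r9_0 : True := by
  have := @_root_.Finsupp.lcomapDomain.eq_1.{0,0,0,0}
  have := @_root_.Module.subsingletonEquiv.eq_1.{0,0,0}
  have := @_root_.Finsupp.lmapDomain.eq_1.{0,0,0,0}
  have := @_root_.Finsupp.finsuppProdLEquiv.eq_1.{0,0,0,0}
  have := @_root_.Module.End.ringEquivEndFinsupp.eq_1.{0,0,0}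
  have := @_root_.Finsupp.mapRange.linearMap.eq_1.{0,0,0,0,0}
  have := @_root_.Finsupp.lapply.eq_1.{0,0,0}
  have := @_root_.Module.End.ringHomEndFinsupp.eq_1.{0,0,0}
  have := @_root_.Finsupp.mapDomain.linearEquiv.eq_1.{0,0,0,0}
  have := @_root_.Finsupp.mapRange.linearEquiv.eq_1.{0,0,0,0,0}
  have := @_root_.Finsupp.domLCongr.eq_1.{0,0,0,0}
  have := @_root_.Finsupp.lift.eq_1.{0,0,0}
  have := @_root_.Finsupp.llift.eq_1.{0,0,0,0}
  have := @_root_.Finsupp.lsum.eq_1.{0,0,0,0,0,0}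
  have := @_root_.LinearMap.splittingOfFinsuppSurjective.eq_1.{0,0,0}
  have := @_root_.LinearMap.splittingOfFinsuppSurjective.congr_simp.{0,0,0}
  have := @_root_.Finsupp.restrictDom.eq_1.{0,0,0}
  have := @_root_.Finsupp.supported.eq_1.{0,0,0}
  have := @_root_.Finsupp.congr.eq_1.{0,0,0,0}
  have := @_root_.Finsupp.supportedEquivFinsupp.eq_1.{0,0,0}
  have := @_root_.Finsupp.bilinearCombination.eq_1.{0,0,0,0}
  have := @_root_.Module.fintypeOfFintype.eq_1.{0,0,0}
  have := @_root_.Module.Basis.constr.eq_1.{0,0,0,0,0}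
  have := @_root_.Module.Basis.equiv'.eq_1.{0,0,0,0,0}
  have := @_root_.Module.Basis.equiv'.congr_simp.{0,0,0,0,0}
  have := @_root_.Module.Basis.mapCoeffs.eq_1.{0,0,0,0}
  have := @_root_.Finset.attachFin.eq_1
  have := @_root_.Matrix.cons_val.eq_1
  have := @_root_.Matrix.vecNotation.eq_1
  have := @_root_.PiFin.mkLiteralQ.eq_1
  trivial

theorem r9_1 : True := by
  have := @_root_.Fin.castLEquiv.eq_1
  have := @_root_.Fin.castLEquiv.congr_simp
  have := @_root_.finTwoArrowEquiv.eq_1.{0}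
  have := @_root_.Equiv.embeddingFinSucc.eq_1.{0}
  have := @_root_.Int.divModEquiv.eq_1
  have := @_root_.Int.divModEquiv.congr_simp
  have := @_root_.prodEquivPiFinTwo.eq_1.{0}
  have := @_root_.Nat.divModEquiv.eq_1
  have := @_root_.Fin.succFunEquiv.eq_1.{0}
  have := @_root_.finSumNatEquiv.eq_1
  have := @_root_.finSumFinEquiv.eq_1
  have := @_root_.finSuccEquiv.eq_1
  have := @_root_.finPiFinEquiv.eq_1
  have := @_root_.finFunctionFinEquiv.eq_1
  have := @_root_.LinearIndependent.linearCombinationEquiv.eq_1.{0,0,0}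
  have := @_root_.LinearIndependent.Maximal.eq_1.{0,0,0}
  have := @_root_.LinearIndependent.Maximal.congr_simp.{0,0,0}
  have := @_root_.Fin.instAddMonoidWithOne.eq_1
  have := @_root_.Fin.instAddMonoidWithOne.congr_simp
  have := @_root_.finRotate.eq_def
  have := @_root_.finRotate.eq_1
  have := @_root_.finCycle.eq_1
  have := @_root_.Module.Basis.empty.eq_1.{0,0,0}
  have := @_root_.Module.Basis.mk.eq_1.{0,0,0}
  have := @_root_.AddCommGroup.ModEq.eq_1.{0}
  have := @_root_.Nat.chineseRemainder.eq_1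
  have := @_root_.Nat.chineseRemainder'.eq_1
  have := @_root_.Nat.chineseRemainder'.congr_simp
  have := @_root_.ZMod.eq_def
  have := @_root_.Fin.instCommRing.eq_1
  trivial

theorem r9_2 : True := by
  have := @_root_.Fin.instCommRing.congr_simp
  have := @_root_.Nat.equivFinOfCardPos.eq_1.{0}
  have := @_root_.Nat.equivFinOfCardPos.congr_simp.{0}
  have := @_root_.Subgroup.quotientSubgroupOfEmbeddingOfLE.congr_simp.{0}
  have := @_root_.AddSubgroup.quotientAddSubgroupOfMapOfLE.congr_simp.{0}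
  have := @_root_.AddSubgroup.quotientEquivProdOfLE'.congr_simp.{0}
  have := @_root_.Subgroup.quotientEquivProdOfLE.congr_simp.{0}
  have := @_root_.AddMonoidHom.fiberEquivOfSurjective.congr_simp.{0,0}
  have := @_root_.AddSubgroup.quotientEquivProdOfLE.congr_simp.{0}
  have := @_root_.MonoidHom.fiberEquivOfSurjective.congr_simp.{0,0}
  have := @_root_.AddMonoidHom.fiberEquivKerOfSurjective.congr_simp.{0,0}
  have := @_root_.Subgroup.quotientEquivProdOfLE'.congr_simp.{0}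
  have := @_root_.MonoidHom.fiberEquivKerOfSurjective.congr_simp.{0,0}
  have := @_root_.AddSubgroup.quotientAddSubgroupOfEmbeddingOfLE.congr_simp.{0}
  have := @_root_.AddSubgroup.quotientMapOfLE.congr_simp.{0}
  have := @_root_.QuotientGroup.quotientKerEquivOfSurjective.congr_simp.{0,0}
  have := @_root_.QuotientAddGroup.quotientMapAddSubgroupOfOfLe.congr_simp.{0}
  have := @_root_.QuotientGroup.equivQuotientSubgroupOfOfEq.congr_simp.{0}
  have := @_root_.QuotientAddGroup.quotientQuotientEquivQuotient.congr_simp.{0}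
  have := @_root_.QuotientAddGroup.quotientKerEquivOfRightInverse.congr_simp.{0,0}
  have := @_root_.QuotientAddGroup.equivQuotientAddSubgroupOfOfEq.congr_simp.{0}
  have := @_root_.QuotientGroup.quotientMapSubgroupOfOfLe.congr_simp.{0}
  have := @_root_.QuotientAddGroup.quotientAddEquivOfEq.congr_simp.{0}
  have := @_root_.QuotientGroup.quotientKerEquivOfRightInverse.congr_simp.{0,0}
  have := @_root_.AddMonoidHom.restrictHomKerEquiv.eq_1.{0,0}
  have := @_root_.MonoidHom.restrictHomKerEquiv.eq_1.{0,0}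
  have := @_root_.QuotientAddGroup.quotientKerEquivOfSurjective.congr_simp.{0,0}
  have := @_root_.AddGroup.fintypeOfKerLeRange.congr_simp.{0,0,0}
  have := @_root_.Group.fintypeOfKerLeRange.congr_simp.{0,0,0}
  have := @_root_.AddGroup.fintypeOfKerEqRange.congr_simp.{0,0,0}
  trivial

theorem r9_3 : True := by
  have := @_root_.Group.fintypeOfDomOfCoker.congr_simp.{0,0}
  have := @_root_.Group.fintypeOfKerEqRange.congr_simp.{0,0,0}
  have := @_root_.AddGroup.fintypeOfDomOfCoker.congr_simp.{0,0}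
  have := @_root_.AlgHom.prod.eq_1.{0,0,0,0}
  have := @_root_.AlgEquiv.prodUnique.eq_1.{0,0,0}
  have := @_root_.AlgHom.fst.eq_1.{0,0,0}
  have := @_root_.AlgHom.snd.eq_1.{0,0,0}
  have := @_root_.AlgEquiv.prodCongr.eq_1.{0,0,0,0,0}
  have := @_root_.AlgEquiv.uniqueProd.eq_1.{0,0,0}
  have := @_root_.AlgHom.prodMap.eq_1.{0,0,0,0,0}
  have := @_root_.AlgHom.prodEquiv.eq_1.{0,0,0,0}
  have := @_root_.LinearMap.kerComplementEquivRange.eq_1.{0,0,0}
  have := @_root_.LinearMap.kerComplementEquivRange.congr_simp.{0,0,0}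
  have := @_root_.LinearMap.graph.eq_1.{0,0,0}
  have := @_root_.LinearEquiv.uniqueProd.eq_1.{0,0,0}
  have := @_root_.LinearMap.prodMapAlgHom.eq_1.{0,0,0}
  have := @_root_.LinearEquiv.skewSwap.eq_1.{0,0,0}
  have := @_root_.LinearEquiv.skewProd.eq_1.{0,0,0,0,0}
  have := @_root_.LinearMap.prod.eq_1.{0,0,0,0}
  have := @_root_.LinearMap.inr.eq_1.{0,0,0}
  have := @_root_.LinearEquiv.prodAssoc.eq_1.{0,0,0,0}
  have := @_root_.LinearMap.prodMapRingHom.eq_1.{0,0,0}
  have := @_root_.LinearMap.snd.eq_1.{0,0,0}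
  have := @_root_.LinearMap.prodMapLinear.eq_1.{0,0,0,0,0,0}
  have := @_root_.LinearEquiv.prodProdProdComm.eq_1.{0,0,0,0,0}
  have := @_root_.LinearEquiv.prodComm.eq_1.{0,0,0}
  have := @_root_.LinearMap.prodEquiv.eq_1.{0,0,0,0,0}
  have := @_root_.LinearMap.coprodEquiv.eq_1.{0,0,0,0,0}
  have := @_root_.LinearMap.inl.eq_1.{0,0,0}
  have := @_root_.Submodule.sndEquiv.eq_1.{0,0,0}
  trivial

theorem r9_4 : True := by
  have := @_root_.LinearEquiv.prodCongr.eq_1.{0,0,0,0,0}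
  have := @_root_.Submodule.fstEquiv.eq_1.{0,0,0}
  have := @_root_.LinearMap.coprod.eq_1.{0,0,0,0}
  have := @_root_.LinearMap.prodMap.eq_1.{0,0,0,0,0}
  have := @_root_.LinearEquiv.prodUnique.eq_1.{0,0,0}
  have := @_root_.LinearMap.fst.eq_1.{0,0,0}
  have := @_root_.LinearMap.proj.eq_1.{0,0,0}
  have := @_root_.LinearEquiv.piCongrLeft'.eq_1.{0,0,0,0}
  have := @_root_.Fin.consLinearEquiv.eq_1.{0,0}
  have := @_root_.Submodule.pi.eq_1.{0,0,0}
  have := @_root_.LinearEquiv.sumArrowLequivProdArrow.eq_1.{0,0,0,0}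
  have := @_root_.LinearMap.const.eq_1.{0,0,0}
  have := @_root_.LinearMap.diag.congr_simp.{0,0,0}
  have := @_root_.LinearEquiv.piFinTwo.eq_1.{0,0}
  have := @_root_.LinearMap.vecCons.eq_1.{0,0,0}
  have := @_root_.LinearMap.vecEmpty₂.eq_1.{0,0,0,0}
  have := @_root_.LinearMap.lsum.eq_1.{0,0,0,0,0}
  have := @_root_.LinearEquiv.piCurry.eq_1.{0,0,0,0}
  have := @_root_.LinearMap.piMap.eq_1.{0,0,0,0}
  have := @_root_.LinearEquiv.funUnique.eq_1.{0,0,0}
  have := @_root_.LinearEquiv.piOptionEquivProd.eq_1.{0,0,0}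
  have := @_root_.LinearEquiv.linearMapPi.eq_1.{0,0,0,0,0}
  have := @_root_.LinearMap.vecCons₂.eq_1.{0,0,0,0}
  have := @_root_.LinearMap.vecEmpty.eq_1.{0,0,0}
  have := @_root_.Function.ExtendByZero.linearMap.eq_1.{0,0,0}
  have := @_root_.LinearEquiv.piCongrLeft.eq_1.{0,0,0,0}
  have := @_root_.LinearMap.iInfKerProjEquiv.eq_1.{0,0,0}
  have := @_root_.LinearMap.iInfKerProjEquiv.congr_simp.{0,0,0}
  have := @_root_.Submodule.Quotient.mk.eq_1.{0,0}
  have := @_root_.Submodule.quotEquivOfEq.eq_1.{0,0}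
  trivial

theorem r9_5 : True := by
  have := @_root_.Submodule.comapMkQRelIso.eq_1.{0,0}
  have := @_root_.Submodule.quotEquivOfEqBot.eq_1.{0,0}
  have := @_root_.Submodule.quotEquivOfEqBot.congr_simp.{0,0}
  have := @_root_.Submodule.mapQLinear.eq_1.{0,0,0}
  have := @_root_.Submodule.comapMkQOrderEmbedding.eq_1.{0,0}
  have := @_root_.Submodule.Quotient.restrictScalarsEquiv.eq_1.{0,0,0}
  have := @_root_.Submodule.liftQSpanSingleton.eq_1.{0,0,0,0}
  have := @_root_.Submodule.liftQ.eq_1.{0,0,0,0}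
  have := @_root_.Submodule.Quotient.equiv.eq_1.{0,0,0,0}
  have := @_root_.Con.ofSubmonoid.congr_simp.{0}
  have := @_root_.AddCon.quotientKerEquivOfRightInverse.congr_simp.{0,0}
  have := @_root_.Con.quotientKerEquivOfSurjective.congr_simp.{0,0}
  have := @_root_.Con.congr.congr_simp.{0,0}
  have := @_root_.AddCon.comapQuotientEquivOfSurj.congr_simp.{0,0}
  have := @_root_.AddCon.ofAddSubmonoid.congr_simp.{0}
  have := @_root_.Con.comapQuotientEquivOfSurj.congr_simp.{0,0}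
  have := @_root_.AddCon.congr.congr_simp.{0,0}
  have := @_root_.AddCon.quotientKerEquivOfSurjective.congr_simp.{0,0}
  have := @_root_.Con.quotientKerEquivOfRightInverse.congr_simp.{0,0}
  have := @_root_.IsField.toField.eq_1.{0}
  have := @_root_.IsField.toField.congr_simp.{0}
  have := @_root_.IsField.mk.congr_simp.{0}
  have := @_root_.IsField.toSemifield.eq_1.{0}
  have := @_root_.IsField.toSemifield.congr_simp.{0}
  have := @_root_.Fintype.toCompleteLattice.eq_1.{0}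
  have := @_root_.Fintype.toOrderTop.eq_1.{0}
  have := @_root_.Fintype.toOrderTop.congr_simp.{0}
  have := @_root_.Fintype.toOrderBot.eq_1.{0}
  have := @_root_.Fintype.toCompleteLatticeOfNonempty.eq_1.{0}
  have := @_root_.Fintype.toCompleteLatticeOfNonempty.congr_simp.{0}
  trivial

theorem r9_6 : True := by
  have := @_root_.Fintype.toCompleteAtomicBooleanAlgebra.eq_1.{0}
  have := @_root_.Fintype.toCompleteLinearOrder.eq_1.{0}
  have := @_root_.Fintype.toCompleteBooleanAlgebra.eq_1.{0}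
  have := @_root_.Fintype.toCompleteDistribLattice.eq_1.{0}
  have := @_root_.Fintype.toBoundedOrder.eq_1.{0}
  have := @_root_.Fintype.toBoundedOrder.congr_simp.{0}
  have := @_root_.Fintype.toCompleteLinearOrderOfNonempty.eq_1.{0}
  have := @_root_.Fintype.toCompleteLinearOrderOfNonempty.congr_simp.{0}
  have := @_root_.Finset.Nat.antidiagonalEquivFin.eq_1
  have := @_root_.Ideal.IsTwoSided.mk.congr_simp.{0}
  have := @_root_.Ideal.inertia.eq_1.{0,0}
  have := @_root_.Ideal.eq_1.{0}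
  have := @_root_.Ideal.IsPrime.mk.congr_simp.{0}
  have := @_root_.Ideal.ofRel.eq_1.{0}
  have := @_root_.IsPrincipalIdealRing.mk.congr_simp.{0}
  have := @_root_.Ideal.IsMaximal.mk.congr_simp.{0}
  have := @_root_.Ideal.pi.eq_1.{0,0}
  have := @_root_.Ideal.equivFinTwo.eq_1.{0}
  have := @_root_.Ideal.Quotient.ringCon.eq_1.{0}
  have := @_root_.Ideal.Quotient.ringCon.congr_simp.{0}
  have := @_root_.Ideal.Quotient.lift.eq_1.{0,0}
  have := @_root_.Ideal.quotEquivOfEq.eq_1.{0}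
  have := @_root_.Ideal.Quotient.mk.eq_1.{0}
  have := @_root_.Ideal.Quotient.groupWithZero.eq_1.{0}
  have := @_root_.Ideal.Quotient.groupWithZero.congr_simp.{0}
  have := @_root_.Ideal.Quotient.divisionRing.eq_1.{0}
  have := @_root_.Ideal.Quotient.divisionRing.congr_simp.{0}
  have := @_root_.Ideal.Quotient.field.eq_1.{0}
  have := @_root_.Ideal.Quotient.field.congr_simp.{0}
  have := @_root_.Ideal.piQuotEquiv.eq_1.{0,0}
  trivial

theorem r9_7 : True := by
  have := @_root_.FunOnFinite.linearMap.eq_1.{0,0,0,0}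
  have := @_root_.Finsupp.submodule.eq_1.{0,0,0}
  have := @_root_.Finsupp.uniqueLinearEquiv.eq_1.{0,0,0}
  have := @_root_.LinearMap.splittingOfFunOnFintypeSurjective.eq_1.{0,0,0}
  have := @_root_.LinearMap.splittingOfFunOnFintypeSurjective.congr_simp.{0,0,0}
  have := @_root_.LibraryNote.instance_transfer_via_equivalence.eq_1
  have := @_root_.Equiv.mulDistribMulAction.eq_1.{0,0,0}
  have := @_root_.Equiv.mulActionWithZero.eq_1.{0,0,0}
  have := @_root_.Equiv.smulWithZero.eq_1.{0,0,0}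
  have := @_root_.Equiv.smulZeroClass.eq_1.{0,0,0}
  have := @_root_.Equiv.distribSMul.eq_1.{0,0,0}
  have := @_root_.Equiv.distribMulAction.eq_1.{0,0,0}
  have := @_root_.Equiv.module.eq_1.{0,0,0}
  have := @_root_.AddEquiv.module.eq_1.{0,0,0}
  have := @_root_.Equiv.linearEquiv.eq_1.{0,0,0}
  have := @_root_.AddEquiv.linearEquiv.eq_1.{0,0,0}
  have := @_root_.Shrink.linearEquiv.eq_1.{0,0,0}
  have := @_root_.ModuleCon.Quotient.eq_1.{0,0}
  have := @_root_.VAddCon.mk.congr_simp.{0,0}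
  have := @_root_.ModuleCon.ker.eq_1.{0,0,0,0}
  have := @_root_.SMulCon.addConGen'.eq_1.{0,0}
  have := @_root_.SMulCon.addConGen'.congr_simp.{0,0}
  have := @_root_.SMulCon.addConGen.eq_1.{0,0}
  have := @_root_.ModuleCon.toAddCon.eq_1.{0,0}
  have := @_root_.VAddCon.toSetoid.eq_1.{0,0}
  have := @_root_.ModuleCon.mk.congr_simp.{0,0}
  have := @_root_.SMulCon.mk.congr_simp.{0,0}
  have := @_root_.ModuleCon.quotientKerEquivOfSurjective.eq_1.{0,0,0}
  have := @_root_.ModuleCon.quotientKerEquivOfSurjective.congr_simp.{0,0,0}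
  have := @_root_.SMulCon.toSetoid.eq_1.{0,0}
  trivial

theorem r9_8 : True := by
  have := @_root_.ModuleCon.toSMulCon.eq_1.{0,0}
  have := @_root_.List.Pi.tail.eq_1.{0,0}
  have := @_root_.List.Pi.head.eq_1.{0,0}
  have := @_root_.List.Pi.cons.eq_1.{0,0}
  have := @_root_.List.pi.eq_def.{0,0}
  have := @_root_.List.pi.eq_1.{0,0}
  have := @_root_.Quotient.finLiftOn.eq_1.{0,0,0}
  have := @_root_.Quotient.finLiftOn.congr_simp.{0,0,0}
  have := @_root_.Quotient.finChoiceEquiv.eq_1.{0,0}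
  have := @_root_.Quotient.listChoice.eq_1.{0,0}
  have := @_root_.Quotient.finHRecOn.eq_1.{0,0,0}
  have := @_root_.Trunc.finRecOn.eq_1.{0,0,0}
  have := @_root_.Trunc.finRecOn.congr_simp.{0,0,0}
  have := @_root_.Trunc.finChoice.eq_1.{0,0}
  have := @_root_.Quotient.finRecOn.eq_1.{0,0,0}
  have := @_root_.Quotient.finChoice.eq_1.{0,0}
  have := @_root_.Trunc.finLiftOn.eq_1.{0,0,0}
  have := @_root_.Trunc.finLiftOn.congr_simp.{0,0,0}
  have := @_root_.Trunc.finChoiceEquiv.eq_1.{0,0}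
  have := @_root_.sigmaFinsuppAddEquivDFinsupp.eq_1.{0,0,0}
  have := @_root_.sigmaFinsuppEquivDFinsupp.eq_1.{0,0,0}
  have := @_root_.finsuppEquivDFinsupp.eq_1.{0,0}
  have := @_root_.finsuppAddEquivDFinsupp.eq_1.{0,0}
  have := @_root_.DFinsupp.toFinsupp.eq_1.{0,0}
  have := @_root_.Finsupp.toDFinsupp.eq_1.{0,0}
  have := @_root_.finsuppLequivDFinsupp.eq_1.{0,0,0}
  have := @_root_.sigmaFinsuppLequivDFinsupp.eq_1.{0,0,0,0}
  have := @_root_.Finsupp.sumFinsuppLEquivProdFinsupp.eq_1.{0,0,0,0}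
  have := @_root_.Finsupp.sigmaFinsuppLEquivPiFinsupp.eq_1.{0,0,0,0}
  have := @_root_.FinVec.map.eq_1.{0,0}
  trivial

theorem r9_9 : True := by
  have := @_root_.FinVec.mkSumEqQ.eq_def
  have := @_root_.FinVec.mkSumEqQ.eq_1
  have := @_root_.Fin.prod_univ_ofNat.eq_1
  have := @_root_.FinVec.mkProdEqQ.eq_def
  have := @_root_.FinVec.mkProdEqQ.eq_1
  have := @_root_.Fin.sum_univ_ofNat.eq_1
  have := @_root_.FinVec.etaExpand.eq_1.{0}
  have := @_root_.LinearMap.llcomp.eq_1.{0,0,0,0,0,0}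
  have := @_root_.LinearMap.domRestrict₂.eq_1.{0,0,0,0,0,0,0}
  have := @_root_.LinearMap.lcomp.eq_1.{0,0,0,0,0}
  have := @_root_.IsBilinearMap.mk.congr_simp.{0,0,0,0}
  have := @_root_.LinearMap.restrictScalarsRange.eq_1.{0,0,0,0,0,0}
  have := @_root_.LinearMap.restrictScalarsRange.congr_simp.{0,0,0,0,0,0}
  have := @_root_.LinearMap.compr₂ₛₗ.eq_1.{0,0,0,0,0,0,0,0}
  have := @_root_.LinearMap.restrictScalars₁₂.eq_1.{0,0,0,0,0,0,0}
  have := @_root_.LinearMap.mk₂'.eq_1.{0,0,0,0,0}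
  have := @_root_.LinearMap.mk₂'.congr_simp.{0,0,0,0,0}
  have := @_root_.LinearMap.BilinMap.eq_1.{0,0,0}
  have := @_root_.LinearMap.compr₂.eq_1.{0,0,0,0,0,0}
  have := @_root_.LinearMap.mk₂'ₛₗ.eq_1.{0,0,0,0,0,0,0}
  have := @_root_.LinearMap.domRestrict₁₂.eq_1.{0,0,0,0,0,0,0}
  have := @_root_.LinearMap.flip.eq_1.{0,0,0,0,0,0,0}
  have := @_root_.IsBilinearMap.toLinearMap.eq_1.{0,0,0,0}
  have := @_root_.IsBilinearMap.toLinearMap.congr_simp.{0,0,0,0}
  have := @_root_.LinearMap.lflip.eq_1.{0,0,0,0,0,0,0,0}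
  have := @_root_.LinearMap.lsmul.eq_1.{0,0}
  have := @_root_.LinearMap.mk₂.eq_1.{0,0,0,0}
  have := @_root_.LinearMap.BilinForm.eq_1.{0,0}
  have := @_root_.LinearMap.compl₂.eq_1.{0,0,0,0,0,0,0,0,0}
  have := @_root_.Submodule.dualRestrict.eq_1.{0,0}
  trivial

theorem r9_10 : True := by
  have := @_root_.Module.mapEvalEquiv.eq_1.{0,0}
  have := @_root_.Module.mapEvalEquiv.congr_simp.{0,0}
  have := @_root_.Module.Dual.eval.eq_1.{0,0}
  have := @_root_.Module.evalEquiv.eq_1.{0,0}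
  have := @_root_.Module.dualPairing.eq_1.{0,0}
  have := @_root_.Module.Dual.eq_1.{0,0}
  have := @_root_.LinearMap.dualMap.eq_1.{0,0,0}
  have := @_root_.Module.IsReflexive.mk.congr_simp.{0,0}
  have := @_root_.Module.Dual.transpose.eq_1.{0,0,0}
  have := @_root_.equiv_linearIndependent.eq_1.{0,0}
  have := @_root_.LinearIndepOn.extend.eq_1.{0,0,0}
  have := @_root_.DFinsupp.domLCongr.eq_1.{0,0,0,0}
  have := @_root_.DFinsupp.lmk.eq_1.{0,0,0}
  have := @_root_.DFinsupp.sigmaCurryLEquiv.eq_1.{0,0,0,0}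
  have := @_root_.DFinsupp.linearEquivFunOnFintype.eq_1.{0,0,0}
  have := @_root_.Submodule.quotientQuotientEquivQuotient.eq_1.{0,0}
  have := @_root_.Submodule.quotientQuotientEquivQuotient.congr_simp.{0,0}
  have := @_root_.LinearMap.subToSupQuotient.eq_1.{0,0}
  have := @_root_.LinearMap.quotientInfEquivSupQuotient.eq_1.{0,0}
  have := @_root_.LinearMap.quotKerEquivOfSurjective.eq_1.{0,0,0}
  have := @_root_.Submodule.quotientQuotientEquivQuotientSup.eq_1.{0,0}
  have := @_root_.LinearMap.quotKerEquivRange.eq_1.{0,0,0}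
  have := @_root_.AlgHom.fromOpposite.eq_1.{0,0,0}
  have := @_root_.AlgHom.fromOpposite.congr_simp.{0,0,0}
  have := @_root_.AlgEquiv.moduleEndSelfOp.eq_1.{0,0}
  have := @_root_.AlgHom.unop.eq_1.{0,0,0}
  have := @_root_.AlgEquiv.moduleEndSelf.eq_1.{0,0}
  have := @_root_.AlgEquiv.toOpposite.eq_1.{0,0}
  have := @_root_.AlgHom.toOpposite.eq_1.{0,0,0}
  have := @_root_.AlgHom.toOpposite.congr_simp.{0,0,0}
  trivial

theorem r9_11 : True := by
  have := @_root_.AlgHom.opComm.eq_1.{0,0,0}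
  have := @_root_.AlgEquiv.unop.eq_1.{0,0,0}
  have := @_root_.AlgEquiv.op.eq_1.{0,0,0}
  have := @_root_.AlgHom.op.eq_1.{0,0,0}
  have := @_root_.AlgEquiv.opComm.eq_1.{0,0,0}
  have := @_root_.AlgEquiv.opOp.eq_1.{0,0}
  have := @_root_.AlgEquiv.piCongrRight.eq_1.{0,0,0,0}
  have := @_root_.AlgEquiv.piCongrLeft'.eq_1.{0,0,0,0}
  have := @_root_.AlgEquiv.funUnique.eq_1.{0,0,0}
  have := @_root_.Pi.algHom.eq_1.{0,0,0,0}
  have := @_root_.AlgEquiv.piCongrLeft.eq_1.{0,0,0,0}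
  have := @_root_.Pi.constAlgHom.eq_1.{0,0,0}
  have := @_root_.AlgEquiv.sumArrowEquivProdArrow.eq_1.{0,0,0,0}
  have := @_root_.AlgHom.compLeft.eq_1.{0,0,0,0}
  have := @_root_.Pi.evalAlgHom.eq_1.{0,0,0}
  have := @_root_.AlgHom.pi.eq_1.{0,0,0,0}
  have := @_root_.AlgEquiv.piMulOpposite.eq_1.{0,0,0}
  have := @_root_.MonoidAlgebra.ofMagma.eq_1.{0,0}
  have := @_root_.AddMonoidAlgebra.singleHom.eq_1.{0,0}
  have := @_root_.AddMonoidAlgebra.of.eq_1.{0,0}
  have := @_root_.MonoidAlgebra.mul'.eq_1.{0,0}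
  have := @_root_.AddMonoidAlgebra.mul'.eq_1.{0,0}
  have := @_root_.AddMonoidAlgebra.coeff.eq_1.{0,0}
  have := @_root_.MonoidAlgebra.coeff.eq_1.{0,0}
  have := @_root_.AddMonoidAlgebra.uniqueRingEquiv.congr_simp.{0,0}
  have := @_root_.AddMonoidAlgebra.ofMagma.eq_1.{0,0}
  have := @_root_.MonoidAlgebra.singleHom.eq_1.{0,0}
  have := @_root_.AddChar.doubleDualEmb.eq_1.{0,0}
  have := @_root_.AddChar.toAddMonoidHom.eq_1.{0,0}
  have := @_root_.MonoidHom.compAddChar.eq_1.{0,0,0}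
  trivial

theorem r9_12 : True := by
  have := @_root_.AddChar.toAddMonoidHomEquiv.eq_1.{0,0}
  have := @_root_.AddChar.mulShift.eq_1.{0,0}
  have := @_root_.AddChar.toAddMonoidAddEquiv.eq_1.{0,0}
  have := @_root_.AddChar.toMonoidHomEquiv.eq_1.{0,0}
  have := @_root_.AddChar.toFun.eq_1.{0,0}
  have := @_root_.AddChar.toMonoidHomMulEquiv.eq_1.{0,0}
  have := @_root_.AddChar.toMonoidHom.eq_1.{0,0}
  have := @_root_.AddChar.compAddMonoidHom.eq_1.{0,0,0}
  have := @_root_.MonoidAlgebra.mapRangeRingHom.eq_1.{0,0,0}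
  have := @_root_.MonoidAlgebra.mapRangeRingEquiv.eq_1.{0,0,0}
  have := @_root_.MonoidAlgebra.comapDomainAddMonoidHom.congr_simp.{0,0,0}
  have := @_root_.MonoidAlgebra.mapRangeAddEquiv.eq_1.{0,0,0}
  have := @_root_.MonoidAlgebra.liftNCRingHom.congr_simp.{0,0,0}
  have := @_root_.AddMonoidAlgebra.liftNC.eq_1.{0,0,0}
  have := @_root_.MonoidAlgebra.liftNC.eq_1.{0,0,0}
  have := @_root_.AddMonoidAlgebra.liftNCRingHom.congr_simp.{0,0,0}
  have := @_root_.MonoidAlgebra.submoduleOfSMulMem.eq_1.{0,0,0}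
  have := @_root_.MonoidAlgebra.submoduleOfSMulMem.congr_simp.{0,0,0}
  have := @_root_.AddMonoidAlgebra.uniqueLinearEquiv.congr_simp.{0,0,0}
  have := @_root_.MonoidAlgebra.comapDistribMulActionSelf.eq_1.{0,0}
  have := @_root_.Finset.imageAddHom.congr_simp.{0,0,0}
  have := @_root_.Finset.imageMulHom.congr_simp.{0,0,0}
  have := @_root_.Finset.imageMonoidHom.congr_simp.{0,0,0}
  have := @_root_.Finset.imageOneHom.congr_simp.{0,0,0}
  have := @_root_.Finset.imageZeroHom.congr_simp.{0,0,0}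
  have := @_root_.Finset.imageAddMonoidHom.congr_simp.{0,0,0}
  have := @_root_.UniqueSums.mk.congr_simp.{0}
  have := @_root_.TwoUniqueSums.mk.congr_simp.{0}
  have := @_root_.TwoUniqueProds.mk.congr_simp.{0}
  have := @_root_.UniqueProds.mk.congr_simp.{0}
  trivial

theorem r9_13 : True := by
  have := @_root_.Multiset.sort.eq_1.{0}
  have := @_root_.Fintype.orderIsoFinOfCardEq.eq_1.{0}
  have := @_root_.Fintype.orderIsoFinOfCardEq.congr_simp.{0}
  have := @_root_.Finset.orderIsoOfFin.eq_1.{0}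
  have := @_root_.Finset.orderEmbOfCardLe.congr_simp.{0}
  have := @_root_.Polynomial.toFinsupp.eq_1.{0}
  have := @_root_.Polynomial.C.eq_1.{0}
  have := @_root_.Polynomial.toFinsuppIso.eq_1.{0}
  have := @_root_.Polynomial.toFinsuppIsoLinear.eq_1.{0}
  have := @_root_.Polynomial.ofMultiset.eq_1.{0}
  have := @_root_.Module.Free.mk.congr_simp.{0,0}
  have := @_root_.Module.Free.constr.eq_1.{0,0,0}
  have := @_root_.Module.Free.chooseBasis.eq_1.{0,0}
  have := @_root_.LinearMap.GeneralLinearGroup.toLinearEquiv.eq_1.{0,0}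
  have := @_root_.LinearMap.GeneralLinearGroup.ofLinearEquiv.eq_1.{0,0}
  have := @_root_.LinearMap.GeneralLinearGroup.generalLinearEquiv.eq_1.{0,0}
  have := @_root_.LinearMap.GeneralLinearGroup.congrLinearEquiv.eq_1.{0,0,0,0}
  have := @_root_.LinearMap.GeneralLinearGroup.eq_1.{0,0}
  have := @_root_.LinearMap.equivProdOfSurjectiveOfIsCompl.eq_1.{0,0,0,0}
  have := @_root_.LinearMap.equivProdOfSurjectiveOfIsCompl.congr_simp.{0,0,0,0}
  have := @_root_.LinearMap.IsProj.codRestrict.eq_1.{0,0}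
  have := @_root_.LinearMap.IsProj.codRestrict.congr_simp.{0,0}
  have := @_root_.Submodule.prodEquivOfIsCompl.eq_1.{0,0}
  have := @_root_.Submodule.IsCompl.projection.eq_1.{0,0}
  have := @_root_.Submodule.IsCompl.projection.congr_simp.{0,0}
  have := @_root_.LinearMap.ofIsComplProdEquiv.eq_1.{0,0,0}
  have := @_root_.LinearMap.ofIsComplProdEquiv.congr_simp.{0,0,0}
  have := @_root_.Submodule.quotientEquivOfIsCompl.eq_1.{0,0}
  have := @_root_.LinearMap.IsProj.mk.congr_simp.{0,0,0}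
  have := @_root_.LinearMap.ofIsComplProd.eq_1.{0,0,0}
  trivial

theorem r9_14 : True := by
  have := @_root_.Submodule.isComplEquivProj.eq_1.{0,0}
  have := @_root_.Submodule.isIdempotentElemEquiv.eq_1.{0,0}
  have := @_root_.Submodule.linearProjOfIsCompl.eq_1.{0,0}
  have := @_root_.Submodule.linearProjOfIsCompl.congr_simp.{0,0}
  have := @_root_.DFinsupp.basis.eq_1.{0,0,0,0}
  have := @_root_.Finsupp.basisSingleOne.eq_1.{0,0}
  have := @_root_.Finsupp.basis.eq_1.{0,0,0,0}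
  have := @_root_.Module.piEquiv.congr_simp.{0,0,0}
  have := @_root_.NonUnitalAlgHom.inverse'.eq_1.{0,0,0,0}
  have := @_root_.NonUnitalAlgHom.inverse'.congr_simp.{0,0,0,0}
  have := @_root_.NonUnitalAlgHom.fst.eq_1.{0,0,0}
  have := @_root_.AlgHom.toNonUnitalAlgHom.eq_1.{0,0,0}
  have := @_root_.NonUnitalAlgHom.inr.eq_1.{0,0,0}
  have := @_root_.NonUnitalAlgHom.toMulHom.eq_1.{0,0,0,0}
  have := @_root_.NonUnitalAlgHom.comp.eq_1.{0,0,0,0,0,0}
  have := @_root_.NonUnitalAlgHom.id.eq_1.{0,0}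
  have := @_root_.NonUnitalAlgHom.prod.eq_1.{0,0,0,0}
  have := @_root_.NonUnitalAlgHom.prodEquiv.eq_1.{0,0,0,0}
  have := @_root_.NonUnitalAlgHom.inl.eq_1.{0,0,0}
  have := @_root_.NonUnitalAlgHom.inverse.eq_1.{0,0,0}
  have := @_root_.NonUnitalAlgHom.inverse.congr_simp.{0,0,0}
  have := @_root_.NonUnitalAlgHom.snd.eq_1.{0,0,0}
  have := @_root_.NonUnitalAlgHom.toDistribMulActionHom.eq_1.{0,0,0,0}
  have := @_root_.NonUnitalAlgSemiHomClass.mk.congr_simp.{0,0,0,0,0}
  have := @_root_.NonUnitalAlgHomClass.eq_1.{0,0,0,0}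
  have := @_root_.NonUnitalAlgHomClass.toNonUnitalAlgSemiHom.eq_1.{0,0,0,0,0}
  have := @_root_.NonUnitalAlgHomClass.toNonUnitalAlgSemiHom.congr_simp.{0,0,0,0,0}
  have := @_root_.NonUnitalAlgHom.restrictScalars.eq_1.{0,0,0,0}
  have := @_root_.NonUnitalAlgHom.restrictScalars.congr_simp.{0,0,0,0}
  have := @_root_.Submodule.map₂.eq_1.{0,0,0,0}
  trivial

theorem r9_15 : True := by
  have := @_root_.TensorProduct.eq_1.{0,0,0}
  have := @_root_.TensorProduct.tmul.eq_1.{0,0,0}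
  have := @_root_.TensorProduct.CompatibleSMul.mk.congr_simp.{0,0,0,0}
  have := @_root_.TensorProduct.mk.eq_1.{0,0,0}
  have := @_root_.TensorProduct.comm.eq_1.{0,0,0}
  have := @_root_.TensorProduct.lift.eq_1.{0,0,0,0,0}
  have := @_root_.TensorProduct.uncurry.eq_1.{0,0,0,0,0}
  have := @_root_.TensorProduct.liftAddHom.eq_1.{0,0,0,0}
  have := @_root_.TensorProduct.mapOfCompatibleSMul.eq_1.{0,0,0,0,0}
  have := @_root_.TensorProduct.lcurry.eq_1.{0,0,0,0,0}
  trivial

end CL.BaseAux
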