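import Mathlib
import Cfsg.Prelude.Def_Balance
import Cfsg.Prelude.Def_Blocks
import Cfsg.Prelude.Def_CaseTheorems
import Cfsg.Prelude.Def_CharExt
import Cfsg.Prelude.Def_Characters
import Cfsg.Prelude.Def_ChevB2
import Cfsg.Prelude.Def_ChevD4
import Cfsg.Prelude.Def_ChevE6
import Cfsg.Prelude.Def_ChevE7
import Cfsg.Prelude.Def_ChevE8
import Cfsg.Prelude.Def_ChevF4
import Cfsg.Prelude.Def_ChevG2
import Cfsg.Prelude.Def_ChevStructure
import Cfsg.Prelude.Def_ChevWords
import Cfsg.Prelude.Def_Chevalley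
import Cfsg.Prelude.Def_Classical
import Cfsg.Prelude.Def_ClassicalGeometry
import Cfsg.Prelude.Def_Classification2
import Cfsg.Prelude.Def_ClassificationK
import Cfsg.Prelude.Def_CurtisTits
import Cfsg.Prelude.Def_E6
import Cfsg.Prelude.Def_EvenType
import Cfsg.Prelude.Def_Exceptional
import Cfsg.Prelude.Def_Involutions
import Cfsg.Prelude.Def_LieChev
import Cfsg.Prelude.Def_LieClassical
import Cfsg.Prelude.Def_LieExceptional
import Cfsg.Prelude.Def_LieRecognition
import Cfsg.Prelude.Def_LieTwisted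
import Cfsg.Prelude.Def_LieTypeChar
import Cfsg.Prelude.Def_LieTypes
import Cfsg.Prelude.Def_Local
import Cfsg.Prelude.Def_OddOrder
import Cfsg.Prelude.Def_OddOrderChar
import Cfsg.Prelude.Def_OddOrderLocal
import Cfsg.Prelude.Def_PLocal
import Cfsg.Prelude.Def_Perm
import Cfsg.Prelude.Def_Quasithin
import Cfsg.Prelude.Def_SevenCases
import Cfsg.Prelude.Def_Solvable
import Cfsg.Prelude.Def_SolvableStructure
import Cfsg.Prelude.Def_SporCoxeter
import Cfsg.Prelude.Def_Spor_B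
import Cfsg.Prelude.Def_Spor_Conway
import Cfsg.Prelude.Def_Spor_Fi22
import Cfsg.Prelude.Def_Spor_Fi23
import Cfsg.Prelude.Def_Spor_Fi24
import Cfsg.Prelude.Def_Spor_HN
import Cfsg.Prelude.Def_Spor_He
import Cfsg.Prelude.Def_Spor_J1
import Cfsg.Prelude.Def_Spor_J2
import Cfsg.Prelude.Def_Spor_J3
import Cfsg.Prelude.Def_Spor_J4
import Cfsg.Prelude.Def_Spor_Ly
import Cfsg.Prelude.Def_Spor_M
import Cfsg.Prelude.Def_Spor_Mathieu
import Cfsg.Prelude.Def_Spor_ON
import Cfsg.Prelude.Def_Spor_Ru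
import Cfsg.Prelude.Def_Spor_Suz
import Cfsg.Prelude.Def_Spor_Th
import Cfsg.Prelude.Def_Sporadic
import Cfsg.Prelude.Def_SporadicB
import Cfsg.Prelude.Def_SporadicCombinatorics
import Cfsg.Prelude.Def_Sporadic_a
import Cfsg.Prelude.Def_Steinberg
import Cfsg.Prelude.Def_Sz
import Cfsg.Prelude.Def_Transfer
import Cfsg.Prelude.Def_TwoFusion
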