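import Cfsg.Agent.Base.Imports

/-! On-demand lemmas of Prelude and Mathlib definitions, produced once here so that no other file holds a copy. -/

set_option linter.all false

namespace CL.BaseAux

theorem r0_0 : True := by
  have := @_root_.Cfsg.AlgInt.eq_1
  have := @_root_.Cfsg.ArrayPt.eq_1
  have := @_root_.Cfsg.Co0.eq_1
  have := @_root_.Cfsg.ControlsFusion.eq_1.{0}
  have := @_root_.Cfsg.ControlsRankOneFusion.eq_1.{0}
  have := @_root_.Cfsg.ControlsRankTwoFusion.eq_1.{0}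
  have := @_root_.Cfsg.ControlsStrongFusionOf.eq_1.{0}
  have := @_root_.Cfsg.CubicParamLE.eq_1.{0}
  have := @_root_.Cfsg.GU.eq_1.{0}
  have := @_root_.Cfsg.GolayPt.eq_1
  have := @_root_.Cfsg.HasBProperty.eq_1.{0}
  have := @_root_.Cfsg.HasComponent.eq_1.{0}
  have := @_root_.Cfsg.HasNormalPComplement.eq_1.{0}
  have := @_root_.Cfsg.HasProperTwoGeneratedCore.eq_1.{0}
  have := @_root_.Cfsg.HasStrongBProperty.eq_1.{0}
  have := @_root_.Cfsg.HasSubgroupOfEveryOrder.eq_1.{0}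
  have := @_root_.Cfsg.InBTwo.eq_1.{0}
  have := @_root_.Cfsg.InC.eq_1.{0}
  have := @_root_.Cfsg.InCT.eq_1.{0}
  have := @_root_.Cfsg.InChev.eq_1.{0}
  have := @_root_.Cfsg.InGp.eq_1.{0}
  have := @_root_.Cfsg.InSp.eq_1.{0}
  have := @_root_.Cfsg.InT.eq_1.{0}
  have := @_root_.Cfsg.InTargetFive.eq_1.{0}
  have := @_root_.Cfsg.InTargetFour.eq_1.{0}
  have := @_root_.Cfsg.InTargetSeven.eq_1.{0}
  have := @_root_.Cfsg.InTargetThree.eq_1.{0}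
  have := @_root_.Cfsg.InTargetTwo.eq_1.{0}
  have := @_root_.Cfsg.InTargetZero.eq_1.{0}
  have := @_root_.Cfsg.InUniqueMaximal.eq_1.{0}
  trivial

theorem r0_1 : True := by
  have := @_root_.Cfsg.InducedBlockDefined.eq_1.{0}
  have := @_root_.Cfsg.InducesElemAbelianTwoGroupOn.eq_1.{0}
  have := @_root_.Cfsg.InducesUnitaryTypeAut.eq_1.{0}
  have := @_root_.Cfsg.IrrCharacter.eq_1.{0}
  have := @_root_.Cfsg.Is2DOrder.eq_1.{0}
  have := @_root_.Cfsg.Is2E6.eq_1.{0}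
  have := @_root_.Cfsg.Is3D4.eq_1.{0}
  have := @_root_.Cfsg.IsActionPStable.eq_1.{0}
  have := @_root_.Cfsg.IsAlmostPConstrained.eq_1.{0}
  have := @_root_.Cfsg.IsAlmostStronglyPEmbedded.eq_1.{0}
  have := @_root_.Cfsg.IsAlternating.eq_1.{0}
  have := @_root_.Cfsg.IsB.eq_1.{0}
  have := @_root_.Cfsg.IsBOrder.eq_1.{0}
  have := @_root_.Cfsg.IsBalanced.eq_1.{0}
  have := @_root_.Cfsg.IsBalancedFor.eq_1.{0}
  have := @_root_.Cfsg.IsBenderGroup.eq_1.{0}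
  have := @_root_.Cfsg.IsBestOffenderOn.eq_1.{0}
  have := @_root_.Cfsg.IsCFiveListed.eq_1.{0}
  have := @_root_.Cfsg.IsCNGroup.eq_1.{0}
  have := @_root_.Cfsg.IsCThreeListed.eq_1.{0}
  have := @_root_.Cfsg.IsCTwoListed.eq_1.{0}
  have := @_root_.Cfsg.IsCarterSubgroup.eq_1.{0}
  have := @_root_.Cfsg.IsCharacter.eq_1.{0}
  have := @_root_.Cfsg.IsCharacteristicTwoType.eq_1.{0}
  have := @_root_.Cfsg.IsChevSimple.eq_1.{0}
  have := @_root_.Cfsg.IsClassFunction.eq_1.{0}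
  have := @_root_.Cfsg.IsClassicalInvolution.eq_1.{0}
  have := @_root_.Cfsg.IsCo1.eq_1.{0}
  have := @_root_.Cfsg.IsCo2.eq_1.{0}
  have := @_root_.Cfsg.IsCo3.eq_1.{0}
  trivial

theorem r0_2 : True := by
  have := @_root_.Cfsg.IsCoherent.eq_1.{0,0}
  have := @_root_.Cfsg.IsComplIn.eq_1.{0}
  have := @_root_.Cfsg.IsComplementSystem.eq_1.{0}
  have := @_root_.Cfsg.IsCompleteSignalizerFunctor.eq_1.{0}
  have := @_root_.Cfsg.IsComponent.eq_1.{0}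
  have := @_root_.Cfsg.IsComponentOf.eq_1.{0}
  have := @_root_.Cfsg.IsComponentType.eq_1.{0}
  have := @_root_.Cfsg.IsCompositionKGroup.eq_1.{0}
  have := @_root_.Cfsg.IsCompositionKGroupWith.eq_1.{0}
  have := @_root_.Cfsg.IsCompositionKProper.eq_1.{0}
  have := @_root_.Cfsg.IsCoreSeparated.eq_1.{0}
  have := @_root_.Cfsg.IsCpException.eq_1.{0}
  have := @_root_.Cfsg.IsCpSimple.eq_1.{0}
  have := @_root_.Cfsg.IsDOrder.eq_1.{0}
  have := @_root_.Cfsg.IsDefectClass.eq_1.{0}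
  have := @_root_.Cfsg.IsDefectGroup.eq_1.{0}
  have := @_root_.Cfsg.IsE6.eq_1.{0}
  have := @_root_.Cfsg.IsE7.eq_1.{0}
  have := @_root_.Cfsg.IsE8.eq_1.{0}
  have := @_root_.Cfsg.IsElementary.eq_1.{0}
  have := @_root_.Cfsg.IsElementaryAbelian.eq_1.{0}
  have := @_root_.Cfsg.IsExceptionalChevChar.eq_1.{0}
  have := @_root_.Cfsg.IsExceptionalLieType.eq_1.{0}
  have := @_root_.Cfsg.IsExtraspecial.eq_1.{0}
  have := @_root_.Cfsg.IsF4.eq_1.{0}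
  have := @_root_.Cfsg.IsFM9.eq_1
  have := @_root_.Cfsg.IsFi22.eq_1.{0}
  have := @_root_.Cfsg.IsFi23.eq_1.{0}
  have := @_root_.Cfsg.IsFi24'.eq_1.{0}
  have := @_root_.Cfsg.IsFourConnected.eq_1.{0}
  trivial

theorem r0_3 : True := by
  have := @_root_.Cfsg.IsFrobeniusComplement.eq_1.{0}
  have := @_root_.Cfsg.IsG2.eq_1.{0}
  have := @_root_.Cfsg.IsGeneralizedCharacter.eq_1.{0}
  have := @_root_.Cfsg.IsGenericEvenType.eq_1.{0}
  have := @_root_.Cfsg.IsGenericOddType.eq_1.{0}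
  have := @_root_.Cfsg.IsGenericType.eq_1.{0}
  have := @_root_.Cfsg.IsHN.eq_1.{0}
  have := @_root_.Cfsg.IsHS.eq_1.{0}
  have := @_root_.Cfsg.IsHe.eq_1.{0}
  have := @_root_.Cfsg.IsIdealPrime.eq_1.{0}
  have := @_root_.Cfsg.IsInducedBlock.eq_1.{0}
  have := @_root_.Cfsg.IsInternalDirectProduct.eq_1.{0}
  have := @_root_.Cfsg.IsIrrCharacter.eq_1.{0}
  have := @_root_.Cfsg.IsIsolatedInvolution.eq_1.{0}
  have := @_root_.Cfsg.IsJ1.eq_1.{0}
  have := @_root_.Cfsg.IsJ2.eq_1.{0}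
  have := @_root_.Cfsg.IsJ3.eq_1.{0}
  have := @_root_.Cfsg.IsJ4.eq_1.{0}
  have := @_root_.Cfsg.IsKBalanced.eq_1.{0}
  have := @_root_.Cfsg.IsKConnected.eq_1.{0}
  have := @_root_.Cfsg.IsKGroup.eq_1.{0}
  have := @_root_.Cfsg.IsKGroupWith.eq_1.{0}
  have := @_root_.Cfsg.IsKProper.eq_1.{0}
  have := @_root_.Cfsg.IsKProperWith.eq_1.{0}
  have := @_root_.Cfsg.IsKnownSimple'.eq_1.{0}
  have := @_root_.Cfsg.IsLBTwoType.eq_1.{0}
  have := @_root_.Cfsg.IsLCpType.eq_1.{0}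
  have := @_root_.Cfsg.IsLCpUniquenessSubgroup.eq_1.{0}
  have := @_root_.Cfsg.IsLTTwoType.eq_1.{0}
  have := @_root_.Cfsg.IsLTpType.eq_1.{0}
  trivial

theorem r0_4 : True := by
  have := @_root_.Cfsg.IsLTwoSpecialType.eq_1.{0}
  have := @_root_.Cfsg.IsLargeRee.eq_1.{0}
  have := @_root_.Cfsg.IsLieRankLETwoCharTwo.eq_1.{0}
  have := @_root_.Cfsg.IsLieTypeChar.eq_1.{0}
  have := @_root_.Cfsg.IsLinearIsometryOn.eq_1.{0,0}
  have := @_root_.Cfsg.IsLocalSubgroup.eq_1.{0}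
  have := @_root_.Cfsg.IsLocallyBalanced.eq_1.{0}
  have := @_root_.Cfsg.IsLocallyKBalanced.eq_1.{0}
  have := @_root_.Cfsg.IsLpSpecialType.eq_1.{0}
  have := @_root_.Cfsg.IsLy.eq_1.{0}
  have := @_root_.Cfsg.IsM.eq_1.{0}
  have := @_root_.Cfsg.IsM11.eq_1.{0}
  have := @_root_.Cfsg.IsM12.eq_1.{0}
  have := @_root_.Cfsg.IsM22.eq_1.{0}
  have := @_root_.Cfsg.IsM23.eq_1.{0}
  have := @_root_.Cfsg.IsM24.eq_1.{0}
  have := @_root_.Cfsg.IsMaximalTwoLocal.eq_1.{0}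
  have := @_root_.Cfsg.IsMcL.eq_1.{0}
  have := @_root_.Cfsg.IsMetacyclic.eq_1.{0}
  have := @_root_.Cfsg.IsMinCounterexample.eq_1.{0}
  have := @_root_.Cfsg.IsMinCounterexampleWith.eq_1.{0}
  have := @_root_.Cfsg.IsMinSimpleOddOrder.eq_1.{0}
  have := @_root_.Cfsg.IsMinimalNonNilpotent.eq_1.{0}
  have := @_root_.Cfsg.IsMinimalSimple.eq_1.{0}
  have := @_root_.Cfsg.IsNGroup.eq_1.{0}
  have := @_root_.Cfsg.IsNarrow.eq_1.{0}
  have := @_root_.Cfsg.IsNonsplitDoubleCover.eq_1.{0,0}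
  have := @_root_.Cfsg.IsON.eq_1.{0}
  have := @_root_.Cfsg.IsOfCharacteristicTwo.eq_1.{0}
  have := @_root_.Cfsg.IsOfEvenCharacteristic.eq_1.{0}
  trivial

theorem r0_5 : True := by
  have := @_root_.Cfsg.IsOfEvenType.eq_1.{0}
  have := @_root_.Cfsg.IsOfGF2Type.eq_1.{0}
  have := @_root_.Cfsg.IsOfQTEvenType.eq_1.{0}
  have := @_root_.Cfsg.IsOfQuasithinType.eq_1.{0}
  have := @_root_.Cfsg.IsOfRestrictedEvenType.eq_1.{0}
  have := @_root_.Cfsg.IsOfSymplecticType.eq_1.{0}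
  have := @_root_.Cfsg.IsOfTypeF.eq_1.{0}
  have := @_root_.Cfsg.IsOfTypeI.eq_1.{0}
  have := @_root_.Cfsg.IsOfTypeII.eq_1.{0}
  have := @_root_.Cfsg.IsOfTypeIII.eq_1.{0}
  have := @_root_.Cfsg.IsOfTypeIV.eq_1.{0}
  have := @_root_.Cfsg.IsOfTypeP.eq_1.{0}
  have := @_root_.Cfsg.IsOfTypeV.eq_1.{0}
  have := @_root_.Cfsg.IsOnQTKEList.eq_1.{0}
  have := @_root_.Cfsg.IsPBlock.eq_1.{0}
  have := @_root_.Cfsg.IsPComponent.eq_1.{0}
  have := @_root_.Cfsg.IsPConstrained.eq_1.{0}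
  have := @_root_.Cfsg.IsPModular.eq_1
  have := @_root_.Cfsg.IsPOmegaMinus.eq_1.{0}
  have := @_root_.Cfsg.IsPOmegaMinusChar.eq_1.{0}
  have := @_root_.Cfsg.IsPOmegaOdd.eq_1.{0}
  have := @_root_.Cfsg.IsPOmegaOddChar.eq_1.{0}
  have := @_root_.Cfsg.IsPOmegaPlus.eq_1.{0}
  have := @_root_.Cfsg.IsPOmegaPlusChar.eq_1.{0}
  have := @_root_.Cfsg.IsPPart.eq_1.{0}
  have := @_root_.Cfsg.IsPRegular.eq_1.{0}
  have := @_root_.Cfsg.IsPSL.eq_1.{0}
  have := @_root_.Cfsg.IsPSLChar.eq_1.{0}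
  have := @_root_.Cfsg.IsPSU.eq_1.{0}
  have := @_root_.Cfsg.IsPSUChar.eq_1.{0}
  trivial

theorem r0_6 : True := by
  have := @_root_.Cfsg.IsPSolvable.eq_1.{0}
  have := @_root_.Cfsg.IsPSp.eq_1.{0}
  have := @_root_.Cfsg.IsPSpChar.eq_1.{0}
  have := @_root_.Cfsg.IsPStable.eq_1.{0}
  have := @_root_.Cfsg.IsPStableOn.eq_1.{0}
  have := @_root_.Cfsg.IsPStableOn.congr_simp.{0}
  have := @_root_.Cfsg.IsPStableOnSection.eq_1.{0}
  have := @_root_.Cfsg.IsPStableOnSection.congr_simp.{0}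
  have := @_root_.Cfsg.IsPUniquenessSubgroup.eq_1.{0}
  have := @_root_.Cfsg.IsPiHall.eq_1.{0}
  have := @_root_.Cfsg.IsPiHallOf.eq_1.{0}
  have := @_root_.Cfsg.IsPreuniquenessSubgroup.eq_1.{0}
  have := @_root_.Cfsg.IsPrimeCyclic.eq_1.{0}
  have := @_root_.Cfsg.IsQTEvenTypeComponent.eq_1.{0}
  have := @_root_.Cfsg.IsQTKE.eq_1.{0}
  have := @_root_.Cfsg.IsQuasiDihedral.eq_1.{0}
  have := @_root_.Cfsg.IsQuasisimple.eq_1.{0}
  have := @_root_.Cfsg.IsQuasithin.eq_1.{0}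
  have := @_root_.Cfsg.IsRankGraphConnected.eq_1.{0}
  have := @_root_.Cfsg.IsRankGraphVertex.eq_1.{0}
  have := @_root_.Cfsg.IsRee.eq_1.{0}
  have := @_root_.Cfsg.IsRegularPGroup.eq_1.{0}
  have := @_root_.Cfsg.IsRu.eq_1.{0}
  have := @_root_.Cfsg.IsSCN.eq_1.{0}
  have := @_root_.Cfsg.IsSelfNormalizingCyclic.eq_1.{0}
  have := @_root_.Cfsg.IsSignalizerFunctor.eq_1.{0}
  have := @_root_.Cfsg.IsSolvableSignalizerFunctor.eq_1.{0}
  have := @_root_.Cfsg.IsSpecial.eq_1.{0}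
  have := @_root_.Cfsg.IsSpecialEvenType.eq_1.{0}
  have := @_root_.Cfsg.IsSpecialOddType.eq_1.{0}
  trivial

theorem r0_7 : True := by
  have := @_root_.Cfsg.IsSporadic.eq_1.{0}
  have := @_root_.Cfsg.IsSporadicGroup.eq_1.{0}
  have := @_root_.Cfsg.IsStableEmbedding.eq_1.{0}
  have := @_root_.Cfsg.IsStandardSubgroup.eq_1.{0}
  have := @_root_.Cfsg.IsStandardWrt.eq_1.{0}
  have := @_root_.Cfsg.IsSteinerSystem.eq_1.{0}
  have := @_root_.Cfsg.IsStrongPUniquenessSubgroup.eq_1.{0}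
  have := @_root_.Cfsg.IsStronglyClosed.eq_1.{0}
  have := @_root_.Cfsg.IsStronglyClosedType.eq_1.{0}
  have := @_root_.Cfsg.IsStronglyEmbedded.eq_1.{0}
  have := @_root_.Cfsg.IsStronglyPEmbedded.eq_1.{0}
  have := @_root_.Cfsg.IsStronglyQuasithin.eq_1.{0}
  have := @_root_.Cfsg.IsStronglyZEmbedded.eq_1.{0}
  have := @_root_.Cfsg.IsSupersolvable.eq_1.{0}
  have := @_root_.Cfsg.IsSuz.eq_1.{0}
  have := @_root_.Cfsg.IsSuzuki.eq_1.{0}
  have := @_root_.Cfsg.IsSuzukiTwoGroup.eq_1.{0}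
  have := @_root_.Cfsg.IsTISubset.eq_1.{0}
  have := @_root_.Cfsg.IsTerminalPair.eq_1.{0}
  have := @_root_.Cfsg.IsTernaryGolayWord.eq_1
  have := @_root_.Cfsg.IsTh.eq_1.{0}
  have := @_root_.Cfsg.IsThompsonFactorizable.eq_1.{0}
  have := @_root_.Cfsg.IsThreeStepGroup.eq_1.{0}
  have := @_root_.Cfsg.IsThreeTranspositionClass.eq_1.{0}
  have := @_root_.Cfsg.IsThreeTranspositionSet.eq_1.{0}
  have := @_root_.Cfsg.IsTightlyEmbedded.eq_1.{0}
  have := @_root_.Cfsg.IsTits.eq_1.{0}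
  have := @_root_.Cfsg.IsTransvection.eq_1.{0}
  have := @_root_.Cfsg.IsTransvection.congr_simp.{0}
  have := @_root_.Cfsg.IsTwistedE6D4Char.eq_1.{0}
  trivial

theorem r0_8 : True := by
  have := @_root_.Cfsg.IsTwoCentralInvolution.eq_1.{0}
  have := @_root_.Cfsg.IsTwoLocal.eq_1.{0}
  have := @_root_.Cfsg.IsTwoPowerNeighbourPrime.eq_1
  have := @_root_.Cfsg.IsTwoUniquenessSubgroup.eq_1.{0}
  have := @_root_.Cfsg.IsUniquenessSubgroup.eq_1.{0}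
  have := @_root_.Cfsg.IsWeaklyClosed.eq_1.{0}
  have := @_root_.Cfsg.IsWreathed.eq_1.{0}
  have := @_root_.Cfsg.IsWreathedPreuniqueness.eq_1.{0}
  have := @_root_.Cfsg.IsZassenhausGroup.eq_1.{0,0}
  have := @_root_.Cfsg.LpAll.eq_1.{0}
  have := @_root_.Cfsg.LpExists.eq_1.{0}
  have := @_root_.Cfsg.LpoAll.eq_1.{0}
  have := @_root_.Cfsg.LpoExists.eq_1.{0}
  have := @_root_.Cfsg.M24.eq_1
  have := @_root_.Cfsg.MemLocalIdeal.eq_1
  have := @_root_.Cfsg.MemLocalRing.eq_1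
  have := @_root_.Cfsg.OddTwoLocalRankLE.eq_1.{0}
  have := @_root_.Cfsg.Omega.eq_1.{0}
  have := @_root_.Cfsg.PLengthLE.eq_1.{0}
  have := @_root_.Cfsg.POmega.eq_1.{0}
  have := @_root_.Cfsg.POmega.congr_simp.{0}
  have := @_root_.Cfsg.PRankAtLeast.eq_1.{0}
  have := @_root_.Cfsg.PRankLE.eq_1.{0}
  have := @_root_.Cfsg.PSU.eq_1.{0}
  have := @_root_.Cfsg.PSp.eq_1.{0}
  have := @_root_.Cfsg.PreuniquenessHypothesis.eq_1.{0}
  have := @_root_.Cfsg.QuadParamLE.eq_1.{0}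
  have := @_root_.Cfsg.RankLE.eq_1.{0}
  have := @_root_.Cfsg.SU.eq_1.{0}
  have := @_root_.Cfsg.SameBlock.eq_1.{0}
  trivial

theorem r0_9 : True := by
  have := @_root_.Cfsg.SectionalPRankLE.eq_1.{0}
  have := @_root_.Cfsg.SetSystemIso.eq_1.{0,0}
  have := @_root_.Cfsg.SetSystemIso.congr_simp.{0,0}
  have := @_root_.Cfsg.Supports.eq_1.{0}
  have := @_root_.Cfsg.Sz.eq_1.{0}
  have := @_root_.Cfsg.TransitivityHypothesis.eq_1.{0}
  have := @_root_.Cfsg.TwoLocalPRankLE.eq_1.{0}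
  have := @_root_.Cfsg.Xi.eq_1.{0}
  have := @_root_.Cfsg.XiStar.eq_1.{0}
  have := @_root_.Cfsg.affineGroup.eq_1.{0}
  have := @_root_.Cfsg.alpha.eq_1.{0}
  have := @_root_.Cfsg.alphaCore.eq_1.{0}
  have := @_root_.Cfsg.beta.eq_1.{0}
  have := @_root_.Cfsg.blockCoeff.eq_1.{0}
  have := @_root_.Cfsg.blockDefect.eq_1.{0}
  have := @_root_.Cfsg.blockGraph.eq_1.{0}
  have := @_root_.Cfsg.blockHeight.eq_1.{0}
  have := @_root_.Cfsg.blockKer.eq_1.{0}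
  have := @_root_.Cfsg.blockOf.eq_1.{0}
  have := @_root_.Cfsg.blockPart.eq_1.{0}
  have := @_root_.Cfsg.blockPart.congr_simp.{0}
  have := @_root_.Cfsg.brauerCentralChar.eq_1.{0}
  have := @_root_.Cfsg.calC.eq_1.{0}
  have := @_root_.Cfsg.calH.eq_1.{0}
  have := @_root_.Cfsg.calHMin.eq_1.{0}
  have := @_root_.Cfsg.calHOver.eq_1.{0}
  have := @_root_.Cfsg.calHOverNotLE.eq_1.{0}
  have := @_root_.Cfsg.calL.eq_1.{0}
  have := @_root_.Cfsg.calLMax.eq_1.{0}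
  have := @_root_.Cfsg.calR2.eq_1.{0}
  trivial

theorem r0_10 : True := by
  have := @_root_.Cfsg.centerThompsonAOf.eq_1.{0}
  have := @_root_.Cfsg.centerThompsonOf.eq_1.{0}
  have := @_root_.Cfsg.centralChar.eq_1.{0}
  have := @_root_.Cfsg.centralizerModCore.eq_1.{0}
  have := @_root_.Cfsg.centralizerPPrimeCore.eq_1.{0}
  have := @_root_.Cfsg.charCore.eq_1.{0}
  have := @_root_.Cfsg.charDegree.eq_1.{0}
  have := @_root_.Cfsg.classInner.eq_1.{0}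
  have := @_root_.Cfsg.conjClosure.eq_1.{0}
  have := @_root_.Cfsg.conjFun.eq_1.{0}
  have := @_root_.Cfsg.cross.eq_1
  have := @_root_.Cfsg.crosses.eq_1
  have := @_root_.Cfsg.cubeTwist.eq_1
  have := @_root_.Cfsg.cubeTwistFun.eq_def
  have := @_root_.Cfsg.cubeTwistFun.eq_1
  have := @_root_.Cfsg.dadeIsometry.eq_1.{0}
  have := @_root_.Cfsg.detChar.eq_1.{0}
  have := @_root_.Cfsg.detOrder.eq_1.{0}
  have := @_root_.Cfsg.dodecads.eq_1
  have := @_root_.Cfsg.dotInt.eq_1.{0}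
  have := @_root_.Cfsg.extendByZero.eq_1.{0}
  have := @_root_.Cfsg.extendedTwoLayer.eq_1.{0}
  have := @_root_.Cfsg.fittingHall.eq_1.{0}
  have := @_root_.Cfsg.fittingHallOf.eq_1.{0}
  have := @_root_.Cfsg.fittingOf.eq_1.{0}
  have := @_root_.Cfsg.fittingSubgroup.eq_1.{0}
  have := @_root_.Cfsg.fixedSubgroup.eq_1.{0}
  have := @_root_.Cfsg.frobeniusKernel.eq_1.{0}
  have := @_root_.Cfsg.gammaTwoCirc.eq_1.{0}
  have := @_root_.Cfsg.generalizedFittingSubgroup.eq_1.{0}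
  trivial

theorem r0_11 : True := by
  have := @_root_.Cfsg.glToMat.eq_1.{0}
  have := @_root_.Cfsg.golayCode.eq_1
  have := @_root_.Cfsg.golayMonomialMaps.eq_1
  have := @_root_.Cfsg.hermForm.eq_1.{0}
  have := @_root_.Cfsg.hexacode.eq_1.{0}
  have := @_root_.Cfsg.hexadsOn.eq_1
  have := @_root_.Cfsg.indFun.eq_1.{0}
  have := @_root_.Cfsg.inducedCentralChar.eq_1.{0}
  have := @_root_.Cfsg.inducedIrrAbove.eq_1.{0}
  have := @_root_.Cfsg.invSubgroups.eq_1.{0}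
  have := @_root_.Cfsg.invertedBy.eq_1.{0}
  have := @_root_.Cfsg.involutionsIn.eq_1.{0}
  have := @_root_.Cfsg.isometryGroup.eq_1.{0}
  have := @_root_.Cfsg.iterCommutator.eq_def.{0}
  have := @_root_.Cfsg.iterCommutator.eq_1.{0}
  have := @_root_.Cfsg.iterCommutator.induct
  have := @_root_.Cfsg.jankoMatrixX.eq_1
  have := @_root_.Cfsg.jankoMatrixY.eq_1
  have := @_root_.Cfsg.kGeneratedCore.eq_1.{0}
  have := @_root_.Cfsg.kappa.eq_1.{0}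
  have := @_root_.Cfsg.layer.eq_1.{0}
  have := @_root_.Cfsg.leechLattice.eq_1
  have := @_root_.Cfsg.leechSet.eq_1
  have := @_root_.Cfsg.maxAbelianSubgroups.eq_1.{0}
  have := @_root_.Cfsg.maxElementaryAbelianSubgroups.eq_1.{0}
  have := @_root_.Cfsg.maxInvSubgroups.eq_1.{0}
  have := @_root_.Cfsg.maxTwoLocalsContaining.eq_1.{0}
  have := @_root_.Cfsg.maxTwoLocalsNear.eq_1.{0}
  have := @_root_.Cfsg.maxTwoLocalsOver.eq_1.{0}
  have := @_root_.Cfsg.monomialMap.eq_1.{0,0}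
  trivial

theorem r0_12 : True := by
  have := @_root_.Cfsg.octads.eq_1
  have := @_root_.Cfsg.oddCore.eq_1.{0}
  have := @_root_.Cfsg.oddGenerated.eq_1.{0}
  have := @_root_.Cfsg.omegaCenterThompson.eq_1.{0}
  have := @_root_.Cfsg.omegaOne.eq_1.{0}
  have := @_root_.Cfsg.omegaOneOf.eq_1.{0}
  have := @_root_.Cfsg.pCore.eq_1.{0}
  have := @_root_.Cfsg.pLayer.eq_1.{0}
  have := @_root_.Cfsg.pPrimeCore.eq_1.{0}
  have := @_root_.Cfsg.pPrimePCore.eq_1.{0}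
  have := @_root_.Cfsg.pResidual.eq_1.{0}
  have := @_root_.Cfsg.perfectCore.eq_1.{0}
  have := @_root_.Cfsg.permConstants.eq_1.{0,0,0}
  have := @_root_.Cfsg.permRep.eq_1.{0,0,0}
  have := @_root_.Cfsg.permSumZero.eq_1.{0,0,0}
  have := @_root_.Cfsg.piCore.eq_1.{0}
  have := @_root_.Cfsg.piCoreOf.eq_1.{0}
  have := @_root_.Cfsg.pointBlockGraph.eq_1.{0}
  have := @_root_.Cfsg.pointBlockRel.eq_def.{0}
  have := @_root_.Cfsg.pointBlockRel.eq_1.{0}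
  have := @_root_.Cfsg.polarVec.eq_1.{0}
  have := @_root_.Cfsg.polarVec.congr_simp.{0}
  have := @_root_.Cfsg.powerClosure.eq_1.{0}
  have := @_root_.Cfsg.preserving.eq_1.{0,0}
  have := @_root_.Cfsg.primesNotDvd.eq_1
  have := @_root_.Cfsg.principalBlock.eq_1.{0}
  have := @_root_.Cfsg.projInv.eq_1
  have := @_root_.Cfsg.projInvFun.eq_def
  have := @_root_.Cfsg.projInvFun.eq_1
  have := @_root_.Cfsg.puigLower.eq_1.{0}
  trivial

theorem r0_13 : True := by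
  have := @_root_.Cfsg.puigSeq.eq_def.{0}
  have := @_root_.Cfsg.puigSeq.eq_1.{0}
  have := @_root_.Cfsg.puigSeq.induct
  have := @_root_.Cfsg.puigStep.eq_1.{0}
  have := @_root_.Cfsg.puigSubgroup.eq_1.{0}
  have := @_root_.Cfsg.qd.eq_1
  have := @_root_.Cfsg.qrWord.eq_def
  have := @_root_.Cfsg.qrWord.eq_1
  have := @_root_.Cfsg.quadFormMinus.eq_1.{0}
  have := @_root_.Cfsg.quadFormOdd.eq_1.{0}
  have := @_root_.Cfsg.quadFormPlus.eq_1.{0}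
  have := @_root_.Cfsg.quartets.eq_1
  have := @_root_.Cfsg.reflectionMatrix.eq_1.{0}
  have := @_root_.Cfsg.reflectionMatrix.congr_simp.{0}
  have := @_root_.Cfsg.sectionKernel.eq_1.{0}
  have := @_root_.Cfsg.sectionKernel.congr_simp.{0}
  have := @_root_.Cfsg.semiaffineGroup.eq_1.{0}
  have := @_root_.Cfsg.setSystemAut.eq_1.{0}
  have := @_root_.Cfsg.sextets.eq_1
  have := @_root_.Cfsg.siegelMatrix.eq_1.{0}
  have := @_root_.Cfsg.siegelMatrix.congr_simp.{0}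
  have := @_root_.Cfsg.sigma.eq_1.{0}
  have := @_root_.Cfsg.sigmaA.eq_1.{0}
  have := @_root_.Cfsg.sigmaA0.eq_1.{0}
  have := @_root_.Cfsg.sigmaCore.eq_1.{0}
  have := @_root_.Cfsg.sigmaHat.eq_1.{0}
  have := @_root_.Cfsg.sigmaSet.eq_1.{0}
  have := @_root_.Cfsg.sigmaZeroSet.eq_1.{0}
  have := @_root_.Cfsg.signalizerClosure.eq_1.{0}
  have := @_root_.Cfsg.signalizerDelta.eq_1.{0}
  trivial

theorem r0_14 : True := by
  have := @_root_.Cfsg.signalizerFamily.eq_1.{0}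
  have := @_root_.Cfsg.signalizerInf.eq_1.{0}
  have := @_root_.Cfsg.signedPerm.eq_1
  have := @_root_.Cfsg.slToMat.eq_1.{0}
  have := @_root_.Cfsg.spGL.eq_1.{0}
  have := @_root_.Cfsg.spToMat.eq_1.{0}
  have := @_root_.Cfsg.specialIsometryGroup.eq_1.{0}
  have := @_root_.Cfsg.sqNorm.eq_1.{0}
  have := @_root_.Cfsg.stabilizing.eq_1.{0,0}
  have := @_root_.Cfsg.stableNormalClosure.eq_1.{0}
  have := @_root_.Cfsg.stdCross.eq_1
  have := @_root_.Cfsg.supportR.eq_1.{0}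
  have := @_root_.Cfsg.supports.eq_1.{0}
  have := @_root_.Cfsg.suzukiForm.eq_1.{0}
  have := @_root_.Cfsg.suzukiOvoid.eq_1.{0}
  have := @_root_.Cfsg.suzukiPointInfinity.eq_1.{0}
  have := @_root_.Cfsg.suzukiPointZero.eq_1.{0}
  have := @_root_.Cfsg.suzukiTypeA.eq_1.{0}
  have := @_root_.Cfsg.sympForm.eq_1.{0}
  have := @_root_.Cfsg.sympTransvection.eq_1.{0}
  have := @_root_.Cfsg.systemNormalizer.eq_1.{0}
  have := @_root_.Cfsg.tau1.eq_1.{0}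
  have := @_root_.Cfsg.tau2.eq_1.{0}
  have := @_root_.Cfsg.tau3.eq_1.{0}
  have := @_root_.Cfsg.ternaryGolayCode.eq_1
  have := @_root_.Cfsg.ternarySupport.eq_1.{0}
  have := @_root_.Cfsg.tetracode.eq_1
  have := @_root_.Cfsg.thompsonSubgroup.eq_1.{0}
  have := @_root_.Cfsg.thompsonSubgroupA.eq_1.{0}
  have := @_root_.Cfsg.thompsonSubgroupAOf.eq_1.{0}
  trivial

theorem r0_15 : True := by
  have := @_root_.Cfsg.thompsonSubgroupOf.eq_1.{0}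
  have := @_root_.Cfsg.tildeOf.eq_1.{0}
  have := @_root_.Cfsg.trios.eq_1
  have := @_root_.Cfsg.twoPhiCore.eq_1.{0}
  have := @_root_.Cfsg.typeA.eq_1.{0}
  have := @_root_.Cfsg.typeA0.eq_1.{0}
  have := @_root_.Cfsg.typeA1.eq_1.{0}
  have := @_root_.Cfsg.typeCore.eq_1.{0}
  have := @_root_.Cfsg.unitaryTransvection.eq_1.{0}
  have := @_root_.Cfsg.upperPSeries.eq_def.{0}
  have := @_root_.Cfsg.upperPSeries.eq_1.{0}
  have := @_root_.Cfsg.upperPSeries.induct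
  trivial

end CL.BaseAux
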