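import Cfsg.Agent.Base.Imports

/-! On-demand lemmas of Prelude and Mathlib definitions, produced once here so that no other file holds a copy. -/

set_option linter.all false

namespace CL.BaseAux

theorem r17_0 : True := by
  have := @_root_.Projectivization.lift.eq_1.{0,0,0}
  have := @_root_.Projectivization.equivSubmodule.eq_1.{0,0}
  have := @_root_.Projectivization.map.eq_1.{0,0,0,0}
  have := @_root_.projectivizationSetoid.eq_1.{0,0}
  have := @_root_.Projectivization.mk.eq_1.{0,0}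
  have := @_root_.Projectivization.mk'.eq_1.{0,0}
  have := @_root_.Projectivization.rep.eq_1.{0,0}
  have := @_root_.Projectivization.mk''.eq_1.{0,0}
  have := @_root_.Projectivization.mk''.congr_simp.{0,0}
  have := @_root_.Projectivization.orthogonal.eq_1.{0,0}
  have := @_root_.Projectivization.cross.eq_1.{0}
  have := @_root_.Set.hasSups.eq_1.{0}
  have := @_root_.HasSups.sups.eq_1.{0}
  have := @_root_.HasInfs.infs.eq_1.{0}
  have := @_root_.Set.hasInfs.eq_1.{0}
  have := @_root_.Finset.hasInfs.eq_1.{0}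
  have := @_root_.Finset.hasSups.eq_1.{0}
  have := @_root_.SimpleGraph.Iso.connectedComponentEquiv.eq_1.{0,0}
  have := @_root_.SimpleGraph.Connected.mk.congr_simp.{0}
  have := @_root_.SimpleGraph.ConnectedComponent.eq_1.{0}
  have := @_root_.SimpleGraph.ConnectedComponent.isoEquivSupp.eq_1.{0,0}
  have := @_root_.SimpleGraph.ConnectedComponent.map.eq_1.{0,0}
  have := @_root_.SimpleGraph.homOfConnectedComponents.eq_1.{0,0}
  have := @_root_.SimpleGraph.ConnectedComponent.lift.eq_1.{0,0}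
  have := @_root_.SimpleGraph.ConnectedComponent.lift.congr_simp.{0,0}
  have := @_root_.SimpleGraph.reachableSetoid.eq_1.{0}
  have := @_root_.IndexedPartition.proj.eq_1.{0,0}
  have := @_root_.IndexedPartition.index.eq_1.{0,0}
  have := @_root_.Setoid.mkClasses.eq_1.{0}
  have := @_root_.Setoid.mkClasses.congr_simp.{0}
  trivial

theorem r17_1 : True := by
  have := @_root_.Setoid.quotientEquivClasses.eq_1.{0}
  have := @_root_.Setoid.Partitions.eq_1.{0}
  have := @_root_.IndexedPartition.setoid.eq_1.{0,0}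
  have := @_root_.IndexedPartition.out.eq_1.{0,0}
  have := @_root_.IndexedPartition.mk.congr_simp.{0,0}
  have := @_root_.IndexedPartition.mk'.eq_1.{0,0}
  have := @_root_.IndexedPartition.mk'.congr_simp.{0,0}
  have := @_root_.IndexedPartition.piecewise.eq_1.{0,0,0}
  have := @_root_.Setoid.IsPartition.finpartition.eq_1.{0}
  have := @_root_.Setoid.IsPartition.finpartition.congr_simp.{0}
  have := @_root_.Setoid.IsPartition.eq_1.{0}
  have := @_root_.Setoid.setoidOfDisjointUnion.eq_1.{0}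
  have := @_root_.Setoid.setoidOfDisjointUnion.congr_simp.{0}
  have := @_root_.IndexedPartition.some.eq_1.{0,0}
  have := @_root_.IndexedPartition.equivQuotient.eq_1.{0,0}
  have := @_root_.Setoid.Partition.orderIso.eq_1.{0}
  have := @_root_.IndexedPartition.Quotient.eq_1.{0,0}
  have := @_root_.IndexedPartition.coarserPartition.eq_1.{0,0,0}
  have := @_root_.IndexedPartition.coarserPartition.congr_simp.{0,0,0}
  have := @_root_.Setoid.Partitions.toSet.eq_1.{0}
  have := @_root_.SimpleGraph.Coloring.mk.eq_1.{0,0}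
  have := @_root_.SimpleGraph.Coloring.mk.congr_simp.{0,0}
  have := @_root_.SimpleGraph.Coloring.homMap.eq_1.{0,0}
  have := @_root_.SimpleGraph.Coloring.ofIsEmpty.eq_1.{0,0}
  have := @_root_.SimpleGraph.Coloring.ofIsEmpty.congr_simp.{0,0}
  have := @_root_.SimpleGraph.Coloring.comap.eq_1.{0,0,0}
  have := @_root_.SimpleGraph.Coloring.colorClass.eq_1.{0,0}
  have := @_root_.SimpleGraph.Colorable.toColoring.eq_1.{0,0}
  have := @_root_.SimpleGraph.Colorable.toColoring.congr_simp.{0,0}
  have := @_root_.SimpleGraph.selfColoring.eq_1.{0}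
  trivial

theorem r17_2 : True := by
  have := @_root_.SimpleGraph.coloringOfIsEmpty.eq_1.{0,0}
  have := @_root_.SimpleGraph.coloringOfIsEmpty.congr_simp.{0,0}
  have := @_root_.SimpleGraph.CompleteBipartiteGraph.bicoloring.eq_1.{0,0}
  have := @_root_.SimpleGraph.coloringCongr.eq_1.{0,0,0,0}
  have := @_root_.SimpleGraph.Coloring.eq_1.{0,0}
  have := @_root_.SimpleGraph.recolorOfEquiv.eq_1.{0,0,0}
  have := @_root_.SimpleGraph.recolorOfCardLE.eq_1.{0,0,0}
  have := @_root_.SimpleGraph.recolorOfCardLE.congr_simp.{0,0,0}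
  have := @_root_.SimpleGraph.recolorOfEmbedding.eq_1.{0,0,0}
  have := @_root_.SimpleGraph.completeMultipartiteGraph.coloring.eq_1.{0,0}
  have := @_root_.SimpleGraph.IsBipartite.eq_1.{0}
  have := @_root_.SimpleGraph.IsBipartiteWith.mk.congr_simp.{0}
  have := @_root_.SimpleGraph.Copy.completeBipartiteGraph.eq_1.{0,0,0}
  have := @_root_.SimpleGraph.Copy.completeBipartiteGraph.congr_simp.{0,0,0}
  have := @_root_.SimpleGraph.IsBipartiteWith.edgeSetEmbeddingCompleteBipartiteGraph.eq_1.{0}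
  have := @_root_.SimpleGraph.IsBipartiteWith.edgeSetEmbeddingCompleteBipartiteGraph.congr_simp.{0}
  have := @_root_.SimpleGraph.Subgraph.Preconnected.mk.congr_simp.{0}
  have := @_root_.SimpleGraph.Subgraph.Connected.mk.congr_simp.{0}
  have := @_root_.SimpleGraph.ConnectedComponent.toSubgraph.eq_1.{0}
  have := @_root_.SimpleGraph.Coloring.sumEquiv.eq_1.{0,0,0}
  have := @_root_.SimpleGraph.Embedding.sumInl.eq_1.{0,0}
  have := @_root_.SimpleGraph.Iso.sumAssoc.eq_1.{0,0,0}
  have := @_root_.SimpleGraph.Embedding.sum.eq_1.{0,0,0,0}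
  have := @_root_.SimpleGraph.sum.eq_1.{0,0}
  have := @_root_.SimpleGraph.Embedding.sumInr.eq_1.{0,0}
  have := @_root_.SimpleGraph.Coloring.sumFin.eq_1.{0,0}
  have := @_root_.SimpleGraph.Hom.sum.eq_1.{0,0,0,0}
  have := @_root_.SimpleGraph.Coloring.sumRight.eq_1.{0,0,0}
  have := @_root_.SimpleGraph.Iso.sumCongr.eq_1.{0,0,0,0}
  have := @_root_.SimpleGraph.Coloring.sumLeft.eq_1.{0,0,0}
  trivial

theorem r17_3 : True := by
  have := @_root_.SimpleGraph.Coloring.sum.eq_1.{0,0,0}
  have := @_root_.SimpleGraph.edgeSetSumEquiv.eq_1.{0,0}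
  have := @_root_.SimpleGraph.Iso.sumComm.eq_1.{0,0}
  have := @_root_.SimpleGraph.boxProdRight.eq_1.{0,0}
  have := @_root_.SimpleGraph.boxProdComm.eq_1.{0,0}
  have := @_root_.SimpleGraph.boxProdAssoc.eq_1.{0,0,0}
  have := @_root_.SimpleGraph.boxProd.eq_1.{0,0}
  have := @_root_.SimpleGraph.boxProdLeft.eq_1.{0,0}
  have := @_root_.SimpleGraph.Iso.boxProdSumDistrib.eq_1.{0,0,0}
  have := @_root_.SimpleGraph.Iso.sumBoxProdDistrib.eq_1.{0,0,0}
  have := @_root_.SimpleGraph.Walk.IsPath.pathGraphCopy.eq_1.{0}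
  have := @_root_.SimpleGraph.Walk.IsPath.pathGraphCopy.congr_simp.{0}
  have := @_root_.SimpleGraph.Walk.IsPath.pathGraphIsoToSubgraph.eq_1.{0}
  have := @_root_.SimpleGraph.Walk.IsPath.pathGraphIsoToSubgraph.congr_simp.{0}
  have := @_root_.SimpleGraph.Walk.pathGraphHom.eq_1.{0}
  have := @_root_.SimpleGraph.hasseDualIso.eq_1.{0}
  have := @_root_.SimpleGraph.cycleGraph.eq_def
  have := @_root_.SimpleGraph.IsTree.coloringTwoOfVert.eq_1.{0}
  have := @_root_.SimpleGraph.IsTree.coloringTwoOfVert.congr_simp.{0}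
  have := @_root_.SimpleGraph.IsAcyclic.coloringTwo.eq_1.{0}
  have := @_root_.SimpleGraph.IsAcyclic.coloringTwo.congr_simp.{0}
  have := @_root_.SimpleGraph.IsTree.coloringTwo.eq_1.{0}
  have := @_root_.SimpleGraph.IsTree.coloringTwo.congr_simp.{0}
  have := @_root_.SimpleGraph.IsAcyclic.coloringTwoOfVerts.eq_1.{0}
  have := @_root_.SimpleGraph.IsAcyclic.coloringTwoOfVerts.congr_simp.{0}
  have := @_root_.SimpleGraph.IsTree.mk.congr_simp.{0}
  have := @_root_.SimpleGraph.walkLengthTwoEquivCommonNeighbors.eq_1.{0}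
  have := @_root_.Matrix.IsAdjMatrix.toGraphSubmatrixHom.eq_1.{0,0,0}
  have := @_root_.SimpleGraph.adjMatrix.eq_1.{0,0}
  have := @_root_.Matrix.IsAdjMatrix.toGraphReindexIso.eq_1.{0,0,0}
  trivial

theorem r17_4 : True := by
  have := @_root_.Matrix.IsAdjMatrix.mk.congr_simp.{0,0}
  have := @_root_.Matrix.IsAdjMatrix.toGraphSubmatrixEmbedding.eq_1.{0,0,0}
  have := @_root_.SimpleGraph.IsTuranMaximal.setoid.congr_simp.{0}
  have := @_root_.SimpleGraph.IsTuranMaximal.finpartition.eq_1.{0}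
  have := @_root_.SimpleGraph.IsPathGraph3Compl.mk.congr_simp.{0}
  have := @_root_.SimpleGraph.pathGraph3ComplEmbeddingOf.eq_1.{0}
  have := @_root_.SimpleGraph.pathGraph3ComplEmbeddingOf.congr_simp.{0}
  have := @_root_.SimpleGraph.CompleteEquipartiteSubgraph.toCopy.eq_1.{0}
  have := @_root_.SimpleGraph.CompleteEquipartiteSubgraph.ofCopy.eq_1.{0}
  have := @_root_.SimpleGraph.IsCompleteMultipartite.iso.eq_1.{0}
  have := @_root_.SimpleGraph.completeEquipartiteGraph.turanGraph.eq_1
  have := @_root_.SimpleGraph.CompleteEquipartiteSubgraph.parts.eq_1.{0}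
  have := @_root_.SimpleGraph.CompleteEquipartiteSubgraph.mk.congr_simp.{0}
  have := @_root_.SimpleGraph.completeEquipartiteGraph.completeMultipartiteGraph.eq_1
  have := @_root_.SimpleGraph.IsCompleteMultipartite.eq_1.{0}
  have := @_root_.SimpleGraph.IsCompleteMultipartite.setoid.eq_1.{0}
  have := @_root_.SimpleGraph.IsCompleteMultipartite.setoid.congr_simp.{0}
  have := @_root_.SimpleGraph.completeEquipartiteGraph.eq_1
  have := @_root_.SimpleGraph.IsPathGraph3Compl.pathGraph3ComplEmbedding.eq_1.{0}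
  have := @_root_.SimpleGraph.IsPathGraph3Compl.pathGraph3ComplEmbedding.congr_simp.{0}
  have := @_root_.SimpleGraph.pathGraph_two_embedding.eq_1
  have := @_root_.SimpleGraph.pathGraph_two_embedding.congr_simp
  have := @_root_.SimpleGraph.pathGraph.bicoloring.eq_1
  have := @_root_.SimpleGraph.cycleGraph.tricoloring.eq_1
  have := @_root_.SimpleGraph.cycleGraph.tricoloring.congr_simp
  have := @_root_.SimpleGraph.Coloring.completeEquipartiteGraph.eq_1
  have := @_root_.SimpleGraph.cycleGraph.bicoloring_of_even.eq_1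
  have := @_root_.SimpleGraph.cycleGraph.bicoloring_of_even.congr_simp
  have := @_root_.SimpleGraph.EdgeLabeling.pullback.eq_1.{0,0,0}
  have := @_root_.SimpleGraph.TopEdgeLabeling.pullback.eq_1.{0,0,0}
  trivial

theorem r17_5 : True := by
  have := @_root_.SimpleGraph.toTopEdgeLabeling.eq_1.{0}
  have := @_root_.SimpleGraph.EdgeLabeling.compRight.eq_1.{0,0,0}
  have := @_root_.SimpleGraph.EdgeLabeling.mk.eq_1.{0,0}
  have := @_root_.SimpleGraph.TopEdgeLabeling.eq_1.{0,0}
  have := @_root_.SimpleGraph.EdgeLabeling.eq_1.{0,0}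
  have := @_root_.SimpleGraph.oddComponents.eq_1.{0}
  have := @_root_.SimpleGraph.center.eq_1.{0}
  have := @_root_.SimpleGraph.ComponentCompl.eq_1.{0}
  have := @_root_.SimpleGraph.ComponentCompl.hom.eq_1.{0}
  have := @_root_.SimpleGraph.ComponentCompl.lift.eq_1.{0,0}
  have := @_root_.SimpleGraph.ComponentCompl.lift.congr_simp.{0,0}
  have := @_root_.SimpleGraph.componentComplFunctor.eq_1.{0}
  have := @_root_.SimpleGraph.ComponentCompl.coeGraph.eq_1.{0}
  have := @_root_.SimpleGraph.end.eq_1.{0}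
  have := @_root_.SimpleGraph.componentComplMk.eq_1.{0}
  have := @_root_.SimpleGraph.turanDensityConst.eq_1.{0}
  have := @_root_.SimpleGraph.zarankiewicz.eq_1
  have := @_root_.SimpleGraph.FinsubgraphHom.eq_1.{0,0}
  have := @_root_.SimpleGraph.FinsubgraphHom.restrict.eq_1.{0,0}
  have := @_root_.SimpleGraph.FinsubgraphHom.restrict.congr_simp.{0,0}
  have := @_root_.SimpleGraph.finsubgraphOfAdj.congr_simp.{0}
  have := @_root_.SimpleGraph.finsubgraphHomFunctor.eq_1.{0,0}
  have := @_root_.SimpleGraph.Finsubgraph.eq_1.{0}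
  have := @_root_.SimpleGraph.FiveWheelLikeFree.eq_1.{0}
  have := @_root_.SimpleGraph.IsFiveWheelLike.mk.congr_simp.{0}
  have := @_root_.SimpleGraph.IsCycles.eq_1.{0}
  have := @_root_.SimpleGraph.IsMatchingFree.eq_1.{0}
  have := @_root_.SimpleGraph.Subgraph.IsPerfectMatching.eq_1.{0}
  have := @_root_.SimpleGraph.IsAlternating.eq_1.{0}
  have := @_root_.SimpleGraph.Walk.IsHamiltonianCycle.mk.congr_simp.{0}
  trivial

theorem r17_6 : True := by
  have := @_root_.SimpleGraph.Walk.IsHamiltonian.fintype.eq_1.{0}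
  have := @_root_.SimpleGraph.Walk.IsHamiltonian.fintype.congr_simp.{0}
  have := @_root_.SimpleGraph.Walk.IsHamiltonian.getVertEquiv.eq_1.{0}
  have := @_root_.SimpleGraph.Walk.IsHamiltonian.getVertEquiv.congr_simp.{0}
  have := @_root_.SimpleGraph.IsHamiltonian.eq_1.{0}
  have := @_root_.SimpleGraph.Walk.IsHamiltonian.supportGetEquiv.eq_1.{0}
  have := @_root_.SimpleGraph.Walk.IsHamiltonian.supportGetEquiv.congr_simp.{0}
  have := @_root_.SimpleGraph.lapMatrix_ker_basis.eq_1.{0}
  have := @_root_.SimpleGraph.Iso.lineGraph.eq_1.{0,0}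
  have := @_root_.SimpleGraph.Partition.PartsCardLe.eq_1.{0}
  have := @_root_.SimpleGraph.Partition.parts.eq_1.{0}
  have := @_root_.SimpleGraph.Coloring.toPartition.eq_1.{0,0}
  have := @_root_.SimpleGraph.Partition.toColoring.eq_1.{0}
  have := @_root_.SimpleGraph.Partitionable.eq_1.{0}
  have := @_root_.SimpleGraph.Partition.mk.congr_simp.{0}
  have := @_root_.SimpleGraph.Partition.toColoring'.eq_1.{0}
  have := @_root_.SimpleGraph.Partition.partOfVertex.eq_1.{0}
  have := @_root_.SimpleGraph.IsSRGWith.mk.congr_simp.{0}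
  have := @_root_.SimpleGraph.Walk.IsTrail.edgesFinset.eq_1.{0}
  have := @_root_.SimpleGraph.Walk.IsEulerian.eq_1.{0}
  have := @_root_.SimpleGraph.Walk.IsEulerian.congr_simp.{0}
  have := @_root_.SimpleGraph.Walk.IsEulerian.fintypeEdgeSet.eq_1.{0}
  have := @_root_.SimpleGraph.Walk.IsEulerian.fintypeEdgeSet.congr_simp.{0}
  have := @_root_.SimpleGraph.UnitDistEmbedding.bot.eq_1.{0,0}
  have := @_root_.SimpleGraph.UnitDistEmbedding.subsingleton.eq_1.{0,0}
  have := @_root_.SimpleGraph.UnitDistEmbedding.subsingleton.congr_simp.{0,0}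
  have := @_root_.SimpleGraph.UnitDistEmbedding.copy.eq_1.{0,0,0}
  have := @_root_.SimpleGraph.UnitDistEmbedding.mk.congr_simp.{0,0}
  have := @_root_.SimpleGraph.UnitDistEmbedding.embed.eq_1.{0,0,0}
  have := @_root_.SimpleGraph.UnitDistEmbedding.iso.eq_1.{0,0,0}
  trivial

theorem r17_7 : True := by
  have := @_root_.SimpleGraph.UnitDistEmbedding.p.eq_1.{0,0}
  have := @_root_.Nat.ppred.eq_def
  have := @_root_.Nat.ppred.eq_1
  have := @_root_.Function.Fiber.mkSelf.eq_1.{0,0}
  have := @_root_.Function.Fiber.image.eq_1.{0,0}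
  have := @_root_.Function.Fiber.preimage.eq_1.{0,0}
  have := @_root_.Function.Fiber.eq_1.{0,0}
  have := @_root_.Nat.Upto.zero.eq_1
  have := @_root_.Nat.Upto.succ.eq_1
  have := @_root_.Nat.Upto.succ.congr_simp
  have := @_root_.Nat.Upto.eq_1
  have := @_root_.Nat.Upto.GT.eq_1
  have := @_root_.Fin2.cases'.eq_def.{0}
  have := @_root_.Fin2.cases'.eq_1.{0}
  have := @_root_.Fin2.toFin.eq_def
  have := @_root_.Fin2.toFin.eq_1
  have := @_root_.Fin2.equivFin.eq_1
  have := @_root_.Fin2.optOfNat.eq_def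
  have := @_root_.Fin2.optOfNat.eq_1
  have := @_root_.Fin2.toNat.eq_def
  have := @_root_.Fin2.toNat.eq_1
  have := @_root_.Fin2.remapLeft.eq_def
  have := @_root_.Fin2.remapLeft.eq_1
  have := @_root_.Fin2.IsLT.mk.congr_simp
  have := @_root_.Fin2.ofNat'.eq_def
  have := @_root_.Fin2.ofNat'.eq_1
  have := @_root_.Fin2.ofFin.eq_1
  have := @_root_.Flag.rangeFin.eq_1.{0}
  have := @_root_.Flag.rangeFin.congr_simp.{0}
  have := @_root_.Function.fromTypes_succ_equiv.eq_1.{0}
  trivial

theorem r17_8 : True := by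
  have := @_root_.Function.fromTypes_zero_equiv.eq_1.{0}
  have := @_root_.Function.fromTypes_cons_equiv.eq_1.{0}
  have := @_root_.Function.fromTypes_nil_equiv.eq_1.{0}
  have := @_root_.Function.FromTypes.const.eq_def.{0}
  have := @_root_.Function.FromTypes.const.eq_1.{0}
  have := @_root_.Function.FromTypes.eq_def.{0}
  have := @_root_.Function.FromTypes.eq_1.{0}
  have := @_root_.Function.OfArity.eq_1.{0}
  have := @_root_.Function.FromTypes.fromTypes_fin_const_equiv.eq_1.{0}
  have := @_root_.Function.OfArity.const.eq_1.{0}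
  have := @_root_.Function.OfArity.curry.eq_1.{0}
  have := @_root_.Function.FromTypes.uncurry.eq_def.{0}
  have := @_root_.Function.FromTypes.uncurry.eq_1.{0}
  have := @_root_.Function.OfArity.curryEquiv.eq_1.{0}
  have := @_root_.Function.FromTypes.curryEquiv.eq_1.{0}
  have := @_root_.Function.FromTypes.curry.eq_def.{0}
  have := @_root_.Function.FromTypes.curry.eq_1.{0}
  have := @_root_.Function.OfArity.uncurry.eq_1.{0}
  have := @_root_.Fin.Embedding.cons.eq_1.{0}
  have := @_root_.Fin.Embedding.cons.congr_simp.{0}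
  have := @_root_.Fin.Embedding.tail.eq_1.{0}
  have := @_root_.Function.Embedding.embFinTwo.eq_1.{0}
  have := @_root_.Function.Embedding.embFinTwo.congr_simp.{0}
  have := @_root_.Function.Embedding.twoEmbeddingEquiv.eq_1.{0}
  have := @_root_.List.lookupAll.eq_def.{0,0}
  have := @_root_.List.lookupAll.eq_1.{0,0}
  have := @_root_.List.kreplace.eq_1.{0,0}
  have := @_root_.AList.replace.eq_1.{0,0}
  have := @_root_.AList.entries.eq_1.{0,0}
  have := @_root_.AList.foldl.eq_1.{0,0,0}
  trivial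

theorem r17_9 : True := by
  have := @_root_.AList.Disjoint.eq_1.{0,0}
  have := @_root_.AList.union.eq_1.{0,0}
  have := @_root_.Finset.traverse.congr_simp.{0}
  have := @_root_.Nat.divisorsHom.eq_1
  have := @_root_.Finsupp.pointwiseScalar.eq_1.{0,0,0}
  have := @_root_.Finsupp.vaddAntidiagonal.eq_1.{0,0}
  have := @_root_.Finsupp.vaddAntidiagonal.congr_simp.{0,0}
  have := @_root_.Int.bit.eq_1
  have := @_root_.Int.div2.eq_def
  have := @_root_.Int.div2.eq_1
  have := @_root_.Int.bodd.eq_def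
  have := @_root_.Int.bitCasesOn.eq_1.{0}
  have := @_root_.Int.land.eq_def
  have := @_root_.Int.land.eq_1
  have := @_root_.Int.xor.eq_def
  have := @_root_.Int.bitwise.eq_def
  have := @_root_.Int.lor.eq_def
  have := @_root_.Int.lnot.eq_def
  have := @_root_.Int.ldiff.eq_def
  have := @_root_.List.Palindrome.cons_concat.congr_simp.{0}
  have := @_root_.List.Shortlex.eq_1.{0}
  have := @_root_.mulLinearMap.eq_1.{0,0,0,0,0}
  have := @_root_.mulLinearMap.congr_simp.{0,0,0,0,0}
  have := @_root_.mulRightLinearMap.eq_1.{0,0,0,0,0}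
  have := @_root_.mulLeftLinearMap.eq_1.{0,0,0,0,0}
  have := @_root_.Matrix.toCols₂.eq_1.{0,0,0,0}
  have := @_root_.Matrix.toRows₁.eq_1.{0,0,0,0}
  have := @_root_.Matrix.toRows₂.eq_1.{0,0,0,0}
  have := @_root_.Matrix.toCols₁.eq_1.{0,0,0,0}
  have := @_root_.Matrix.dualNumberEquiv.eq_1
  trivial

theorem r17_10 : True := by
  have := @_root_.Multiset.IsDershowitzMannaLT.eq_1.{0}
  have := @_root_.Nat.chineseRemainderOfMultiset.eq_1.{0}
  have := @_root_.Nat.zeckendorfEquiv.eq_1
  have := @_root_.Nat.giCountNth.eq_1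
  have := @_root_.Nat.giCountNth.congr_simp
  have := @_root_.Set.fintypeBind.eq_1.{0}
  have := @_root_.Set.FiniteExhaustion.toFun.eq_1.{0}
  have := @_root_.Set.FiniteExhaustion.prod.eq_1.{0,0}
  have := @_root_.Set.FiniteExhaustion.mk.congr_simp.{0}
  have := @_root_.Set.Countable.finiteExhaustion.eq_1.{0}
  have := @_root_.Set.Countable.finiteExhaustion.congr_simp.{0}
  have := @_root_.Set.opEquiv.eq_1.{0}
  have := @_root_.Set.op.eq_1.{0}
  have := @_root_.Set.unop.eq_1.{0}
  have := @_root_.Set.opEquiv_self.eq_1.{0}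
  have := @_root_.Sigma.LE.fiber.congr_simp.{0,0}
  have := @_root_.Sigma.LT.fiber.congr_simp.{0,0}
  have := @_root_.Finset.sumLexLift.eq_def.{0,0,0,0,0,0}
  have := @_root_.Finset.sumLift₂.eq_def.{0,0,0,0,0,0}
  have := @_root_.Sum.Lex.inrLatticeHom.eq_1.{0,0}
  have := @_root_.Sum.Lex.inlLatticeHom.eq_1.{0,0}
  have := @_root_.Finsupp.sym2Mul.eq_1.{0,0}
  have := @_root_.List.Vector.revInductionOn.eq_1.{0,0}
  have := @_root_.List.Vector.revInductionOn₂.eq_1.{0,0,0}
  have := @_root_.List.Vector.revCasesOn.eq_1.{0,0}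
  have := @_root_.List.Vector.zipWith.eq_1.{0,0,0}
  have := @_root_.FreeAlgebra.basisFreeMonoid.eq_1.{0,0}
  have := @_root_.FiniteField.Extension.eq_1.{0}
  have := @_root_.FiniteField.algEquivExtension.eq_1.{0,0}
  have := @_root_.MvPolynomial.R.eq_1.{0}
  trivial

theorem r17_11 : True := by
  have := @_root_.MvPolynomial.evalₗ.eq_1.{0,0}
  have := @_root_.IsGalois.normalBasis.eq_1.{0,0}
  have := @_root_.IsGalois.normalBasis.congr_simp.{0,0}
  have := @_root_.InfiniteGalois.mulEquivToLimit.eq_1.{0,0}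
  have := @_root_.FiniteGaloisIntermediateField.finGaloisGroup.eq_1.{0,0}
  have := @_root_.InfiniteGalois.proj.eq_1.{0,0}
  have := @_root_.InfiniteGalois.profiniteGalGrpIsoLimit.eq_1.{0,0}
  have := @_root_.InfiniteGalois.limitToAlgEquiv.eq_1.{0,0}
  have := @_root_.InfiniteGalois.algEquivToLimit.eq_1.{0,0}
  have := @_root_.InfiniteGalois.continuousMulEquivToLimit.eq_1.{0,0}
  have := @_root_.InfiniteGalois.continuousMulEquivToLimit.congr_simp.{0,0}
  have := @_root_.InfiniteGalois.asProfiniteGaloisGroupFunctor.eq_1.{0,0}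
  have := @_root_.finGaloisGroupMap.eq_1.{0,0}
  have := @_root_.InfiniteGalois.profiniteGalGrp.eq_1.{0,0}
  have := @_root_.InfiniteGalois.profiniteGalGrp.congr_simp.{0,0}
  have := @_root_.finGaloisGroupFunctor.eq_1.{0,0}
  have := @_root_.Subalgebra.lTensorBot.eq_1.{0,0}
  have := @_root_.Subalgebra.rTensorBot.eq_1.{0,0}
  have := @_root_.Algebra.TensorProduct.linearEquivIncludeRange.eq_1.{0,0,0}
  have := @_root_.Algebra.TensorProduct.algEquivIncludeRange.eq_1.{0,0,0}
  have := @_root_.Subgroup.quotConjEquiv.eq_1.{0}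
  have := @_root_.Subgroup.Commensurable.commensurator.eq_1.{0}
  have := @_root_.Subgroup.Commensurable.commensurator'.eq_1.{0}
  have := @_root_.IsKleinFour.mk.congr_simp.{0}
  have := @_root_.IsAddKleinFour.mk.congr_simp.{0}
  have := @_root_.IsKleinFour.mulEquiv.congr_simp.{0,0}
  have := @_root_.IsAddKleinFour.addEquiv.congr_simp.{0,0}
  have := @_root_.IsAddKleinFour.addEquiv'.congr_simp.{0,0}
  have := @_root_.IsKleinFour.mulEquiv'.congr_simp.{0,0}
  have := @_root_.instDecidableEqDihedralGroup.decEq.eq_def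
  trivial

theorem r17_12 : True := by
  have := @_root_.instDecidableEqDihedralGroup.decEq.eq_1
  have := @_root_.DihedralGroup.equivSum.eq_1
  have := @_root_.DihedralGroup.oddCommuteEquiv.eq_1
  have := @_root_.DihedralGroup.oddCommuteEquiv.congr_simp
  have := @_root_.DihedralGroup.Product.eq_1
  have := @_root_.AddMonoid.Coprod.clift.congr_simp.{0,0,0}
  have := @_root_.Monoid.Coprod.clift.congr_simp.{0,0,0}
  have := @_root_.FreeGroupBasis.ofLift.congr_simp.{0}
  have := @_root_.IsFreeAddGroup.Generators.congr_simp.{0}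
  have := @_root_.FreeGroupBasis.ofUniqueLift.congr_simp.{0}
  have := @_root_.IsFreeGroup.Generators.congr_simp.{0}
  have := @_root_.FreeAddGroupBasis.ofLift.congr_simp.{0}
  have := @_root_.IsFreeGroup.mk.congr_simp.{0}
  have := @_root_.FreeAddGroupBasis.ofUniqueLift.congr_simp.{0}
  have := @_root_.IsFreeAddGroup.mk.congr_simp.{0}
  have := @_root_.Monoid.CoprodI.eq_1.{0,0}
  have := @_root_.Monoid.CoprodI.Word.Pair.head.eq_1.{0,0}
  have := @_root_.Monoid.CoprodI.Word.equiv.eq_1.{0,0}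
  have := @_root_.Monoid.CoprodI.FreeGroupBasis.coprodI.eq_1.{0,0,0}
  have := @_root_.Monoid.CoprodI.of.eq_1.{0,0}
  have := @_root_.Monoid.CoprodI.Word.toList.eq_1.{0,0}
  have := @_root_.freeGroupEquivCoprodI.eq_1.{0}
  have := @_root_.Monoid.CoprodI.Word.consRecOn.eq_1.{0,0,0}
  have := @_root_.Monoid.CoprodI.Word.Pair.tail.eq_1.{0,0}
  have := @_root_.CoxeterMatrix.I.eq_1
  have := @_root_.CoxeterMatrix.F₄.eq_1
  have := @_root_.CoxeterMatrix.H₄.eq_1
  have := @_root_.CoxeterMatrix.H₃.eq_1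
  have := @_root_.CoxeterMatrix.E₇.eq_1
  have := @_root_.CoxeterMatrix.Bₙ.eq_1
  trivial

theorem r17_13 : True := by
  have := @_root_.CoxeterMatrix.D.eq_1
  have := @_root_.CoxeterMatrix.mk.congr_simp.{0}
  have := @_root_.CoxeterMatrix.G₂.eq_1
  have := @_root_.CoxeterMatrix.A.eq_1
  have := @_root_.CoxeterMatrix.reindex.eq_1.{0,0}
  have := @_root_.CoxeterMatrix.E₈.eq_1
  have := @_root_.CoxeterMatrix.B.eq_1
  have := @_root_.CoxeterMatrix.Aₙ.eq_1
  have := @_root_.CoxeterMatrix.Dₙ.eq_1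
  have := @_root_.CoxeterMatrix.I₂ₙ.eq_1
  have := @_root_.CoxeterMatrix.E₆.eq_1
  have := @_root_.CoxeterMatrix.M.eq_1.{0}
  have := @_root_.PresentedGroup.map.eq_1.{0,0}
  have := @_root_.PresentedGroup.map.congr_simp.{0,0}
  have := @_root_.PresentedGroup.mk.eq_1.{0}
  have := @_root_.PresentedGroup.eq_1.{0}
  have := @_root_.PresentedGroup.equivPresentedGroup.eq_1.{0,0}
  have := @_root_.PresentedGroup.coprodPresentations.eq_1.{0,0}
  have := @_root_.PresentedGroup.toGroup.eq_1.{0,0}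
  have := @_root_.PresentedGroup.toCoprod.eq_1.{0,0}
  have := @_root_.CoxeterSystem.lift.eq_1.{0,0,0}
  have := @_root_.CoxeterMatrix.simple.eq_1.{0}
  have := @_root_.CoxeterSystem.braidWord.eq_1.{0}
  have := @_root_.CoxeterMatrix.reindexGroupEquiv.eq_1.{0,0}
  have := @_root_.CoxeterSystem.mulEquiv.eq_1.{0,0}
  have := @_root_.IsCoxeterGroup.mk.congr_simp.{0}
  have := @_root_.CoxeterSystem.map.eq_1.{0,0,0}
  have := @_root_.CoxeterMatrix.Group.eq_1.{0}
  have := @_root_.CoxeterMatrix.toCoxeterSystem.eq_1.{0}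
  have := @_root_.CoxeterSystem.reindex.eq_1.{0,0,0}
  trivial

theorem r17_14 : True := by
  have := @_root_.CoxeterSystem.lengthParity.eq_1.{0,0}
  have := @_root_.CoxeterSystem.length.eq_1.{0,0}
  have := @_root_.CoxeterSystem.IsReflection.eq_1.{0,0}
  have := @_root_.DivisibleHull.coe.eq_1.{0}
  have := @_root_.DivisibleHull.coeAddMonoidHom.eq_1.{0}
  have := @_root_.DivisibleHull.eq_1.{0}
  have := @_root_.DivisibleHull.liftOn.eq_1.{0,0}
  have := @_root_.DivisibleHull.coeOrderAddMonoidHom.eq_1.{0}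
  have := @_root_.DivisibleHull.archimedeanClassOrderIso.eq_1.{0}
  have := @_root_.DivisibleHull.liftOn₂.eq_1.{0,0}
  have := @_root_.DivisibleHull.liftOn₂.congr_simp.{0,0}
  have := @_root_.DoubleCoset.Quotient.eq_1.{0}
  have := @_root_.DoubleCoset.setoid.eq_1.{0}
  have := @_root_.DoubleCoset.mk.eq_1.{0}
  have := @_root_.CommGroup.monoidHomMonoidHomEquiv.eq_1.{0,0}
  have := @_root_.FiniteIndexNormalAddSubgroup.ofAddSubgroup.congr_simp.{0}
  have := @_root_.FiniteIndexNormalAddSubgroup.toAddSubgroup.eq_1.{0}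
  have := @_root_.FiniteIndexNormalSubgroup.toSubgroup.eq_1.{0}
  have := @_root_.FiniteIndexNormalAddSubgroup.mk.congr_simp.{0}
  have := @_root_.FiniteIndexNormalSubgroup.mk.congr_simp.{0}
  have := @_root_.FiniteIndexNormalSubgroup.ofSubgroup.congr_simp.{0}
  have := @_root_.MonoidHom.transferSylow.eq_1.{0}
  have := @_root_.MonoidHom.transferSylow.congr_simp.{0}
  have := @_root_.Subgroup.transferTransversal.eq_1.{0}
  have := @_root_.AddMonoidHom.transfer.congr_simp.{0,0}
  have := @_root_.Subgroup.transferFunction.eq_1.{0}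
  have := @_root_.AddSubgroup.leftTransversals.diff.congr_simp.{0,0}
  have := @_root_.Subgroup.leftTransversals.diff.congr_simp.{0,0}
  have := @_root_.Subgroup.transferSet.eq_1.{0}
  have := @_root_.MonoidHom.transferCenterPow.eq_1.{0}
  trivial

theorem r17_15 : True := by
  have := @_root_.Subgroup.cardCommutatorBound.eq_1
  have := @_root_.Group.IsFinitelyPresented.mk.congr_simp.{0}
  have := @_root_.AddGroup.IsFinitelyPresented.mk.congr_simp.{0}
  have := @_root_.Subgroup.IsNormalClosureFG.eq_1.{0}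
  have := @_root_.MonoidHom.FixedPointFree.eq_1.{0}
  have := @_root_.MonoidHom.FixedPointFree.commGroupOfInvolutive.eq_1.{0,0}
  have := @_root_.MonoidHom.FixedPointFree.commGroupOfInvolutive.congr_simp.{0,0}
  have := @_root_.MonoidHom.commutatorMap.eq_1.{0}
  have := @_root_.Subgroup.transferFocal.quotientKerMulEquivQuotientFocalSubroupOf.eq_1.{0}
  have := @_root_.Subgroup.transferFocal.quotientKerMulEquivQuotientFocalSubroupOf.congr_simp.{0}
  trivial

end CL.BaseAux
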